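import Mathlib

/-! Length of the quotient of a free module over a PID by a full-rank free submodule equals
the order of vanishing of the determinant of a basis change. -/

namespace Groth.Agent.Lib.helper27.LengthDet
open Module Submodule

variable {R M ι : Type*} [CommRing R] [IsDomain R] [IsPrincipalIdealRing R] [AddCommGroup M]
  [Module R M] [Fintype ι] [DecidableEq ι]

omit [IsPrincipalIdealRing R] [Fintype ι] in
lemma ord_prod (a : ι → R) (ha : ∀ i, a i ≠ 0) (s : Finset ι) :
    Ring.ord R (∏ i ∈ s, a i) = ∑ i ∈ s, Ring.ord R (a i) := by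
  classical
  induction s using Finset.induction_on with
  | empty => simp
  | insert i s hi ih =>
    rw [Finset.prod_insert hi, Finset.sum_insert hi,
      Ring.ord_mul' R (mem_nonZeroDivisors_of_ne_zero (ha i)), ih]

theorem length_quotient_eq_ord_det (b : Basis ι R M) (N : Submodule R M) (bN : Basis ι R N) :
    Module.length R (M ⧸ N) = Ring.ord R (b.det ((↑) ∘ bN)) := by
  have h : Module.finrank R N = Module.finrank R M := by
    rw [Module.finrank_eq_card_basis bN, Module.finrank_eq_card_basis b]
  let a := smithNormalFormCoeffs b h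
  let b' := smithNormalFormTopBasis b h
  let ab := smithNormalFormBotBasis b h
  have ab_eq := smithNormalFormBotBasis_def b h
  let e' : M ≃ₗ[R] N := b'.equiv ab (Equiv.refl _)
  let f : M →ₗ[R] M := N.subtype.comp (e' : M →ₗ[R] N)
  have ha : ∀ i, f (b' i) = a i • b' i := by
    intro i
    show ((b'.equiv ab (Equiv.refl _) (b' i) : N) : M) = _
    rw [b'.equiv_apply, Equiv.refl_apply]; exact ab_eq i
  have hdet : LinearMap.det f = ∏ i, a i := by
    rw [← LinearMap.det_toMatrix b']
    have : LinearMap.toMatrix b' b' f = Matrix.diagonal a := by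
      ext i j
      rw [LinearMap.toMatrix_apply, ha, map_smul, Basis.repr_self, Finsupp.smul_single,
        smul_eq_mul, mul_one]
      by_cases h : i = j
      · rw [h, Matrix.diagonal_apply_eq, Finsupp.single_eq_same]
      · rw [Matrix.diagonal_apply_ne _ h, Finsupp.single_eq_of_ne h]
    rw [this, Matrix.det_diagonal]
  have h1 : Ring.ord R (b.det ((↑) ∘ bN)) = Ring.ord R (LinearMap.det f) := by
    apply Ring.ord_eq_of_associated
    have := bN.det_comp_basis b N.subtype
    rw [show ((↑) ∘ bN : ι → M) = N.subtype ∘ bN from rfl, this]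
    exact LinearMap.associated_det_comp_equiv _ _ _
  rw [h1, hdet, ord_prod a (smithNormalFormCoeffs_ne_zero b h) Finset.univ,
    (quotientEquivPiSpan N b h).length_eq, Module.length_pi_of_fintype]
  rfl

end Groth.Agent.Lib.helper27.LengthDet
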