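import Mathlib

/-! Lattices in `R^3`, `R = k⟦X⟧`: helper lemmas for the Crimp rows. -/

namespace Groth.Agent.Lib.helper27.Crimp

open PowerSeries

variable {k : Type*} [Field k]

local notation "R" => PowerSeries k
local notation "V" => (Fin 3 → PowerSeries k)

/-- the matrix with rows `u, v, w` -/
def rows (u v w : V) : Matrix (Fin 3) (Fin 3) R := Matrix.of ![u, v, w]

lemma vecMul_rows (a : Fin 3 → R) (u v w : V) :
    Matrix.vecMul a (rows u v w) = a 0 • u + a 1 • v + a 2 • w := by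
  funext j
  simp [rows, Matrix.vecMul, dotProduct, Fin.sum_univ_three]

lemma exists_repr {u v w : V} (hdet : IsUnit (rows u v w).det) (x : V) :
    ∃ a b c : R, x = a • u + b • v + c • w := by
  have hD : IsUnit (rows u v w) := (Matrix.isUnit_iff_isUnit_det _).2 hdet
  obtain ⟨D, hD'⟩ := hD
  refine ⟨Matrix.vecMul x (↑D⁻¹ : Matrix (Fin 3) (Fin 3) R) 0,
    Matrix.vecMul x (↑D⁻¹ : Matrix (Fin 3) (Fin 3) R) 1,
    Matrix.vecMul x (↑D⁻¹ : Matrix (Fin 3) (Fin 3) R) 2, ?_⟩
  rw [← vecMul_rows, ← hD', Matrix.vecMul_vecMul]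
  simp

lemma det_rows_smul_add (u w v3 : V) (a : R) :
    (rows u (a • u + (X : R) • w) v3).det = X * (rows u w v3).det := by
  simp only [rows, Matrix.det_fin_three, Matrix.of_apply, Matrix.cons_val_zero, Matrix.cons_val_one,
    Matrix.cons_val, Pi.add_apply, Pi.smul_apply, smul_eq_mul]
  ring

lemma not_isUnit_X' : ¬ IsUnit (X : R) := X_prime.not_unit

lemma mem_span_X_smul_top {n : ℕ} (x : V) :
    x ∈ Ideal.span {(X : R) ^ n} • (⊤ : Submodule R V) ↔ ∃ w : V, x = (X : R) ^ n • w := by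
  rw [Submodule.ideal_span_singleton_smul, Submodule.mem_smul_pointwise_iff_exists]
  constructor
  · rintro ⟨w, _, rfl⟩; exact ⟨w, rfl⟩
  · rintro ⟨w, rfl⟩; exact ⟨w, trivial, rfl⟩

/-- Structure lemma: if `(1, v2, v3)` is a basis and `S` consists of the combinations
`a•1 + b•v2 + c•v3` with `X^m ∣ b`, `X^n ∣ c`, then `S = R·1 + R·X^m v2 + X^n V` and `v2` is
independent of `1` modulo `X`. -/
lemma structure_of_basis (S : Submodule R V) (v2 v3 : V) (m n : ℕ) (hmn : m ≤ n)
    (hdet : IsUnit (rows 1 v2 v3).det)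
    (hS : ∀ a b c : R, a • (1 : V) + b • v2 + c • v3 ∈ S ↔ (X : R) ^ m ∣ b ∧ (X : R) ^ n ∣ c) :
    v2 ∉ Submodule.span R {(1 : V)} ⊔ Ideal.span {(X : R)} • (⊤ : Submodule R V) ∧
    S = Submodule.span R {(1 : V), ((X : R) ^ m) • v2} ⊔
        Ideal.span {(X : R) ^ n} • (⊤ : Submodule R V) := by
  constructor
  · intro hv
    rw [Submodule.mem_sup] at hv
    obtain ⟨y, hy, z, hz, hyz⟩ := hv
    rw [Submodule.mem_span_singleton] at hy
    obtain ⟨a, rfl⟩ := hy
    have hz' : z ∈ Ideal.span {(X : R) ^ 1} • (⊤ : Submodule R V) := by simpa using hz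
    rw [mem_span_X_smul_top] at hz'
    obtain ⟨w, rfl⟩ := hz'
    rw [pow_one] at hyz
    rw [← hyz, det_rows_smul_add] at hdet
    exact not_isUnit_X' (isUnit_of_mul_isUnit_left hdet)
  · apply le_antisymm
    · intro s hs
      obtain ⟨a, b, c, rfl⟩ := exists_repr hdet s
      obtain ⟨⟨b', rfl⟩, ⟨c', rfl⟩⟩ := (hS a b c).1 hs
      refine Submodule.add_mem _ (Submodule.mem_sup_left ?_) (Submodule.mem_sup_right ?_)
      · refine Submodule.add_mem _ (Submodule.smul_mem _ _ (Submodule.subset_span (by simp))) ?_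
        have : ((X : R) ^ m * b') • v2 = b' • ((X : R) ^ m • v2) := by
          rw [smul_smul, mul_comm]
        rw [this]
        exact Submodule.smul_mem _ _ (Submodule.subset_span (by simp))
      · rw [mem_span_X_smul_top]
        exact ⟨c' • v3, by rw [smul_smul]⟩
    · rw [sup_le_iff]
      constructor
      · rw [Submodule.span_le]
        rintro x (rfl | rfl)
        · have := (hS 1 0 0).2 ⟨dvd_zero _, dvd_zero _⟩
          simpa using this
        · have := (hS 0 ((X : R) ^ m) 0).2 ⟨dvd_refl _, dvd_zero _⟩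
          simpa using this
      · intro x hx
        rw [mem_span_X_smul_top] at hx
        obtain ⟨w, rfl⟩ := hx
        obtain ⟨a, b, c, rfl⟩ := exists_repr hdet w
        have := (hS ((X : R) ^ n * a) ((X : R) ^ n * b) ((X : R) ^ n * c)).2
          ⟨Dvd.dvd.mul_right (pow_dvd_pow _ hmn) _, Dvd.intro _ rfl⟩
        simpa [smul_add, smul_smul] using this

lemma repr_unique {u v w : V} (hdet : IsUnit (rows u v w).det) {a b c a' b' c' : R}
    (h : a • u + b • v + c • w = a' • u + b' • v + c' • w) : a = a' ∧ b = b' ∧ c = c' := by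
  have hD : IsUnit (rows u v w) := (Matrix.isUnit_iff_isUnit_det _).2 hdet
  obtain ⟨D, hD'⟩ := hD
  have h1 : Matrix.vecMul ![a, b, c] (rows u v w) = Matrix.vecMul ![a', b', c'] (rows u v w) := by
    rw [vecMul_rows, vecMul_rows]; simpa using h
  have h2 : (![a, b, c] : Fin 3 → R) = ![a', b', c'] := by
    have := congrArg (fun x => Matrix.vecMul x (↑D⁻¹ : Matrix (Fin 3) (Fin 3) R)) h1
    simp only [← hD', Matrix.vecMul_vecMul] at this
    simpa using this
  refine ⟨?_, ?_, ?_⟩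
  · simpa using congrFun h2 0
  · simpa using congrFun h2 1
  · simpa using congrFun h2 2

/-- membership characterisation for `S = R·1 + R·X^m f + X^n V` when `(1, f, g)` is a basis -/
lemma mem_iff_of_span (f g : V) (m n : ℕ) (hmn : m ≤ n) (hdet : IsUnit (rows 1 f g).det)
    (S : Submodule R V)
    (hS : S = Submodule.span R {(1 : V), ((X : R) ^ m) • f} ⊔
        Ideal.span {(X : R) ^ n} • (⊤ : Submodule R V)) :
    ∀ a b c : R, a • (1 : V) + b • f + c • g ∈ S ↔ (X : R) ^ m ∣ b ∧ (X : R) ^ n ∣ c := by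
  intro a b c
  constructor
  · intro h
    rw [hS, Submodule.mem_sup] at h
    obtain ⟨y, hy, z, hz, hyz⟩ := h
    rw [Submodule.mem_span_pair] at hy
    obtain ⟨a', b', rfl⟩ := hy
    rw [mem_span_X_smul_top] at hz
    obtain ⟨w, rfl⟩ := hz
    obtain ⟨a'', b'', c'', rfl⟩ := exists_repr hdet w
    have e : a' • (1 : V) + b' • ((X : R) ^ m • f) + (X : R) ^ n • (a'' • 1 + b'' • f + c'' • g) =
        (a' + X ^ n * a'') • (1 : V) + (b' * X ^ m + X ^ n * b'') • f + (X ^ n * c'') • g := by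
      simp only [smul_add, smul_smul, add_smul]; abel
    rw [e] at hyz
    obtain ⟨-, rfl, rfl⟩ := repr_unique hdet hyz
    exact ⟨dvd_add (Dvd.intro_left _ rfl) (Dvd.dvd.mul_right (pow_dvd_pow _ hmn) _), Dvd.intro _ rfl⟩
  · rintro ⟨⟨b', rfl⟩, ⟨c', rfl⟩⟩
    rw [hS]
    refine Submodule.add_mem _ (Submodule.mem_sup_left ?_) (Submodule.mem_sup_right ?_)
    · refine Submodule.add_mem _ (Submodule.smul_mem _ _ (Submodule.subset_span (by simp))) ?_
      have : ((X : R) ^ m * b') • f = b' • ((X : R) ^ m • f) := by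
        rw [smul_smul, mul_comm]
      rw [this]
      exact Submodule.smul_mem _ _ (Submodule.subset_span (by simp))
    · rw [mem_span_X_smul_top]
      exact ⟨c' • g, by rw [smul_smul]⟩

/-- the quotient by a lattice with basis `(1, X^m v2, X^n v3)` -/
lemma quotient_equiv_of_basis (S : Submodule R V) (v2 v3 : V) (m n : ℕ)
    (hdet : IsUnit (rows 1 v2 v3).det)
    (hS : ∀ a b c : R, a • (1 : V) + b • v2 + c • v3 ∈ S ↔ (X : R) ^ m ∣ b ∧ (X : R) ^ n ∣ c) :
    Nonempty ((V ⧸ S) ≃ₗ[R]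
      ((R ⧸ Ideal.span {(X : R) ^ m}) × (R ⧸ Ideal.span {(X : R) ^ n}))) := by
  have hD : IsUnit (rows 1 v2 v3) := (Matrix.isUnit_iff_isUnit_det _).2 hdet
  obtain ⟨D, hD'⟩ := hD
  let coords : V →ₗ[R] V := Matrix.vecMulLinear (↑D⁻¹ : Matrix (Fin 3) (Fin 3) R)
  have hcoords : ∀ a b c : R, coords (a • (1 : V) + b • v2 + c • v3) = ![a, b, c] := by
    intro a b c
    have : a • (1 : V) + b • v2 + c • v3 = Matrix.vecMul ![a, b, c] (rows 1 v2 v3) := by
      rw [vecMul_rows]; simp
    rw [this, ← hD']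
    show Matrix.vecMul (Matrix.vecMul ![a, b, c] (D : Matrix (Fin 3) (Fin 3) R)) _ = _
    rw [Matrix.vecMul_vecMul]
    simp
  let Φ : V →ₗ[R] ((R ⧸ Ideal.span {(X : R) ^ m}) × (R ⧸ Ideal.span {(X : R) ^ n})) :=
    LinearMap.prod ((Submodule.mkQ _) ∘ₗ (LinearMap.proj 1) ∘ₗ coords)
      ((Submodule.mkQ _) ∘ₗ (LinearMap.proj 2) ∘ₗ coords)
  have hΦ : ∀ a b c : R, Φ (a • (1 : V) + b • v2 + c • v3) =
      (Ideal.Quotient.mk _ b, Ideal.Quotient.mk _ c) := by
    intro a b c
    show ((Submodule.mkQ _) ((coords (a • (1 : V) + b • v2 + c • v3)) 1),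
      (Submodule.mkQ _) ((coords (a • (1 : V) + b • v2 + c • v3)) 2)) = _
    rw [hcoords]
    rfl
  have hsurj : Function.Surjective Φ := by
    rintro ⟨p, q⟩
    obtain ⟨b, rfl⟩ := Ideal.Quotient.mk_surjective p
    obtain ⟨c, rfl⟩ := Ideal.Quotient.mk_surjective q
    exact ⟨(0 : R) • (1 : V) + b • v2 + c • v3, hΦ 0 b c⟩
  have hker : LinearMap.ker Φ = S := by
    ext x
    obtain ⟨a, b, c, rfl⟩ := exists_repr hdet x
    rw [LinearMap.mem_ker, hΦ, hS, Prod.mk_eq_zero, Ideal.Quotient.eq_zero_iff_mem,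
      Ideal.Quotient.eq_zero_iff_mem, Ideal.mem_span_singleton, Ideal.mem_span_singleton]
  exact ⟨(Submodule.quotEquivOfEq _ _ hker.symm).trans (Φ.quotKerEquivOfSurjective hsurj)⟩

/-- a vector independent of `1` modulo `X` extends with a coordinate vector to a basis -/
lemma exists_single_det_unit (f : V)
    (hf : f ∉ Submodule.span R {(1 : V)} ⊔ Ideal.span {(X : R)} • (⊤ : Submodule R V)) :
    ∃ j : Fin 3, IsUnit (rows 1 f (Pi.single j 1)).det := by
  by_contra hcon
  push Not at hcon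
  have h0 := hcon 0
  have h1 := hcon 1
  have h2 := hcon 2
  simp only [rows, Matrix.det_fin_three, Matrix.of_apply, Matrix.cons_val_zero, Matrix.cons_val_one,
    Matrix.cons_val, Pi.one_apply, isUnit_iff_constantCoeff, isUnit_iff_ne_zero, not_not] at h0 h1 h2
  simp at h0 h1 h2
  apply hf
  have e1 : constantCoeff (f 1) = constantCoeff (f 0) := by linear_combination h2
  have e2 : constantCoeff (f 2) = constantCoeff (f 0) := by linear_combination (-1 : k) * h1
  have hw : ∀ j, ∃ y : R, f j - C (constantCoeff (f 0)) = X * y := by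
    intro j
    apply X_dvd_iff.2
    fin_cases j <;> simp [e1, e2]
  choose w hw using hw
  rw [Submodule.mem_sup]
  refine ⟨C (constantCoeff (f 0)) • (1 : V), Submodule.smul_mem _ _ (Submodule.subset_span rfl),
    (X : R) • w, ?_, ?_⟩
  · have : (X : R) • w ∈ Ideal.span {(X : R) ^ 1} • (⊤ : Submodule R V) := by
      rw [mem_span_X_smul_top]; exact ⟨w, by rw [pow_one]⟩
    simpa using this
  · funext j
    have := hw j
    simp only [Pi.add_apply, Pi.smul_apply, Pi.one_apply, smul_eq_mul, mul_one]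
    rw [← this]; ring


end Groth.Agent.Lib.helper27.Crimp
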