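import Mathlib

/-! Abstract symmetric trilinear forms: polarization, reflections, Eckardt normal form. -/

namespace Groth.Agent.Lib.helper27.CubicTri

set_option linter.unusedSectionVars false
set_option linter.unusedVariables false

/-- expand multilinear expressions, sort the arguments of the symmetric form, and call `ring`. -/
syntax "tri_ring" term:max term:max : tactic
macro_rules
  | `(tactic| tri_ring $a $b) =>
    `(tactic| (simp only [map_add, map_sub, map_smul, map_neg, map_zero, LinearMap.add_apply,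
        LinearMap.sub_apply, LinearMap.smul_apply, LinearMap.neg_apply, LinearMap.zero_apply,
        smul_eq_mul]; simp only [$a:term, $b:term]; ring))

variable {k V : Type*} [Field k] [CharZero k] [AddCommGroup V] [Module k V]
variable (T : V →ₗ[k] V →ₗ[k] V →ₗ[k] k) (s12 : ∀ x y z, T x y z = T y x z)
  (s23 : ∀ x y z, T x y z = T x z y)

/-- the product of two linear functionals vanishes identically only if one of them does. -/
theorem linear_mul_eq_zero (l d : V →ₗ[k] k) (h : ∀ x, l x * d x = 0) (w : V) (hw : l w ≠ 0) :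
    d = 0 := by
  have hdw : d w = 0 := by
    rcases mul_eq_zero.mp (h w) with h' | h'
    · exact absurd h' hw
    · exact h'
  ext x
  have := h (x + ((1 - l x) / l w) • w)
  rw [map_add, map_add, map_smul, map_smul, hdw, smul_eq_mul, smul_eq_mul, mul_zero, add_zero] at this
  have h1 : l x + (1 - l x) / l w * l w = 1 := by field_simp; ring
  rw [h1, one_mul] at this
  simpa using this

include s12 s23

theorem polar6 (x y z : V) :
    6 * T x y z = T (x + y + z) (x + y + z) (x + y + z) - T (x + y) (x + y) (x + y)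
      - T (y + z) (y + z) (y + z) - T (x + z) (x + z) (x + z) + T x x x + T y y y + T z z z := by
  tri_ring s12 s23

/-- A1: if the cubic form vanishes on a subspace, so does the trilinear form. -/
theorem tri_eq_zero_of_diag (U : Submodule k V) (h : ∀ u ∈ U, T u u u = 0)
    {x y z : V} (hx : x ∈ U) (hy : y ∈ U) (hz : z ∈ U) : T x y z = 0 := by
  have h6 := polar6 T s12 s23 x y z
  rw [h _ (U.add_mem (U.add_mem hx hy) hz), h _ (U.add_mem hx hy), h _ (U.add_mem hy hz),
    h _ (U.add_mem hx hz), h _ hx, h _ hy, h _ hz] at h6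
  have : (6 : k) ≠ 0 := by norm_num
  simpa [this] using h6

/-- A3: the reflection attached to `Q = λ μ` preserves the cubic form. -/
theorem refl_preserves (e : V) (μ : V →ₗ[k] k) (he : T e e e = 0)
    (hQ : ∀ x, T e x x = T e e x * μ x) (x : V) :
    T (x - μ x • e) (x - μ x • e) (x - μ x • e) = T x x x := by
  have h1 : T (x - μ x • e) (x - μ x • e) (x - μ x • e)
      = T x x x - 3 * μ x * T e x x + 3 * μ x ^ 2 * T e e x - μ x ^ 3 * T e e e := by
    tri_ring s12 s23
  rw [h1, he, hQ x]; ring

theorem refl_expand (e : V) (μ : V →ₗ[k] k) (he : T e e e = 0) (x : V) :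
    T (x - μ x • e) (x - μ x • e) (x - μ x • e)
      = T x x x + 3 * μ x * (μ x * T e e x - T e x x) := by
  have h1 : T (x - μ x • e) (x - μ x • e) (x - μ x • e)
      = T x x x - 3 * μ x * T e x x + 3 * μ x ^ 2 * T e e x - μ x ^ 3 * T e e e := by
    tri_ring s12 s23
  rw [h1, he]; ring

/-- A4: a reflection `x ↦ x - μ(x) e` (with `μ e = 2`) scaling the cubic form forces `Q = λ μ`. -/
theorem hQ_of_refl (e : V) (μ : V →ₗ[k] k) (he : T e e e = 0) (hμe : μ e = 2)
    (hsm : ∃ w, T e e w ≠ 0) (c : k)
    (hc : ∀ x, T (x - μ x • e) (x - μ x • e) (x - μ x • e) = c * T x x x) :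
    ∀ x, T e x x = T e e x * μ x := by
  have hstar : ∀ x, (c - 1) * T x x x = 3 * μ x * (μ x * T e e x - T e x x) := by
    intro x
    have := hc x
    rw [refl_expand T s12 s23 e μ he x] at this
    linear_combination -this
  have hQe : ∀ x, T e (x + e) (x + e) = T e x x + 2 * T e e x := by
    intro x
    have : T e (x + e) (x + e) = T e x x + 2 * T e e x + T e e e := by tri_ring s12 s23
    rw [this, he, add_zero]
  have hle : ∀ x, T e e (x + e) = T e e x := by
    intro x; rw [map_add, he, add_zero]
  by_cases hc1 : c = 1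
  · -- `μ x * G x = 0`
    have hG : ∀ x, μ x ≠ 0 → T e x x = T e e x * μ x := by
      intro x hx
      have := hstar x
      rw [hc1, sub_self, zero_mul] at this
      have h3 : (3 : k) ≠ 0 := by norm_num
      have : μ x * T e e x - T e x x = 0 := by
        rcases mul_eq_zero.mp this.symm with h | h
        · rcases mul_eq_zero.mp h with h | h
          · exact absurd h h3
          · exact absurd h hx
        · exact h
      linear_combination -this
    intro x
    by_cases hx : μ x = 0
    · have h2 : μ (x + e) ≠ 0 := by rw [map_add, hx, hμe]; norm_num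
      have := hG (x + e) h2
      rw [hQe, hle, map_add, hx, hμe] at this
      rw [hx]; linear_combination this
    · exact hG x hx
  · exfalso
    obtain ⟨w, hw⟩ := hsm
    have hc1' : c - 1 ≠ 0 := sub_ne_zero.mpr hc1
    -- on `ker μ`, `F = 0`
    have hF : ∀ h, μ h = 0 → T h h h = 0 := by
      intro h hh
      have := hstar h
      rw [hh] at this
      simpa [hc1'] using this
    have hl : ∀ h, μ h = 0 → T e e h = 0 := by
      intro h hh
      have e1 := hstar (h + e)
      have e2 := hstar (h - e)
      have f1 : T (h + e) (h + e) (h + e) = T h h h + 3 * T e h h + 3 * T e e h + T e e e := by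
        tri_ring s12 s23
      have f2 : T (h - e) (h - e) (h - e) = T h h h - 3 * T e h h + 3 * T e e h - T e e e := by
        tri_ring s12 s23
      have g1 : T e (h + e) (h + e) = T e h h + 2 * T e e h + T e e e := by tri_ring s12 s23
      have g2 : T e (h - e) (h - e) = T e h h - 2 * T e e h + T e e e := by tri_ring s12 s23
      rw [f1, g1, map_add, map_add, hh, hμe, he, hF h hh] at e1
      rw [f2, g2, map_sub, map_sub, hh, hμe, he, hF h hh] at e2
      have : 6 * (c - 1) * T e e h = 0 := by linear_combination e1 + e2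
      have h6 : (6 : k) ≠ 0 := by norm_num
      simpa [h6, hc1'] using this
    apply hw
    have hdec : w = (w - (μ w / 2) • e) + (μ w / 2) • e := by abel
    have hμ0 : μ (w - (μ w / 2) • e) = 0 := by
      rw [map_sub, map_smul, hμe, smul_eq_mul]; ring
    rw [hdec, map_add, hl _ hμ0, map_smul, he]; simp

/-- A6: uniqueness of `μ`. -/
theorem mu_unique (e : V) (μ μ' : V →ₗ[k] k) (hsm : ∃ w, T e e w ≠ 0)
    (hQ : ∀ x, T e x x = T e e x * μ x) (hQ' : ∀ x, T e x x = T e e x * μ' x) : μ = μ' := by
  obtain ⟨w, hw⟩ := hsm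
  have := linear_mul_eq_zero (T e e) (μ - μ') (fun x => by
    rw [LinearMap.sub_apply, mul_sub, ← hQ, ← hQ', sub_self]) w hw
  exact sub_eq_zero.mp this

omit s12 s23 in
theorem eq_span_pair_of_finrank_two [FiniteDimensional k V] {U : Submodule k V}
    (hU : Module.finrank k U = 2) {e a : V}
    (he : e ∈ U) (ha : a ∈ U) (hne : a ∉ Submodule.span k {e}) (he0 : e ≠ 0) :
    U = Submodule.span k {e, a} := by
  symm
  have hle : Submodule.span k {e, a} ≤ U := by
    rw [Submodule.span_le]; rintro x (rfl | rfl) <;> assumption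
  apply Submodule.eq_of_le_of_finrank_le hle
  have hlt : Submodule.span k {e} < Submodule.span k {e, a} := by
    refine lt_of_le_of_ne (Submodule.span_mono (by simp)) ?_
    intro h
    apply hne
    rw [h]
    exact Submodule.subset_span (by simp)
  have := Submodule.finrank_lt_finrank_of_lt hlt
  rw [finrank_span_singleton he0] at this
  omega

omit s12 s23 in
theorem exists_notMem_span_of_finrank_two [FiniteDimensional k V] {U : Submodule k V}
    (hU : Module.finrank k U = 2) (e : V) : ∃ a ∈ U, a ∉ Submodule.span k {e} := by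
  by_contra h
  push Not at h
  have hle : U ≤ Submodule.span k {e} := fun a ha => h a ha
  have h1 := Submodule.finrank_mono hle
  have h2 : Module.finrank k (Submodule.span k {e}) ≤ 1 := by
    have := finrank_span_le_card (R := k) ({e} : Set V)
    simpa using this
  omega

/-- A2: an Eckardt point (three distinct lines of the cubic through `e`, smooth at `e`) has
polar quadric `Q_e = λ_e μ` with `μ e = 2`. -/
theorem exists_mu_of_eckardt [FiniteDimensional k V] (hV : Module.finrank k V = 4) (e : V)
    (he0 : e ≠ 0) (hsm : ∃ w, T e e w ≠ 0)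
    (U : Fin 3 → Submodule k V) (hinj : Function.Injective U)
    (hU : ∀ i, Module.finrank k (U i) = 2 ∧ e ∈ U i ∧ ∀ u ∈ U i, T u u u = 0) :
    ∃ μ : V →ₗ[k] k, μ e = 2 ∧ ∀ x, T e x x = T e e x * μ x := by
  have hT0 : ∀ i, ∀ {x y z : V}, x ∈ U i → y ∈ U i → z ∈ U i → T x y z = 0 := fun i x y z =>
    tri_eq_zero_of_diag T s12 s23 (U i) (hU i).2.2
  have he : T e e e = 0 := hT0 0 (hU 0).2.1 (hU 0).2.1 (hU 0).2.1
  obtain ⟨w, hw⟩ := hsm
  have hl0 : (T e e : V →ₗ[k] k) ≠ 0 := fun h => hw (by rw [h]; rfl)
  have hK : Module.finrank k (LinearMap.ker (T e e)) = 3 := by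
    have := Module.Dual.finrank_ker_add_one_of_ne_zero hl0
    omega
  have hUK : ∀ i, U i ≤ LinearMap.ker (T e e) := fun i u hu => by
    rw [LinearMap.mem_ker]; exact hT0 i (hU i).2.1 (hU i).2.1 hu
  have hne : ∀ i j, i ≠ j → ¬ U j ≤ U i := by
    intro i j hij hle
    apply hij
    apply hinj
    symm
    exact Submodule.eq_of_le_of_finrank_le hle (by rw [(hU i).1, (hU j).1])
  have hsup : U 0 ⊔ U 1 = LinearMap.ker (T e e) := by
    apply Submodule.eq_of_le_of_finrank_le (sup_le (hUK 0) (hUK 1))
    have hlt : U 0 < U 0 ⊔ U 1 := by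
      refine lt_of_le_of_ne le_sup_left ?_
      intro h
      exact hne 0 1 (by decide) (by rw [h]; exact le_sup_right)
    have := Submodule.finrank_lt_finrank_of_lt hlt
    rw [(hU 0).1] at this
    omega
  obtain ⟨u, hu, hue⟩ := exists_notMem_span_of_finrank_two (hU 2).1 e
  have huK : u ∈ U 0 ⊔ U 1 := by rw [hsup]; exact hUK 2 hu
  obtain ⟨a, ha, b, hb, hab⟩ := Submodule.mem_sup.mp huK
  have hU2 : U 2 = Submodule.span k {e, u} :=
    eq_span_pair_of_finrank_two (hU 2).1 (hU 2).2.1 hu hue he0
  have hae : a ∉ Submodule.span k {e} := by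
    intro h
    apply hne 1 2 (by decide)
    rw [hU2, Submodule.span_le]
    rintro x (rfl | rfl)
    · exact (hU 1).2.1
    · rw [← hab]
      refine (U 1).add_mem ?_ hb
      exact (Submodule.span_le.mpr (by simpa using (hU 1).2.1)) h
  have hbe : b ∉ Submodule.span k {e} := by
    intro h
    apply hne 0 2 (by decide)
    rw [hU2, Submodule.span_le]
    rintro x (rfl | rfl)
    · exact (hU 0).2.1
    · rw [← hab]
      refine (U 0).add_mem ha ?_
      exact (Submodule.span_le.mpr (by simpa using (hU 0).2.1)) h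
  have hU0 : U 0 = Submodule.span k {e, a} :=
    eq_span_pair_of_finrank_two (hU 0).1 (hU 0).2.1 ha hae he0
  have hU1 : U 1 = Submodule.span k {e, b} :=
    eq_span_pair_of_finrank_two (hU 1).1 (hU 1).2.1 hb hbe he0
  have hab0 : T e a b = 0 := by
    have h1 : T e u u = 0 := hT0 2 (hU 2).2.1 hu hu
    rw [← hab] at h1
    have h2 : T e (a + b) (a + b) = T e a a + 2 * T e a b + T e b b := by tri_ring s12 s23
    rw [h2, hT0 0 (hU 0).2.1 ha ha, hT0 1 (hU 1).2.1 hb hb] at h1
    have h2' : (2 : k) ≠ 0 := by norm_num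
    simpa [h2'] using h1
  have hQK : ∀ x, T e e x = 0 → T e x x = 0 := by
    intro x hx
    have hxK : x ∈ U 0 ⊔ U 1 := by rw [hsup]; exact hx
    obtain ⟨x1, hx1, x2, hx2, rfl⟩ := Submodule.mem_sup.mp hxK
    rw [hU0, Submodule.mem_span_pair] at hx1
    rw [hU1, Submodule.mem_span_pair] at hx2
    obtain ⟨α, β, rfl⟩ := hx1
    obtain ⟨α', β', rfl⟩ := hx2
    have hexp : T e (α • e + β • a + (α' • e + β' • b)) (α • e + β • a + (α' • e + β' • b))
        = (α + α') ^ 2 * T e e e + 2 * (α + α') * β * T e e a + 2 * (α + α') * β' * T e e b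
          + β ^ 2 * T e a a + 2 * β * β' * T e a b + β' ^ 2 * T e b b := by
      tri_ring s12 s23
    rw [hexp, he, hT0 0 (hU 0).2.1 (hU 0).2.1 ha, hT0 1 (hU 1).2.1 (hU 1).2.1 hb,
      hT0 0 (hU 0).2.1 ha ha, hab0, hT0 1 (hU 1).2.1 hb hb]
    ring
  -- normalise `w`
  set w' : V := (T e e w)⁻¹ • w with hw'
  have hw1 : T e e w' = 1 := by rw [hw', map_smul, smul_eq_mul, inv_mul_cancel₀ hw]
  refine ⟨(2 : k) • (T e).flip w' - (T e w' w') • (T e e), ?_, ?_⟩
  · simp only [LinearMap.sub_apply, LinearMap.smul_apply, LinearMap.flip_apply, smul_eq_mul, hw1,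
      he]
    ring
  · intro x
    have hx' : T e e (x - T e e x • w') = 0 := by
      rw [map_sub, map_smul, hw1, smul_eq_mul, mul_one, sub_self]
    have h1 := hQK _ hx'
    have h2 : T e (x - T e e x • w') (x - T e e x • w')
        = T e x x - 2 * T e e x * T e x w' + (T e e x) ^ 2 * T e w' w' := by
      tri_ring s12 s23
    rw [h2] at h1
    simp only [LinearMap.sub_apply, LinearMap.smul_apply, LinearMap.flip_apply, smul_eq_mul]
    linear_combination h1

omit s12 s23 in
/-- Eckardt point: three distinct lines of the cubic through `e`. -/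
def IsEck (T : V →ₗ[k] V →ₗ[k] V →ₗ[k] k) (e : V) : Prop :=
  ∃ U : Fin 3 → Submodule k V, Function.Injective U ∧
    ∀ i : Fin 3, Module.finrank k ↥(U i) = 2 ∧ e ∈ U i ∧ ∀ u ∈ U i, T u u u = 0

omit s12 s23 in
theorem IsEck.smul {e : V} (h : IsEck T e) (c : k) : IsEck T (c • e) := by
  obtain ⟨U, hinj, hU⟩ := h
  exact ⟨U, hinj, fun i => ⟨(hU i).1, (U i).smul_mem c (hU i).2.1, (hU i).2.2⟩⟩

omit s12 s23 in
theorem IsEck.map {e : V} (h : IsEck T e) (φ : V ≃ₗ[k] V)
    (hφ : ∀ x, T (φ x) (φ x) (φ x) = T x x x) : IsEck T (φ e) := by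
  obtain ⟨U, hinj, hU⟩ := h
  refine ⟨fun i => (U i).map (φ : V →ₗ[k] V), ?_, fun i => ⟨?_, ?_, ?_⟩⟩
  · intro i j hij
    exact hinj (Submodule.map_injective_of_injective (f := (φ : V →ₗ[k] V)) φ.injective hij)
  · rw [LinearEquiv.finrank_map_eq]; exact (hU i).1
  · exact Submodule.mem_map_of_mem (hU i).2.1
  · rintro _ ⟨u, hu, rfl⟩
    change T (φ u) (φ u) (φ u) = 0
    rw [hφ]; exact (hU i).2.2 u hu

omit s12 s23 in
/-- the reflection `x ↦ x - μ x • e` as a linear equivalence. -/
noncomputable def reflEquiv (μ : V →ₗ[k] k) (e : V) (hμ : μ e = 2) : V ≃ₗ[k] V :=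
  LinearEquiv.ofInvolutive (LinearMap.id - μ.smulRight e) (by
    intro x
    simp only [LinearMap.sub_apply, LinearMap.id_apply, LinearMap.smulRight_apply, map_sub,
      map_smul, hμ]
    rw [two_smul, smul_sub, smul_add]
    abel)

omit s12 s23 in
theorem reflEquiv_apply (μ : V →ₗ[k] k) (e : V) (hμ : μ e = 2) (x : V) :
    reflEquiv μ e hμ x = x - μ x • e := by
  simp [reflEquiv]

/-- A7: the line through two Eckardt points. -/
theorem line_two_eckardt [FiniteDimensional k V] (hV : Module.finrank k V = 4)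
    (hsm : ∀ v : V, v ≠ 0 → T v v v = 0 → ∃ w, T v v w ≠ 0)
    (e e' : V) (he : e ≠ 0) (he' : e' ∉ Submodule.span k {e})
    (hE : IsEck T e) (hE' : IsEck T e') :
    Xor (∀ u ∈ Submodule.span k {e, e'}, T u u u = 0)
      (∃ e'' : V, e'' ∈ Submodule.span k {e, e'} ∧ e'' ∉ Submodule.span k {e} ∧
        e'' ∉ Submodule.span k {e'} ∧ IsEck T e'' ∧
        ∀ u ∈ Submodule.span k {e, e'}, T u u u = 0 →
          u ∈ Submodule.span k {e} ∨ u ∈ Submodule.span k {e'} ∨ u ∈ Submodule.span k {e''}) := by
  have he'0 : e' ≠ 0 := by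
    rintro rfl; exact he' (Submodule.zero_mem _)
  have hFe : T e e e = 0 := by
    obtain ⟨U, _, hU⟩ := hE; exact (hU 0).2.2 e (hU 0).2.1
  have hFe' : T e' e' e' = 0 := by
    obtain ⟨U, _, hU⟩ := hE'; exact (hU 0).2.2 e' (hU 0).2.1
  obtain ⟨μ, hμe, hQ⟩ : ∃ μ : V →ₗ[k] k, μ e = 2 ∧ ∀ x, T e x x = T e e x * μ x := by
    obtain ⟨U, hinj, hU⟩ := hE
    exact exists_mu_of_eckardt T s12 s23 hV e he (hsm e he hFe) U hinj hU
  obtain ⟨μ', hμ'e, hQ'⟩ : ∃ μ' : V →ₗ[k] k, μ' e' = 2 ∧ ∀ x, T e' x x = T e' e' x * μ' x := by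
    obtain ⟨U, hinj, hU⟩ := hE'
    exact exists_mu_of_eckardt T s12 s23 hV e' he'0 (hsm e' he'0 hFe') U hinj hU
  set a := T e e e' with ha
  set b := T e e' e' with hb
  have hba : b = a * μ e' := hQ e'
  have hab : a = b * μ' e := by
    have := hQ' e
    rw [ha, hb]
    simp only [s12, s23] at this ⊢
    exact this
  have hexp : ∀ s t : k, T (s • e + t • e') (s • e + t • e') (s • e + t • e')
      = 3 * s * t * (s * a + t * b) := by
    intro s t
    have : T (s • e + t • e') (s • e + t • e') (s • e + t • e')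
      = s ^ 3 * T e e e + 3 * s ^ 2 * t * T e e e' + 3 * s * t ^ 2 * T e e' e'
        + t ^ 3 * T e' e' e' := by tri_ring s12 s23
    rw [this, hFe, hFe', ← ha, ← hb]; ring
  have h3 : (3 : k) ≠ 0 := by norm_num
  by_cases ha0 : a = 0
  · have hb0 : b = 0 := by rw [hba, ha0, zero_mul]
    have hL : ∀ u ∈ Submodule.span k {e, e'}, T u u u = 0 := by
      intro u hu
      obtain ⟨s, t, rfl⟩ := Submodule.mem_span_pair.mp hu
      rw [hexp, ha0, hb0]; ring
    refine Or.inl ⟨hL, ?_⟩
    rintro ⟨e'', he''L, he''1, he''2, _, hall⟩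
    obtain ⟨α, β, rfl⟩ := Submodule.mem_span_pair.mp he''L
    have hα : α ≠ 0 := by
      rintro rfl
      apply he''2
      rw [zero_smul, zero_add]
      exact Submodule.smul_mem _ _ (Submodule.mem_span_singleton_self _)
    have hβ : β ≠ 0 := by
      rintro rfl
      apply he''1
      rw [zero_smul, add_zero]
      exact Submodule.smul_mem _ _ (Submodule.mem_span_singleton_self _)
    -- a point `e + c e'` outside the three lines
    have key : ∀ c : k, c ≠ 0 → c ≠ β / α → False := by
      intro c hc0 hc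
      have hu : e + c • e' ∈ Submodule.span k {e, e'} :=
        Submodule.mem_span_pair.mpr ⟨1, c, by rw [one_smul]⟩
      rcases hall _ hu (hL _ hu) with h | h | h
      · obtain ⟨d, hd⟩ := Submodule.mem_span_singleton.mp h
        apply he'
        rw [Submodule.mem_span_singleton]
        refine ⟨c⁻¹ * (d - 1), ?_⟩
        have : c • e' = (d - 1) • e := by rw [sub_smul, one_smul, hd]; abel
        rw [mul_smul, ← this, smul_smul, inv_mul_cancel₀ hc0, one_smul]
      · obtain ⟨d, hd⟩ := Submodule.mem_span_singleton.mp h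
        apply he'
        rw [Submodule.mem_span_singleton]
        have h1 : e = (d - c) • e' := by rw [sub_smul, hd]; abel
        have hdc : d - c ≠ 0 := by
          intro h0; rw [h0, zero_smul] at h1; exact he h1
        refine ⟨(d - c)⁻¹, ?_⟩
        rw [h1, smul_smul, inv_mul_cancel₀ hdc, one_smul]
      · obtain ⟨d, hd⟩ := Submodule.mem_span_singleton.mp h
        -- d α e + d β e' = e + c e'
        have h1 : (d * α - 1) • e = (c - d * β) • e' := by
          have hd' : d • (α • e + β • e') - (e + c • e') = 0 := sub_eq_zero.mpr hd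
          rw [← sub_eq_zero]
          rw [← hd']; module
        by_cases hz : c - d * β = 0
        · rw [hz, zero_smul] at h1
          have h2 : d * α - 1 = 0 := by
            rcases smul_eq_zero.mp h1 with h2 | h2
            · exact h2
            · exact absurd h2 he
          apply hc
          rw [eq_div_iff hα]
          linear_combination α * hz + β * h2
        · apply he'
          rw [Submodule.mem_span_singleton]
          refine ⟨(c - d * β)⁻¹ * (d * α - 1), ?_⟩
          rw [mul_smul, h1, smul_smul, inv_mul_cancel₀ hz, one_smul]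
    by_cases h1 : (1 : k) = β / α
    · refine key 2 two_ne_zero ?_
      rw [← h1]; norm_num
    · exact key 1 one_ne_zero h1
  · have hb0 : b ≠ 0 := by
      intro h; apply ha0; rw [hab, h, zero_mul]
    have hnotL : ¬ ∀ u ∈ Submodule.span k {e, e'}, T u u u = 0 := by
      intro hL
      apply ha0
      exact tri_eq_zero_of_diag T s12 s23 _ hL (Submodule.subset_span (by simp))
        (Submodule.subset_span (by simp)) (Submodule.subset_span (by simp))
    refine Or.inr ⟨⟨b • e - a • e', ?_, ?_, ?_, ?_, ?_⟩, hnotL⟩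
    · exact Submodule.mem_span_pair.mpr ⟨b, -a, by rw [neg_smul, sub_eq_add_neg]⟩
    · intro h
      obtain ⟨d, hd⟩ := Submodule.mem_span_singleton.mp h
      apply he'
      rw [Submodule.mem_span_singleton]
      refine ⟨a⁻¹ * (b - d), ?_⟩
      have : a • e' = (b - d) • e := by rw [sub_smul, hd]; abel
      rw [mul_smul, ← this, smul_smul, inv_mul_cancel₀ ha0, one_smul]
    · intro h
      obtain ⟨d, hd⟩ := Submodule.mem_span_singleton.mp h
      apply he'
      rw [Submodule.mem_span_singleton]
      have h1 : b • e = (d + a) • e' := by rw [add_smul, hd]; abel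
      have hda : d + a ≠ 0 := by
        intro h0; rw [h0, zero_smul] at h1
        rcases smul_eq_zero.mp h1 with h2 | h2
        · exact hb0 h2
        · exact he h2
      refine ⟨(d + a)⁻¹ * b, ?_⟩
      rw [mul_smul, h1, smul_smul, inv_mul_cancel₀ hda, one_smul]
    · -- `b e - a e' = (-a) • A_e e'`
      have hpres : ∀ x, T (reflEquiv μ e hμe x) (reflEquiv μ e hμe x) (reflEquiv μ e hμe x)
          = T x x x := by
        intro x
        rw [reflEquiv_apply]
        exact refl_preserves T s12 s23 e μ hFe hQ x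
      have := (hE'.map T (reflEquiv μ e hμe) hpres).smul T (-a)
      rw [reflEquiv_apply] at this
      have heq : (-a) • (e' - μ e' • e) = b • e - a • e' := by
        rw [hba]; module
      rw [heq] at this
      exact this
    · intro u hu hFu
      obtain ⟨s, t, rfl⟩ := Submodule.mem_span_pair.mp hu
      rw [hexp] at hFu
      rcases mul_eq_zero.mp hFu with h | h
      · rcases mul_eq_zero.mp h with h | h
        · rcases mul_eq_zero.mp h with h | h
          · exact absurd h h3
          · right; left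
            rw [h, zero_smul, zero_add]
            exact Submodule.smul_mem _ _ (Submodule.mem_span_singleton_self _)
        · left
          rw [h, zero_smul, add_zero]
          exact Submodule.smul_mem _ _ (Submodule.mem_span_singleton_self _)
      · right; right
        rw [Submodule.mem_span_singleton]
        refine ⟨s / b, ?_⟩
        have ht : t = -(s * a / b) := by field_simp; linear_combination h
        rw [ht, smul_sub, smul_smul, smul_smul, neg_smul]
        have h1 : s / b * b = s := by field_simp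
        have h2 : s / b * a = s * a / b := by ring
        rw [h1, h2]; abel

/-- polarised invariance -/
theorem tri_invariant (φ : V →ₗ[k] V) (hφ : ∀ x, T (φ x) (φ x) (φ x) = T x x x) (x y z : V) :
    T (φ x) (φ y) (φ z) = T x y z := by
  have h1 := polar6 T s12 s23 (φ x) (φ y) (φ z)
  have h2 := polar6 T s12 s23 x y z
  simp only [← map_add, hφ] at h1
  have h6 : (6 : k) ≠ 0 := by norm_num
  apply mul_left_cancel₀ h6
  rw [h1, h2]

/-- conjugating a reflection datum by a `T`-preserving involution. -/
theorem conj_refl (φ : V →ₗ[k] V) (hφ : ∀ x, T (φ x) (φ x) (φ x) = T x x x)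
    (hinv : ∀ x, φ (φ x) = x) (e' : V) (μ' : V →ₗ[k] k)
    (hQ' : ∀ x, T e' x x = T e' e' x * μ' x) (x : V) :
    T (φ e') x x = T (φ e') (φ e') x * (μ' ∘ₗ φ) x := by
  have h1 : T (φ e') x x = T e' (φ x) (φ x) := by
    rw [← tri_invariant T s12 s23 φ hφ e' (φ x) (φ x), hinv]
  have h2 : T (φ e') (φ e') x = T e' e' (φ x) := by
    rw [← tri_invariant T s12 s23 φ hφ e' e' (φ x), hinv]
  rw [h1, h2, hQ' (φ x)]; rfl

omit s12 s23 in
theorem scale_refl (e : V) (μ : V →ₗ[k] k) (hQ : ∀ x, T e x x = T e e x * μ x) (d : k)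
    (hd : d ≠ 0) (x : V) :
    T (d • e) x x = T (d • e) (d • e) x * (d⁻¹ • μ) x := by
  simp only [map_smul, LinearMap.smul_apply, smul_eq_mul, hQ x]
  field_simp

/-- A8: the reflections of three collinear Eckardt points. -/
theorem three_reflections
    (e e' e'' : V) (he : e ≠ 0) (he' : e' ∉ Submodule.span k {e})
    (he''1 : e'' ∉ Submodule.span k {e}) (he''2 : e'' ∉ Submodule.span k {e'})
    (he''L : e'' ∈ Submodule.span k {e, e'})
    (hFe : T e e e = 0) (hFe' : T e' e' e' = 0) (hFe'' : T e'' e'' e'' = 0)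
    (hsm'' : ∃ w, T e'' e'' w ≠ 0)
    (hL : ¬ ∀ u ∈ Submodule.span k {e, e'}, T u u u = 0)
    (μ μ' μ'' : V →ₗ[k] k) (hμ : μ e = 2) (hμ' : μ' e' = 2) (hμ'' : μ'' e'' = 2)
    (hQ : ∀ x, T e x x = T e e x * μ x) (hQ' : ∀ x, T e' x x = T e' e' x * μ' x)
    (hQ'' : ∀ x, T e'' x x = T e'' e'' x * μ'' x) :
    (∀ x, x - μ'' x • e'' =
      (x - μ x • e - μ' (x - μ x • e) • e') - μ (x - μ x • e - μ' (x - μ x • e) • e') • e) ∧
    (∀ x, x - μ'' x • e'' =
      (x - μ' x • e' - μ (x - μ' x • e') • e) - μ' (x - μ' x • e' - μ (x - μ' x • e') • e) • e') ∧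
    ∃ t : k, t ≠ 0 ∧ e'' = t • (e' - μ e' • e) := by
  have he'0 : e' ≠ 0 := by
    rintro rfl; exact he' (Submodule.zero_mem _)
  set a := T e e e' with ha
  set b := T e e' e' with hb
  have hba : b = a * μ e' := hQ e'
  have hab : a = b * μ' e := by
    have := hQ' e
    rw [ha, hb]
    simp only [s12, s23] at this ⊢
    exact this
  have hexp : ∀ s t : k, T (s • e + t • e') (s • e + t • e') (s • e + t • e')
      = 3 * s * t * (s * a + t * b) := by
    intro s t
    have : T (s • e + t • e') (s • e + t • e') (s • e + t • e')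
      = s ^ 3 * T e e e + 3 * s ^ 2 * t * T e e e' + 3 * s * t ^ 2 * T e e' e'
        + t ^ 3 * T e' e' e' := by tri_ring s12 s23
    rw [this, hFe, hFe', ← ha, ← hb]; ring
  have h3 : (3 : k) ≠ 0 := by norm_num
  have ha0 : a ≠ 0 := by
    intro ha0
    apply hL
    intro u hu
    obtain ⟨s, t, rfl⟩ := Submodule.mem_span_pair.mp hu
    rw [hexp, hba, ha0]; ring
  have hb0 : b ≠ 0 := by
    intro h; apply ha0; rw [hab, h, zero_mul]
  obtain ⟨s, t, hst⟩ := Submodule.mem_span_pair.mp he''L
  have hs : s ≠ 0 := by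
    rintro rfl
    apply he''2
    rw [← hst, zero_smul, zero_add]
    exact Submodule.smul_mem _ _ (Submodule.mem_span_singleton_self _)
  have ht : t ≠ 0 := by
    rintro rfl
    apply he''1
    rw [← hst, zero_smul, add_zero]
    exact Submodule.smul_mem _ _ (Submodule.mem_span_singleton_self _)
  have hrel : s * a + t * b = 0 := by
    have := hFe''
    rw [← hst, hexp] at this
    rcases mul_eq_zero.mp this with h | h
    · rcases mul_eq_zero.mp h with h | h
      · rcases mul_eq_zero.mp h with h | h
        · exact absurd h h3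
        · exact absurd h hs
      · exact absurd h ht
    · exact h
  -- `e'' = t • R e'`
  have hs1 : s = -(t * μ e') := by
    have : a * (s + t * μ e') = 0 := by rw [hba] at hrel; linear_combination hrel
    rcases mul_eq_zero.mp this with h | h
    · exact absurd h ha0
    · linear_combination h
  have ht1 : t = -(s * μ' e) := by
    have : b * (s * μ' e + t) = 0 := by rw [hab] at hrel; linear_combination hrel
    rcases mul_eq_zero.mp this with h | h
    · exact absurd h hb0
    · linear_combination h
  have he''R : e'' = t • (e' - μ e' • e) := by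
    rw [← hst, hs1]; module
  have he''R' : e'' = s • (e - μ' e • e') := by
    rw [← hst]; nth_rewrite 1 [ht1]; module
  -- the reflection maps
  set R : V →ₗ[k] V := LinearMap.id - μ.smulRight e with hR
  set R' : V →ₗ[k] V := LinearMap.id - μ'.smulRight e' with hR'
  have hRx : ∀ x, R x = x - μ x • e := fun x => by simp [hR]
  have hR'x : ∀ x, R' x = x - μ' x • e' := fun x => by simp [hR']
  have hRinv : ∀ x, R (R x) = x := by
    intro x
    simp only [hRx, map_sub, map_smul, hμ, smul_eq_mul]
    module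
  have hR'inv : ∀ x, R' (R' x) = x := by
    intro x
    simp only [hR'x, map_sub, map_smul, hμ', smul_eq_mul]
    module
  have hRT : ∀ x, T (R x) (R x) (R x) = T x x x := by
    intro x; rw [hRx]; exact refl_preserves T s12 s23 e μ hFe hQ x
  have hR'T : ∀ x, T (R' x) (R' x) (R' x) = T x x x := by
    intro x; rw [hR'x]; exact refl_preserves T s12 s23 e' μ' hFe' hQ' x
  refine ⟨?_, ?_, t, ht, he''R⟩
  · -- `μ'' = t⁻¹ • (μ' ∘ R)`
    have hc := conj_refl T s12 s23 R hRT hRinv e' μ' hQ'
    have hsc := scale_refl T (R e') (μ' ∘ₗ R) hc t ht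
    have he''eq : e'' = t • R e' := by rw [hRx]; exact he''R
    rw [← he''eq] at hsc
    have hμeq : μ'' = t⁻¹ • (μ' ∘ₗ R) := mu_unique T s12 s23 e'' _ _ hsm'' hQ'' hsc
    intro x
    rw [← hRx x, ← hR'x (R x), ← hRx (R' (R x))]
    rw [hμeq, he''eq]
    simp only [LinearMap.smul_apply, LinearMap.comp_apply, smul_eq_mul]
    have : R (R' (R x)) = x - μ' (R x) • R e' := by
      rw [hR'x (R x), map_sub, map_smul, hRinv]
    rw [this, smul_smul, inv_mul_eq_div, div_mul_cancel₀ _ ht]
  · have hc := conj_refl T s12 s23 R' hR'T hR'inv e μ hQ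
    have hsc := scale_refl T (R' e) (μ ∘ₗ R') hc s hs
    have he''eq : e'' = s • R' e := by rw [hR'x]; exact he''R'
    rw [← he''eq] at hsc
    have hμeq : μ'' = s⁻¹ • (μ ∘ₗ R') := mu_unique T s12 s23 e'' _ _ hsm'' hQ'' hsc
    intro x
    rw [← hR'x x, ← hRx (R' x), ← hR'x (R (R' x))]
    rw [hμeq, he''eq]
    simp only [LinearMap.smul_apply, LinearMap.comp_apply, smul_eq_mul]
    have : R' (R (R' x)) = x - μ (R' x) • R' e := by
      rw [hRx (R' x), map_sub, map_smul, hR'inv]
    rw [this, smul_smul, inv_mul_eq_div, div_mul_cancel₀ _ hs]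

end Groth.Agent.Lib.helper27.CubicTri
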