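import Mathlib
import Groth.Agent.Lib.helper27.CubicTri

/-! Binary cubics over algebraically closed fields, and the converse Eckardt criterion. -/

namespace Groth.Agent.Lib.helper27.CubicEck

open Polynomial Groth.Agent.Lib.helper27.CubicTri

set_option linter.unusedSectionVars false
set_option linter.unusedVariables false

variable {k : Type*} [Field k] [IsAlgClosed k]

/-- a polynomial with no common root with its derivative has `natDegree` many distinct roots. -/
theorem roots_nodup_card (p : k[X]) (hp : p ≠ 0)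
    (hsep : ∀ r, p.IsRoot r → ¬ (derivative p).IsRoot r) :
    p.roots.Nodup ∧ Multiset.card p.roots = p.natDegree := by
  classical
  refine ⟨?_, ?_⟩
  · rw [Multiset.nodup_iff_count_le_one]
    intro a
    rw [count_roots]
    by_contra h
    push Not at h
    have := (one_lt_rootMultiplicity_iff_isRoot hp).mp h
    exact hsep a this.1 this.2
  · exact IsAlgClosed.card_roots_eq_natDegree

theorem exists_three_roots (p : k[X]) (hp : p.natDegree = 3)
    (hsep : ∀ r, p.IsRoot r → ¬ (derivative p).IsRoot r) :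
    ∃ r1 r2 r3, r1 ≠ r2 ∧ r1 ≠ r3 ∧ r2 ≠ r3 ∧ p.IsRoot r1 ∧ p.IsRoot r2 ∧ p.IsRoot r3 := by
  have hp0 : p ≠ 0 := by
    rintro rfl; simp at hp
  obtain ⟨hnd, hcard⟩ := roots_nodup_card p hp0 hsep
  rw [hp, Multiset.card_eq_three] at hcard
  obtain ⟨x, y, z, hxyz⟩ := hcard
  rw [hxyz] at hnd
  simp only [Multiset.insert_eq_cons, Multiset.nodup_cons, Multiset.mem_cons,
    Multiset.mem_singleton, not_or, Multiset.nodup_singleton, and_true] at hnd
  have hmem : ∀ r, r ∈ p.roots → p.IsRoot r := fun r hr => (mem_roots hp0).mp hr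
  refine ⟨x, y, z, hnd.1.1, hnd.1.2, hnd.2, hmem _ ?_, hmem _ ?_, hmem _ ?_⟩ <;>
    rw [hxyz] <;> simp

theorem exists_two_roots (p : k[X]) (hp : p.natDegree = 2)
    (hsep : ∀ r, p.IsRoot r → ¬ (derivative p).IsRoot r) :
    ∃ r1 r2, r1 ≠ r2 ∧ p.IsRoot r1 ∧ p.IsRoot r2 := by
  have hp0 : p ≠ 0 := by
    rintro rfl; simp at hp
  obtain ⟨hnd, hcard⟩ := roots_nodup_card p hp0 hsep
  rw [hp, Multiset.card_eq_two] at hcard
  obtain ⟨x, y, hxy⟩ := hcard
  rw [hxy] at hnd
  simp only [Multiset.insert_eq_cons, Multiset.nodup_cons, Multiset.mem_singleton,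
    Multiset.nodup_singleton, and_true] at hnd
  have hmem : ∀ r, r ∈ p.roots → p.IsRoot r := fun r hr => (mem_roots hp0).mp hr
  refine ⟨x, y, hnd, hmem _ ?_, hmem _ ?_⟩ <;> rw [hxy] <;> simp

variable [CharZero k]

/-- a binary cubic form without double root has three pairwise non-proportional zeros. -/
theorem binary_cubic_three_zeros (c0 c1 c2 c3 : k)
    (hns : ∀ a b : k, (a ≠ 0 ∨ b ≠ 0) → c0 * a ^ 2 + 2 * c1 * a * b + c2 * b ^ 2 = 0 →
      c1 * a ^ 2 + 2 * c2 * a * b + c3 * b ^ 2 = 0 → False) :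
    ∃ a1 b1 a2 b2 a3 b3 : k,
      (c0 * a1 ^ 3 + 3 * c1 * a1 ^ 2 * b1 + 3 * c2 * a1 * b1 ^ 2 + c3 * b1 ^ 3 = 0) ∧
      (c0 * a2 ^ 3 + 3 * c1 * a2 ^ 2 * b2 + 3 * c2 * a2 * b2 ^ 2 + c3 * b2 ^ 3 = 0) ∧
      (c0 * a3 ^ 3 + 3 * c1 * a3 ^ 2 * b3 + 3 * c2 * a3 * b3 ^ 2 + c3 * b3 ^ 3 = 0) ∧
      a1 * b2 - a2 * b1 ≠ 0 ∧ a1 * b3 - a3 * b1 ≠ 0 ∧ a2 * b3 - a3 * b2 ≠ 0 := by
  have h3 : (3 : k) ≠ 0 := by norm_num
  by_cases hc0 : c0 = 0
  · have hc1 : c1 ≠ 0 := by
      intro hc1
      exact hns 1 0 (Or.inl one_ne_zero) (by rw [hc0]; ring) (by rw [hc1]; ring)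
    set p : k[X] := C (3 * c1) * X ^ 2 + C (3 * c2) * X + C c3 with hp
    have hdeg : p.natDegree = 2 := natDegree_quadratic (mul_ne_zero h3 hc1)
    have hev : ∀ r, p.eval r = 3 * c1 * r ^ 2 + 3 * c2 * r + c3 := by
      intro r; simp [hp]
    have hdev : ∀ r, (derivative p).eval r = 6 * c1 * r + 3 * c2 := by
      intro r; simp [hp]; ring
    have hsep : ∀ r, p.IsRoot r → ¬ (derivative p).IsRoot r := by
      intro r h1 h2
      rw [IsRoot, hev] at h1
      rw [IsRoot, hdev] at h2
      refine hns r 1 (Or.inr one_ne_zero) ?_ ?_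
      · rw [hc0]
        have : 3 * (2 * c1 * r + c2) = 0 := by linear_combination h2
        have := (mul_eq_zero.mp this).resolve_left h3
        linear_combination this
      · have h2' : 3 * (2 * c1 * r + c2) = 0 := by linear_combination h2
        have h2'' := (mul_eq_zero.mp h2').resolve_left h3
        linear_combination h1 - r * h2''
    obtain ⟨r1, r2, h12, hr1, hr2⟩ := exists_two_roots p hdeg hsep
    rw [IsRoot, hev] at hr1 hr2
    refine ⟨1, 0, r1, 1, r2, 1, ?_, ?_, ?_, ?_, ?_, ?_⟩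
    · rw [hc0]; ring
    · rw [hc0]; linear_combination hr1
    · rw [hc0]; linear_combination hr2
    · simp
    · simp
    · simpa [sub_eq_zero] using h12
  · set p : k[X] := C c0 * X ^ 3 + C (3 * c1) * X ^ 2 + C (3 * c2) * X + C c3 with hp
    have hdeg : p.natDegree = 3 := natDegree_cubic hc0
    have hev : ∀ r, p.eval r = c0 * r ^ 3 + 3 * c1 * r ^ 2 + 3 * c2 * r + c3 := by
      intro r; simp [hp]
    have hdev : ∀ r, (derivative p).eval r = 3 * c0 * r ^ 2 + 6 * c1 * r + 3 * c2 := by
      intro r; simp [hp]; ring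
    have hsep : ∀ r, p.IsRoot r → ¬ (derivative p).IsRoot r := by
      intro r h1 h2
      rw [IsRoot, hev] at h1
      rw [IsRoot, hdev] at h2
      have h2' : 3 * (c0 * r ^ 2 + 2 * c1 * r + c2) = 0 := by linear_combination h2
      have h2'' := (mul_eq_zero.mp h2').resolve_left h3
      refine hns r 1 (Or.inr one_ne_zero) ?_ ?_
      · linear_combination h2''
      · linear_combination h1 - r * h2''
    obtain ⟨r1, r2, r3, h12, h13, h23, hr1, hr2, hr3⟩ := exists_three_roots p hdeg hsep
    rw [IsRoot, hev] at hr1 hr2 hr3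
    refine ⟨r1, 1, r2, 1, r3, 1, ?_, ?_, ?_, ?_, ?_, ?_⟩
    · linear_combination hr1
    · linear_combination hr2
    · linear_combination hr3
    · simpa [sub_eq_zero] using h12
    · simpa [sub_eq_zero] using h13
    · simpa [sub_eq_zero] using h23


theorem encard_le_of_no_inj {α : Type*} (s : Set α) (n : ℕ)
    (h : ∀ U : Fin (n + 1) → α, Function.Injective U → (∀ i, U i ∈ s) → False) :
    s.encard ≤ n := by
  by_contra hlt
  push Not at hlt
  have h1 : ((n + 1 : ℕ) : ℕ∞) ≤ s.encard := by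
    rw [Nat.cast_add, Nat.cast_one]
    exact Order.add_one_le_of_lt hlt
  obtain ⟨t, hts, ht⟩ := Set.exists_subset_encard_eq h1
  have htfin : t.Finite := Set.finite_of_encard_eq_coe ht
  have hcard : htfin.toFinset.card = n + 1 := by
    have := htfin.encard_eq_coe_toFinset_card
    rw [ht] at this
    exact_mod_cast this.symm
  let e := htfin.toFinset.equivFinOfCardEq hcard
  refine h (fun i => (e.symm i : α)) ?_ ?_
  · intro i j hij
    exact e.symm.injective (Subtype.ext hij)
  · intro i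
    exact hts (htfin.mem_toFinset.mp (e.symm i).2)

variable {V : Type*} [AddCommGroup V] [Module k V]
variable (T : V →ₗ[k] V →ₗ[k] V →ₗ[k] k) (s12 : ∀ x y z, T x y z = T y x z)
  (s23 : ∀ x y z, T x y z = T x z y)

include s12 s23

/-- A5: a point with reflection normal form `Q_e = λ_e μ` on a smooth cubic surface is an
Eckardt point. -/
theorem isEck_of_normal_form [FiniteDimensional k V] (hV : Module.finrank k V = 4)
    (hsm : ∀ v : V, v ≠ 0 → T v v v = 0 → ∃ w, T v v w ≠ 0)
    (e : V) (he : e ≠ 0) (hFe : T e e e = 0) (μ : V →ₗ[k] k) (hμ : μ e = 2)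
    (hQ : ∀ x, T e x x = T e e x * μ x) : IsEck T e := by
  have h2ne : (2 : k) ≠ 0 := by norm_num
  -- normalise `w0` with `λ w0 = 1`, `μ w0 = 0`
  obtain ⟨w0, hlw0, hμw0⟩ : ∃ w0, T e e w0 = 1 ∧ μ w0 = 0 := by
    obtain ⟨w', hw'⟩ := hsm e he hFe
    have hlw1 : T e e ((T e e w')⁻¹ • w') = 1 := by
      rw [map_smul, smul_eq_mul, inv_mul_cancel₀ hw']
    refine ⟨(T e e w')⁻¹ • w' - (μ ((T e e w')⁻¹ • w') / 2) • e, ?_, ?_⟩
    · rw [map_sub, hlw1, map_smul, hFe]; simp
    · rw [map_sub, map_smul _ _ e, hμ, smul_eq_mul]; field_simp; ring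
  -- the bilinear form `B = T e`
  have hB : ∀ x y, 2 * T e x y = T e e x * μ y + T e e y * μ x := by
    intro x y
    have h1 : T e (x + y) (x + y) = T e x x + 2 * T e x y + T e y y := by tri_ring s12 s23
    rw [hQ, hQ, hQ, map_add, map_add] at h1
    linear_combination -h1
  -- the plane `K`
  set P : V →ₗ[k] k × k := (T e e).prod μ with hP
  have hPsurj : LinearMap.range P = ⊤ := by
    rw [LinearMap.range_eq_top]
    rintro ⟨a, b⟩
    refine ⟨a • w0 + (b / 2) • e, ?_⟩
    rw [hP, LinearMap.prod_apply]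
    apply Prod.ext
    · simp [hlw0, hFe]
    · simp [hμw0, hμ]
  have hK : Module.finrank k (LinearMap.ker P) = 2 := by
    have := LinearMap.finrank_range_add_finrank_ker P
    rw [hPsurj, finrank_top, hV] at this
    simp at this
    omega
  have hmemK : ∀ x, x ∈ LinearMap.ker P ↔ T e e x = 0 ∧ μ x = 0 := by
    intro x
    simp [hP, LinearMap.mem_ker]
  let bK := Module.finBasisOfFinrankEq k (LinearMap.ker P) hK
  set k1 : V := (bK 0 : V) with hk1
  set k2 : V := (bK 1 : V) with hk2
  have hk1K : T e e k1 = 0 ∧ μ k1 = 0 := (hmemK k1).mp (bK 0).2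
  have hk2K : T e e k2 = 0 ∧ μ k2 = 0 := (hmemK k2).mp (bK 1).2
  have hKspan : ∀ y, T e e y = 0 → μ y = 0 → ∃ a b : k, y = a • k1 + b • k2 := by
    intro y hy1 hy2
    have hyK : y ∈ LinearMap.ker P := (hmemK y).mpr ⟨hy1, hy2⟩
    have := bK.sum_repr ⟨y, hyK⟩
    rw [Fin.sum_univ_two] at this
    refine ⟨bK.repr ⟨y, hyK⟩ 0, bK.repr ⟨y, hyK⟩ 1, ?_⟩
    have h := congrArg (Subtype.val) this
    simpa [hk1, hk2] using h.symm
  have hKli : ∀ a b : k, a • k1 + b • k2 = 0 → a = 0 ∧ b = 0 := by
    intro a b hab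
    have hli := bK.linearIndependent
    rw [Fintype.linearIndependent_iff] at hli
    have h0 : ∑ i, (![a, b] i) • bK i = 0 := by
      rw [Fin.sum_univ_two]
      apply Subtype.ext
      simpa [hk1, hk2] using hab
    have := hli ![a, b] h0
    exact ⟨this 0, this 1⟩
  -- coefficients of the binary cubic
  set c0 := T k1 k1 k1 with hc0
  set c1 := T k1 k1 k2 with hc1
  set c2 := T k1 k2 k2 with hc2
  set c3 := T k2 k2 k2 with hc3
  have hFu : ∀ a b : k, T (a • k1 + b • k2) (a • k1 + b • k2) (a • k1 + b • k2)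
      = c0 * a ^ 3 + 3 * c1 * a ^ 2 * b + 3 * c2 * a * b ^ 2 + c3 * b ^ 3 := by
    intro a b; rw [hc0, hc1, hc2, hc3]; tri_ring s12 s23
  have hP1 : ∀ a b : k, T (a • k1 + b • k2) (a • k1 + b • k2) k1
      = c0 * a ^ 2 + 2 * c1 * a * b + c2 * b ^ 2 := by
    intro a b; rw [hc0, hc1, hc2]; tri_ring s12 s23
  have hP2 : ∀ a b : k, T (a • k1 + b • k2) (a • k1 + b • k2) k2
      = c1 * a ^ 2 + 2 * c2 * a * b + c3 * b ^ 2 := by
    intro a b; rw [hc1, hc2, hc3]; tri_ring s12 s23
  have huK : ∀ a b : k, T e e (a • k1 + b • k2) = 0 ∧ μ (a • k1 + b • k2) = 0 := by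
    intro a b
    simp only [map_add, map_smul, hk1K.1, hk1K.2, hk2K.1, hk2K.2, smul_eq_mul, mul_zero,
      add_zero, and_self]
  -- no double root
  have hns : ∀ a b : k, (a ≠ 0 ∨ b ≠ 0) → c0 * a ^ 2 + 2 * c1 * a * b + c2 * b ^ 2 = 0 →
      c1 * a ^ 2 + 2 * c2 * a * b + c3 * b ^ 2 = 0 → False := by
    intro a b hab h1 h2
    set u : V := a • k1 + b • k2 with hu
    have hu0 : u ≠ 0 := by
      intro h
      have := hKli a b h
      rcases hab with h' | h'
      · exact h' this.1
      · exact h' this.2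
    have hlu : T e e u = 0 := (huK a b).1
    have hμu : μ u = 0 := (huK a b).2
    have huuK : ∀ y, T e e y = 0 → μ y = 0 → T u u y = 0 := by
      intro y hy1 hy2
      obtain ⟨a', b', rfl⟩ := hKspan y hy1 hy2
      rw [map_add, map_smul, map_smul, hP1, hP2, h1, h2]; simp
    have hBu : ∀ y, T e u y = 0 := by
      intro y
      have := hB u y
      rw [hlu, hμu] at this
      have : 2 * T e u y = 0 := by rw [this]; ring
      exact (mul_eq_zero.mp this).resolve_left h2ne
    obtain ⟨s, hs⟩ := IsAlgClosed.exists_pow_nat_eq (-(T u u w0)) (n := 2) (by norm_num)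
    set x : V := u + s • e with hx
    have hxy : ∀ y, T x x y = T u u y + s ^ 2 * T e e y := by
      intro y
      have : T x x y = T u u y + 2 * s * T e u y + s ^ 2 * T e e y := by
        rw [hx]; tri_ring s12 s23
      rw [this, hBu y]; ring
    have hxe : T x x e = 0 := by
      rw [hxy, hFe]
      have : T u u e = T e u u := by simp only [s12, s23]
      rw [this, hQ, hlu]; ring
    have hxw0 : T x x w0 = 0 := by rw [hxy, hlw0, hs]; ring
    have hxK : ∀ y, T e e y = 0 → μ y = 0 → T x x y = 0 := by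
      intro y hy1 hy2
      rw [hxy, huuK y hy1 hy2, hy1]; ring
    have hxall : ∀ y, T x x y = 0 := by
      intro y
      have hdec : y = (y - (μ y / 2) • e - T e e y • w0) + (μ y / 2) • e + T e e y • w0 := by abel
      have hyK1 : T e e (y - (μ y / 2) • e - T e e y • w0) = 0 := by
        simp only [map_sub, map_smul, hFe, hlw0, smul_eq_mul]; ring
      have hyK2 : μ (y - (μ y / 2) • e - T e e y • w0) = 0 := by
        simp only [map_sub, map_smul, hμ, hμw0, smul_eq_mul]; field_simp; ring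
      rw [hdec, map_add, map_add, map_smul, map_smul, hxK _ hyK1 hyK2, hxe, hxw0]; simp
    have hx0 : x ≠ 0 := by
      intro h
      have h1 : μ x = 0 := by rw [h, map_zero]
      rw [hx, map_add, map_smul, hμu, hμ, smul_eq_mul, zero_add] at h1
      have hs0 : s = 0 := (mul_eq_zero.mp h1).resolve_right h2ne
      rw [hx, hs0, zero_smul, add_zero] at h
      exact hu0 h
    obtain ⟨w, hw⟩ := hsm x hx0 (hxall x)
    exact hw (hxall w)
  obtain ⟨a1, b1, a2, b2, a3, b3, hz1, hz2, hz3, h12, h13, h23⟩ :=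
    binary_cubic_three_zeros c0 c1 c2 c3 hns
  -- the three lines
  have hline : ∀ a b : k, c0 * a ^ 3 + 3 * c1 * a ^ 2 * b + 3 * c2 * a * b ^ 2 + c3 * b ^ 3 = 0 →
      ∀ v ∈ Submodule.span k {e, a • k1 + b • k2}, T v v v = 0 := by
    intro a b hz v hv
    obtain ⟨s, t, rfl⟩ := Submodule.mem_span_pair.mp hv
    set u : V := a • k1 + b • k2 with hu
    have : T (s • e + t • u) (s • e + t • u) (s • e + t • u)
        = s ^ 3 * T e e e + 3 * s ^ 2 * t * T e e u + 3 * s * t ^ 2 * T e u u + t ^ 3 * T u u u := by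
      tri_ring s12 s23
    rw [this, hFe, (huK a b).1, hQ, (huK a b).1, hFu, hz]; ring
  have hfr : ∀ a b : k, (a ≠ 0 ∨ b ≠ 0) →
      Module.finrank k (Submodule.span k {e, a • k1 + b • k2}) = 2 := by
    intro a b hab
    have hli : LinearIndependent k ![e, a • k1 + b • k2] := by
      rw [LinearIndependent.pair_iff]
      intro s t hst
      have h1 := congrArg μ hst
      rw [map_add, map_smul, map_smul, (huK a b).2, hμ, map_zero, smul_eq_mul, smul_eq_mul,
        mul_zero, add_zero] at h1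
      have hs0 : s = 0 := (mul_eq_zero.mp h1).resolve_right h2ne
      refine ⟨hs0, ?_⟩
      rw [hs0, zero_smul, zero_add, smul_add, smul_smul, smul_smul] at hst
      have := hKli _ _ hst
      rcases hab with h' | h'
      · exact (mul_eq_zero.mp this.1).resolve_right h'
      · exact (mul_eq_zero.mp this.2).resolve_right h'
    have := finrank_span_eq_card hli
    rw [Matrix.range_cons_cons_empty] at this
    simpa using this
  have hne : ∀ a b a' b' : k, a * b' - a' * b ≠ 0 →
      Submodule.span k {e, a • k1 + b • k2} ≠ Submodule.span k {e, a' • k1 + b' • k2} := by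
    intro a b a' b' hdet heq
    have hmem : a' • k1 + b' • k2 ∈ Submodule.span k {e, a • k1 + b • k2} := by
      rw [heq]; exact Submodule.subset_span (by simp)
    obtain ⟨s, t, hst⟩ := Submodule.mem_span_pair.mp hmem
    have h1 := congrArg μ hst
    rw [map_add, map_smul, map_smul, (huK a b).2, (huK a' b').2, hμ, smul_eq_mul, smul_eq_mul,
      mul_zero, add_zero] at h1
    have hs0 : s = 0 := (mul_eq_zero.mp h1).resolve_right h2ne
    rw [hs0, zero_smul, zero_add] at hst
    have h0 : (t * a - a') • k1 + (t * b - b') • k2 = 0 := by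
      have : t • (a • k1 + b • k2) - (a' • k1 + b' • k2) = 0 := sub_eq_zero.mpr hst
      rw [← this]; module
    have := hKli _ _ h0
    apply hdet
    linear_combination b * this.1 - a * this.2
  have hab1 : a1 ≠ 0 ∨ b1 ≠ 0 := by
    by_contra h; push Not at h; apply h12; rw [h.1, h.2]; ring
  have hab2 : a2 ≠ 0 ∨ b2 ≠ 0 := by
    by_contra h; push Not at h; apply h12; rw [h.1, h.2]; ring
  have hab3 : a3 ≠ 0 ∨ b3 ≠ 0 := by
    by_contra h; push Not at h; apply h13; rw [h.1, h.2]; ring
  refine ⟨![Submodule.span k {e, a1 • k1 + b1 • k2}, Submodule.span k {e, a2 • k1 + b2 • k2},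
    Submodule.span k {e, a3 • k1 + b3 • k2}], ?_, ?_⟩
  · intro i j hij
    by_contra hne'
    fin_cases i <;> fin_cases j <;> simp at hij hne'
    · exact hne _ _ _ _ h12 hij
    · exact hne _ _ _ _ h13 hij
    · exact hne _ _ _ _ h12 hij.symm
    · exact hne _ _ _ _ h23 hij
    · exact hne _ _ _ _ h13 hij.symm
    · exact hne _ _ _ _ h23 hij.symm
  · intro i
    fin_cases i
    · exact ⟨hfr _ _ hab1, Submodule.subset_span (by simp), hline _ _ hz1⟩
    · exact ⟨hfr _ _ hab2, Submodule.subset_span (by simp), hline _ _ hz2⟩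
    · exact ⟨hfr _ _ hab3, Submodule.subset_span (by simp), hline _ _ hz3⟩

/-- A9: there are no four distinct lines of a smooth cubic surface through one point. -/
theorem no_four_lines [FiniteDimensional k V] (hV : Module.finrank k V = 4)
    (hsm : ∀ v : V, v ≠ 0 → T v v v = 0 → ∃ w, T v v w ≠ 0)
    (e : V) (he : e ≠ 0) (U : Fin 4 → Submodule k V) (hinj : Function.Injective U)
    (hU : ∀ i, Module.finrank k (U i) = 2 ∧ e ∈ U i ∧ ∀ u ∈ U i, T u u u = 0) : False := by
  have h2ne : (2 : k) ≠ 0 := by norm_num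
  have h3ne : (3 : k) ≠ 0 := by norm_num
  have hT0 : ∀ i, ∀ {x y z : V}, x ∈ U i → y ∈ U i → z ∈ U i → T x y z = 0 := fun i x y z =>
    tri_eq_zero_of_diag T s12 s23 (U i) (hU i).2.2
  have hFe : T e e e = 0 := hT0 0 (hU 0).2.1 (hU 0).2.1 (hU 0).2.1
  obtain ⟨μ, hμ, hQ⟩ := exists_mu_of_eckardt T s12 s23 hV e he (hsm e he hFe)
    (fun i : Fin 3 => U i.castSucc)
    (fun i j hij => Fin.castSucc_injective 3 (hinj hij)) (fun i => hU i.castSucc)
  -- normalise `w0` with `λ w0 = 1`, `μ w0 = 0`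
  obtain ⟨w0, hlw0, hμw0⟩ : ∃ w0, T e e w0 = 1 ∧ μ w0 = 0 := by
    obtain ⟨w', hw'⟩ := hsm e he hFe
    have hlw1 : T e e ((T e e w')⁻¹ • w') = 1 := by
      rw [map_smul, smul_eq_mul, inv_mul_cancel₀ hw']
    refine ⟨(T e e w')⁻¹ • w' - (μ ((T e e w')⁻¹ • w') / 2) • e, ?_, ?_⟩
    · rw [map_sub, hlw1, map_smul, hFe]; simp
    · rw [map_sub, map_smul _ _ e, hμ, smul_eq_mul]; field_simp; ring
  set P : V →ₗ[k] k × k := (T e e).prod μ with hP
  have hPsurj : LinearMap.range P = ⊤ := by
    rw [LinearMap.range_eq_top]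
    rintro ⟨a, b⟩
    refine ⟨a • w0 + (b / 2) • e, ?_⟩
    rw [hP, LinearMap.prod_apply]
    apply Prod.ext
    · simp [hlw0, hFe]
    · simp [hμw0, hμ]
  have hK : Module.finrank k (LinearMap.ker P) = 2 := by
    have := LinearMap.finrank_range_add_finrank_ker P
    rw [hPsurj, finrank_top, hV] at this
    simp at this
    omega
  have hmemK : ∀ x, x ∈ LinearMap.ker P ↔ T e e x = 0 ∧ μ x = 0 := by
    intro x
    simp [hP, LinearMap.mem_ker]
  -- representatives of the four lines in `K`
  have hrep : ∀ i, ∃ u ∈ U i, u ∉ Submodule.span k {e} ∧ μ u = 0 := by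
    intro i
    obtain ⟨a, ha, hae⟩ := exists_notMem_span_of_finrank_two (hU i).1 e
    refine ⟨a - (μ a / 2) • e, (U i).sub_mem ha ((U i).smul_mem _ (hU i).2.1), ?_, ?_⟩
    · intro h
      apply hae
      have : a = (a - (μ a / 2) • e) + (μ a / 2) • e := by abel
      rw [this]
      exact Submodule.add_mem _ h (Submodule.smul_mem _ _ (Submodule.mem_span_singleton_self _))
    · rw [map_sub, map_smul, hμ, smul_eq_mul]; field_simp; ring
  choose u huU hue hμu using hrep
  have hlu : ∀ i, T e e (u i) = 0 := fun i => hT0 i (hU i).2.1 (hU i).2.1 (huU i)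
  have hFu : ∀ i, T (u i) (u i) (u i) = 0 := fun i => hT0 i (huU i) (huU i) (huU i)
  have hUspan : ∀ i, U i = Submodule.span k {e, u i} := fun i =>
    eq_span_pair_of_finrank_two (hU i).1 (hU i).2.1 (huU i) (hue i) he
  have hu0 : ∀ i, u i ≠ 0 := by
    intro i h; apply hue i; rw [h]; exact Submodule.zero_mem _
  have hli : ∀ i j, i ≠ j → ∀ α β : k, α • u i + β • u j = 0 → α = 0 ∧ β = 0 := by
    intro i j hij α β h
    have hβ : β = 0 := by
      by_contra hβ
      apply hij
      apply hinj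
      symm
      apply Submodule.eq_of_le_of_finrank_le
      · rw [hUspan j, Submodule.span_le]
        rintro x (rfl | rfl)
        · exact (hU i).2.1
        · have : u j = (-(β⁻¹ * α)) • u i := by
            have h' : β • u j = -(α • u i) := by
              rw [eq_neg_iff_add_eq_zero, add_comm]; exact h
            calc u j = β⁻¹ • (β • u j) := by rw [smul_smul, inv_mul_cancel₀ hβ, one_smul]
              _ = (-(β⁻¹ * α)) • u i := by rw [h', smul_neg, smul_smul, neg_smul]
          rw [this]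
          exact (U i).smul_mem _ (huU i)
      · rw [(hU i).1, (hU j).1]
    refine ⟨?_, hβ⟩
    rw [hβ, zero_smul, add_zero] at h
    exact (smul_eq_zero.mp h).resolve_right (hu0 i)
  -- `K = span {u 0, u 1}`
  have hKspan : ∀ y, T e e y = 0 → μ y = 0 → ∃ a b : k, y = a • u 0 + b • u 1 := by
    intro y hy1 hy2
    have hle : Submodule.span k {u 0, u 1} ≤ LinearMap.ker P := by
      rw [Submodule.span_le]
      rintro x (rfl | rfl)
      · exact (hmemK _).mpr ⟨hlu 0, hμu 0⟩
      · exact (hmemK _).mpr ⟨hlu 1, hμu 1⟩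
    have hli01 : LinearIndependent k ![u 0, u 1] := by
      rw [LinearIndependent.pair_iff]
      exact hli 0 1 (by decide)
    have hfr := finrank_span_eq_card hli01
    rw [Matrix.range_cons_cons_empty] at hfr
    have heq := Submodule.eq_of_le_of_finrank_le hle (by rw [hK, hfr]; simp)
    have hyK : y ∈ Submodule.span k {u 0, u 1} := by
      rw [heq]; exact (hmemK y).mpr ⟨hy1, hy2⟩
    obtain ⟨a, b, hab⟩ := Submodule.mem_span_pair.mp hyK
    exact ⟨a, b, hab.symm⟩
  obtain ⟨α2, β2, h2⟩ := hKspan (u 2) (hlu 2) (hμu 2)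
  obtain ⟨α3, β3, h3⟩ := hKspan (u 3) (hlu 3) (hμu 3)
  set c1 := T (u 0) (u 0) (u 1) with hc1
  set c2 := T (u 0) (u 1) (u 1) with hc2
  have hFab : ∀ a b : k, T (a • u 0 + b • u 1) (a • u 0 + b • u 1) (a • u 0 + b • u 1)
      = 3 * a * b * (a * c1 + b * c2) := by
    intro a b
    have : T (a • u 0 + b • u 1) (a • u 0 + b • u 1) (a • u 0 + b • u 1)
        = a ^ 3 * T (u 0) (u 0) (u 0) + 3 * a ^ 2 * b * T (u 0) (u 0) (u 1)
          + 3 * a * b ^ 2 * T (u 0) (u 1) (u 1) + b ^ 3 * T (u 1) (u 1) (u 1) := by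
      tri_ring s12 s23
    rw [this, hFu 0, hFu 1, ← hc1, ← hc2]; ring
  -- coefficients are nonzero
  have hα2 : α2 ≠ 0 := by
    intro h
    have := hli 2 1 (by decide) 1 (-β2) (by rw [h2, h]; module)
    exact one_ne_zero this.1
  have hβ2 : β2 ≠ 0 := by
    intro h
    have := hli 2 0 (by decide) 1 (-α2) (by rw [h2, h]; module)
    exact one_ne_zero this.1
  have hα3 : α3 ≠ 0 := by
    intro h
    have := hli 3 1 (by decide) 1 (-β3) (by rw [h3, h]; module)
    exact one_ne_zero this.1
  have hβ3 : β3 ≠ 0 := by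
    intro h
    have := hli 3 0 (by decide) 1 (-α3) (by rw [h3, h]; module)
    exact one_ne_zero this.1
  have hdet : α2 * β3 - α3 * β2 ≠ 0 := by
    intro h
    have := hli 2 3 (by decide) α3 (-α2) (by
      rw [h2, h3]
      have h' : α2 * β3 = α3 * β2 := sub_eq_zero.mp h
      have : α3 • (α2 • u 0 + β2 • u 1) + -α2 • (α3 • u 0 + β3 • u 1)
          = (α3 * β2 - α2 * β3) • u 1 := by module
      rw [this, h', sub_self, zero_smul])
    exact hα3 this.1
  have e2 : α2 * c1 + β2 * c2 = 0 := by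
    have := hFu 2
    rw [h2, hFab] at this
    rcases mul_eq_zero.mp this with h | h
    · rcases mul_eq_zero.mp h with h | h
      · rcases mul_eq_zero.mp h with h | h
        · exact absurd h h3ne
        · exact absurd h hα2
      · exact absurd h hβ2
    · exact h
  have e3 : α3 * c1 + β3 * c2 = 0 := by
    have := hFu 3
    rw [h3, hFab] at this
    rcases mul_eq_zero.mp this with h | h
    · rcases mul_eq_zero.mp h with h | h
      · rcases mul_eq_zero.mp h with h | h
        · exact absurd h h3ne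
        · exact absurd h hα3
      · exact absurd h hβ3
    · exact h
  have hc1z : c1 = 0 := by
    have : (α2 * β3 - α3 * β2) * c1 = 0 := by linear_combination β3 * e2 - β2 * e3
    exact (mul_eq_zero.mp this).resolve_left hdet
  have hc2z : c2 = 0 := by
    have : (α2 * β3 - α3 * β2) * c2 = 0 := by linear_combination α2 * e3 - α3 * e2
    exact (mul_eq_zero.mp this).resolve_left hdet
  -- `T` vanishes on `K`
  have hFK : ∀ y ∈ LinearMap.ker P, T y y y = 0 := by
    intro y hy
    obtain ⟨a, b, rfl⟩ := hKspan y ((hmemK y).mp hy).1 ((hmemK y).mp hy).2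
    rw [hFab, hc1z, hc2z]; ring
  have hTK : ∀ {x y z : V}, x ∈ LinearMap.ker P → y ∈ LinearMap.ker P → z ∈ LinearMap.ker P →
      T x y z = 0 := fun hx hy hz => tri_eq_zero_of_diag T s12 s23 _ hFK hx hy hz
  have hu0K : u 0 ∈ LinearMap.ker P := (hmemK _).mpr ⟨hlu 0, hμu 0⟩
  have hu1K : u 1 ∈ LinearMap.ker P := (hmemK _).mpr ⟨hlu 1, hμu 1⟩
  -- a nonzero `x ∈ K` with `T x x w0 = 0`
  obtain ⟨x, hxK, hx0, hxw0⟩ : ∃ x ∈ LinearMap.ker P, x ≠ 0 ∧ T x x w0 = 0 := by
    by_cases hg0 : T (u 0) (u 0) w0 = 0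
    · exact ⟨u 0, hu0K, hu0 0, hg0⟩
    · obtain ⟨s, hs⟩ := IsAlgClosed.exists_eq_mul_self
        (discrim (T (u 0) (u 0) w0) (2 * T (u 0) (u 1) w0) (T (u 1) (u 1) w0))
      obtain ⟨a, ha⟩ := exists_quadratic_eq_zero hg0 ⟨s, hs⟩
      refine ⟨a • u 0 + u 1, Submodule.add_mem _ (Submodule.smul_mem _ _ hu0K) hu1K, ?_, ?_⟩
      · intro h
        have := hli 0 1 (by decide) a 1 (by rw [one_smul]; exact h)
        exact one_ne_zero this.2
      · have : T (a • u 0 + u 1) (a • u 0 + u 1) w0
            = T (u 0) (u 0) w0 * a * a + 2 * T (u 0) (u 1) w0 * a + T (u 1) (u 1) w0 := by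
          tri_ring s12 s23
        rw [this]; linear_combination ha
  have hxl : T e e x = 0 := ((hmemK x).mp hxK).1
  have hxμ : μ x = 0 := ((hmemK x).mp hxK).2
  have hxall : ∀ y, T x x y = 0 := by
    intro y
    have hdec : y = (y - (μ y / 2) • e - T e e y • w0) + (μ y / 2) • e + T e e y • w0 := by abel
    have hyK : (y - (μ y / 2) • e - T e e y • w0) ∈ LinearMap.ker P := by
      rw [hmemK]
      constructor
      · simp only [map_sub, map_smul, hFe, hlw0, smul_eq_mul]; ring
      · simp only [map_sub, map_smul, hμ, hμw0, smul_eq_mul]; field_simp; ring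
    have hxe : T x x e = 0 := by
      have : T x x e = T e x x := by simp only [s12, s23]
      rw [this, hQ, hxl]; ring
    rw [hdec, map_add, map_add, map_smul, map_smul, hTK hxK hxK hyK, hxe, hxw0]; simp
  obtain ⟨w, hw⟩ := hsm x hx0 (hxall x)
  exact hw (hxall w)

/-- A10: with the normal form `Q_e = λ_e μ` on a smooth cubic surface, the cubic does not vanish
identically on the plane `K = ker λ_e ⊓ ker μ`. -/
theorem not_vanish_on_K [FiniteDimensional k V] (hV : Module.finrank k V = 4)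
    (hsm : ∀ v : V, v ≠ 0 → T v v v = 0 → ∃ w, T v v w ≠ 0)
    (e : V) (he : e ≠ 0) (hFe : T e e e = 0) (μ : V →ₗ[k] k) (hμ : μ e = 2)
    (hQ : ∀ x, T e x x = T e e x * μ x)
    (hFK0 : ∀ y, T e e y = 0 → μ y = 0 → T y y y = 0) : False := by
  have h2ne : (2 : k) ≠ 0 := by norm_num
  obtain ⟨w0, hlw0, hμw0⟩ : ∃ w0, T e e w0 = 1 ∧ μ w0 = 0 := by
    obtain ⟨w', hw'⟩ := hsm e he hFe
    have hlw1 : T e e ((T e e w')⁻¹ • w') = 1 := by
      rw [map_smul, smul_eq_mul, inv_mul_cancel₀ hw']
    refine ⟨(T e e w')⁻¹ • w' - (μ ((T e e w')⁻¹ • w') / 2) • e, ?_, ?_⟩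
    · rw [map_sub, hlw1, map_smul, hFe]; simp
    · rw [map_sub, map_smul _ _ e, hμ, smul_eq_mul]; field_simp; ring
  set P : V →ₗ[k] k × k := (T e e).prod μ with hP
  have hPsurj : LinearMap.range P = ⊤ := by
    rw [LinearMap.range_eq_top]
    rintro ⟨a, b⟩
    refine ⟨a • w0 + (b / 2) • e, ?_⟩
    rw [hP, LinearMap.prod_apply]
    apply Prod.ext
    · simp [hlw0, hFe]
    · simp [hμw0, hμ]
  have hK : Module.finrank k (LinearMap.ker P) = 2 := by
    have := LinearMap.finrank_range_add_finrank_ker P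
    rw [hPsurj, finrank_top, hV] at this
    simp at this
    omega
  have hmemK : ∀ x, x ∈ LinearMap.ker P ↔ T e e x = 0 ∧ μ x = 0 := by
    intro x
    simp [hP, LinearMap.mem_ker]
  let bK := Module.finBasisOfFinrankEq k (LinearMap.ker P) hK
  have hFK : ∀ y ∈ LinearMap.ker P, T y y y = 0 := fun y hy =>
    hFK0 y ((hmemK y).mp hy).1 ((hmemK y).mp hy).2
  have hTK : ∀ {x y z : V}, x ∈ LinearMap.ker P → y ∈ LinearMap.ker P → z ∈ LinearMap.ker P →
      T x y z = 0 := fun hx hy hz => tri_eq_zero_of_diag T s12 s23 _ hFK hx hy hz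
  have hu0K : (bK 0 : V) ∈ LinearMap.ker P := (bK 0).2
  have hu1K : (bK 1 : V) ∈ LinearMap.ker P := (bK 1).2
  have hli : ∀ a b : k, a • (bK 0 : V) + b • (bK 1 : V) = 0 → a = 0 ∧ b = 0 := by
    intro a b hab
    have hli := bK.linearIndependent
    rw [Fintype.linearIndependent_iff] at hli
    have h0 : ∑ i, (![a, b] i) • bK i = 0 := by
      rw [Fin.sum_univ_two]
      apply Subtype.ext
      simpa using hab
    have := hli ![a, b] h0
    exact ⟨this 0, this 1⟩
  obtain ⟨x, hxK, hx0, hxw0⟩ : ∃ x ∈ LinearMap.ker P, x ≠ 0 ∧ T x x w0 = 0 := by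
    by_cases hg0 : T (bK 0 : V) (bK 0 : V) w0 = 0
    · refine ⟨bK 0, hu0K, ?_, hg0⟩
      intro h
      have := hli 1 0 (by rw [h]; simp)
      exact one_ne_zero this.1
    · obtain ⟨s, hs⟩ := IsAlgClosed.exists_eq_mul_self
        (discrim (T (bK 0 : V) (bK 0 : V) w0) (2 * T (bK 0 : V) (bK 1 : V) w0)
          (T (bK 1 : V) (bK 1 : V) w0))
      obtain ⟨a, ha⟩ := exists_quadratic_eq_zero hg0 ⟨s, hs⟩
      refine ⟨a • (bK 0 : V) + (bK 1 : V),
        Submodule.add_mem _ (Submodule.smul_mem _ _ hu0K) hu1K, ?_, ?_⟩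
      · intro h
        have := hli a 1 (by rw [one_smul]; exact h)
        exact one_ne_zero this.2
      · have : T (a • (bK 0 : V) + (bK 1 : V)) (a • (bK 0 : V) + (bK 1 : V)) w0
            = T (bK 0 : V) (bK 0 : V) w0 * a * a + 2 * T (bK 0 : V) (bK 1 : V) w0 * a
              + T (bK 1 : V) (bK 1 : V) w0 := by
          tri_ring s12 s23
        rw [this]; linear_combination ha
  have hxl : T e e x = 0 := ((hmemK x).mp hxK).1
  have hxμ : μ x = 0 := ((hmemK x).mp hxK).2
  have hxall : ∀ y, T x x y = 0 := by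
    intro y
    have hdec : y = (y - (μ y / 2) • e - T e e y • w0) + (μ y / 2) • e + T e e y • w0 := by abel
    have hyK : (y - (μ y / 2) • e - T e e y • w0) ∈ LinearMap.ker P := by
      rw [hmemK]
      constructor
      · simp only [map_sub, map_smul, hFe, hlw0, smul_eq_mul]; ring
      · simp only [map_sub, map_smul, hμ, hμw0, smul_eq_mul]; field_simp; ring
    have hxe : T x x e = 0 := by
      have : T x x e = T e x x := by simp only [s12, s23]
      rw [this, hQ, hxl]; ring
    rw [hdec, map_add, map_add, map_smul, map_smul, hTK hxK hxK hyK, hxe, hxw0]; simp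
  obtain ⟨w, hw⟩ := hsm x hx0 (hxall x)
  exact hw (hxall w)

/-- A11: two Eckardt points joined by a line of the surface: each reflection functional kills
the other point. -/
theorem mu_eq_zero_of_line [FiniteDimensional k V] (hV : Module.finrank k V = 4)
    (hsm : ∀ v : V, v ≠ 0 → T v v v = 0 → ∃ w, T v v w ≠ 0)
    (e e' : V) (he : e ≠ 0) (he' : e' ∉ Submodule.span k {e})
    (hL : ∀ u ∈ Submodule.span k {e, e'}, T u u u = 0)
    (μ μ' : V →ₗ[k] k) (hμ : μ e = 2) (hμ' : μ' e' = 2)
    (hQ : ∀ x, T e x x = T e e x * μ x) (hQ' : ∀ x, T e' x x = T e' e' x * μ' x)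
    (hE' : IsEck T e') : μ e' = 0 := by
  have h2ne : (2 : k) ≠ 0 := by norm_num
  have he'0 : e' ≠ 0 := by
    rintro rfl; exact he' (Submodule.zero_mem _)
  have heL : e ∈ Submodule.span k {e, e'} := Submodule.subset_span (by simp)
  have he'L : e' ∈ Submodule.span k {e, e'} := Submodule.subset_span (by simp)
  have hTL : ∀ {x y z : V}, x ∈ Submodule.span k {e, e'} → y ∈ Submodule.span k {e, e'} →
      z ∈ Submodule.span k {e, e'} → T x y z = 0 :=
    fun hx hy hz => tri_eq_zero_of_diag T s12 s23 _ hL hx hy hz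
  have hFe : T e e e = 0 := hTL heL heL heL
  have hFe' : T e' e' e' = 0 := hTL he'L he'L he'L
  by_contra hne
  -- polarisation of both normal forms
  have hB : ∀ y, 2 * T e e' y = T e e y * μ e' := by
    intro y
    have h1 : T e (e' + y) (e' + y) = T e e' e' + 2 * T e e' y + T e y y := by tri_ring s12 s23
    rw [hQ, hQ, hQ, map_add, map_add, hTL heL heL he'L] at h1
    linear_combination -h1
  have hB' : ∀ y, 2 * T e e' y = T e' e' y * μ' e := by
    intro y
    have h1 : T e' (e + y) (e + y) = T e' e e + 2 * T e' e y + T e' y y := by tri_ring s12 s23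
    rw [hQ', hQ', hQ', map_add, map_add, hTL he'L he'L heL] at h1
    have : T e' e y = T e e' y := by simp only [s12, s23]
    rw [this] at h1
    linear_combination -h1
  -- the tangent planes coincide
  have hker : ∀ y, T e' e' y = 0 → T e e y = 0 := by
    intro y hy
    have := hB y
    rw [hB' y, hy, zero_mul] at this
    exact (mul_eq_zero.mp this.symm).resolve_right hne
  obtain ⟨U, hinj, hU⟩ := hE'
  -- a line through `e'` not containing `e`
  obtain ⟨j, hj⟩ : ∃ j, e ∉ U j := by
    by_contra hall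
    push Not at hall
    have hUL : ∀ j, U j = Submodule.span k {e, e'} := by
      intro j
      symm
      apply Submodule.eq_of_le_of_finrank_le
      · rw [Submodule.span_le]
        rintro x (rfl | rfl)
        · exact hall j
        · exact (hU j).2.1
      · rw [(hU j).1]
        have hli : LinearIndependent k ![e, e'] := by
          rw [LinearIndependent.pair_iff' he]
          intro a ha
          exact he' (Submodule.mem_span_singleton.mpr ⟨a, ha⟩)
        have := finrank_span_eq_card hli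
        rw [Matrix.range_cons_cons_empty] at this
        rw [this]; simp
    have := hinj ((hUL 0).trans (hUL 1).symm)
    exact absurd this (by decide)
  apply not_vanish_on_K T s12 s23 hV hsm e he hFe μ hμ hQ
  intro y hy1 hy2
  -- `U j ⊔ span {e} = ker λ_e`
  have hUjH : U j ≤ LinearMap.ker (T e e) := by
    intro u hu
    rw [LinearMap.mem_ker]
    apply hker
    exact tri_eq_zero_of_diag T s12 s23 (U j) (hU j).2.2 (hU j).2.1 (hU j).2.1 hu
  have hH : Module.finrank k (LinearMap.ker (T e e)) = 3 := by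
    obtain ⟨w, hw⟩ := hsm e he hFe
    have hl0 : (T e e : V →ₗ[k] k) ≠ 0 := fun h => hw (by rw [h]; rfl)
    have := Module.Dual.finrank_ker_add_one_of_ne_zero hl0
    omega
  have hsup : U j ⊔ Submodule.span k {e} = LinearMap.ker (T e e) := by
    apply Submodule.eq_of_le_of_finrank_le
    · refine sup_le hUjH ?_
      rw [Submodule.span_le]
      rintro x rfl
      exact hFe
    · have hlt : U j < U j ⊔ Submodule.span k {e} := by
        refine lt_of_le_of_ne le_sup_left ?_
        intro h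
        apply hj
        rw [h]
        exact Submodule.mem_sup_right (Submodule.mem_span_singleton_self e)
      have := Submodule.finrank_lt_finrank_of_lt hlt
      rw [(hU j).1] at this
      omega
  have hyH : y ∈ U j ⊔ Submodule.span k {e} := by rw [hsup]; exact hy1
  obtain ⟨u, hu, z, hz, rfl⟩ := Submodule.mem_sup.mp hyH
  obtain ⟨s, rfl⟩ := Submodule.mem_span_singleton.mp hz
  have hlu : T e e u = 0 := hUjH hu
  have : T (u + s • e) (u + s • e) (u + s • e)
      = T u u u + 3 * s * T e u u + 3 * s ^ 2 * T e e u + s ^ 3 * T e e e := by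
    tri_ring s12 s23
  rw [this, (hU j).2.2 u hu, hQ u, hlu, hFe]; ring

/-- all lines through a point lie in the tangent plane. -/
theorem lines_le_tangent (e : V) (U : Submodule k V) (he : e ∈ U) (hU : ∀ u ∈ U, T u u u = 0) :
    U ≤ LinearMap.ker (T e e) := by
  intro u hu
  rw [LinearMap.mem_ker]
  exact tri_eq_zero_of_diag T s12 s23 U hU he he hu

end Groth.Agent.Lib.helper27.CubicEck
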