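import Mathlib

/-! Cubic forms: a homogeneous cubic polynomial is the diagonal of a symmetric trilinear form. -/

namespace Groth.Agent.Lib.helper27.CubicForm

open MvPolynomial

variable {k : Type*} [Field k] {σ : Type*} [Fintype σ] [DecidableEq σ]
set_option linter.unusedSectionVars false
set_option linter.unusedSimpArgs false

theorem pderiv_comm (i j : σ) (f : MvPolynomial σ k) :
    pderiv i (pderiv j f) = pderiv j (pderiv i f) := by
  have h : ⁅(pderiv i : Derivation k (MvPolynomial σ k) (MvPolynomial σ k)),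
      (pderiv j : Derivation k (MvPolynomial σ k) (MvPolynomial σ k))⁆ = 0 := by
    apply MvPolynomial.derivation_ext
    intro n
    rw [Derivation.commutator_apply]
    simp [pderiv_X, Pi.single_apply]
    split_ifs <;> simp
  have := congrArg (fun D => D f) h
  simp only [Derivation.commutator_apply] at this
  exact sub_eq_zero.mp this

/-- Directional derivative `∂_x g = Σ x_i ∂_i g`, bilinear in `(x, g)`. -/
noncomputable def dd : (σ → k) →ₗ[k] (MvPolynomial σ k →ₗ[k] MvPolynomial σ k) :=
  ∑ i, (LinearMap.proj i : (σ → k) →ₗ[k] k).smulRight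
    ((pderiv i : Derivation k (MvPolynomial σ k) (MvPolynomial σ k)) : MvPolynomial σ k →ₗ[k] MvPolynomial σ k)

theorem dd_apply (x : σ → k) (g : MvPolynomial σ k) : dd x g = ∑ i, x i • pderiv i g := by
  simp [dd, LinearMap.sum_apply]

theorem dd_comm (x y : σ → k) (g : MvPolynomial σ k) : dd x (dd y g) = dd y (dd x g) := by
  simp only [dd_apply, map_sum, map_smul, Finset.smul_sum]
  rw [Finset.sum_comm]
  refine Finset.sum_congr rfl fun i _ => Finset.sum_congr rfl fun j _ => ?_
  rw [pderiv_comm, smul_comm]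

theorem dd_single (i : σ) (g : MvPolynomial σ k) : dd (Pi.single i 1) g = pderiv i g := by
  rw [dd_apply, Finset.sum_eq_single i]
  · simp
  · intro j _ hj; simp [Pi.single_apply, hj]
  · simp

theorem dd_isHomogeneous (x : σ → k) {g : MvPolynomial σ k} {n : ℕ} (hg : g.IsHomogeneous n) :
    (dd x g).IsHomogeneous (n - 1) := by
  rw [dd_apply]
  apply IsHomogeneous.sum
  intro i _
  rw [smul_eq_C_mul]
  have := (isHomogeneous_C σ (x i)).mul (hg.pderiv (i := i))
  simpa using this

theorem eval_dd_self (x : σ → k) {g : MvPolynomial σ k} {n : ℕ} (hg : g.IsHomogeneous n) :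
    eval x (dd x g) = n * eval x g := by
  have := congrArg (eval x) hg.sum_X_mul_pderiv
  simp only [map_sum, map_mul, eval_X, nsmul_eq_mul, map_natCast] at this
  rw [dd_apply, map_sum]
  simpa [smul_eval] using this

/-- the (unnormalised) polar form: `tri0 f x y z = (∂_x ∂_y ∂_z f)(0)`. -/
noncomputable def tri0 (f : MvPolynomial σ k) : (σ → k) →ₗ[k] (σ → k) →ₗ[k] (σ → k) →ₗ[k] k :=
  ((LinearMap.mul k (Module.End k (MvPolynomial σ k))).compl₁₂ dd dd).compr₂
    (((LinearMap.mul k (Module.End k (MvPolynomial σ k))).compr₂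
      ((aeval (0 : σ → k)).toLinearMap ∘ₗ LinearMap.applyₗ f)).compl₂ dd)

theorem tri0_apply (f : MvPolynomial σ k) (x y z : σ → k) :
    tri0 f x y z = eval 0 (dd x (dd y (dd z f))) := by
  simp [tri0, LinearMap.compl₁₂_apply, LinearMap.compr₂_apply, LinearMap.compl₂_apply,
    coe_aeval_eq_eval]

/-- the symmetric trilinear form with diagonal `f`. -/
noncomputable def tri (f : MvPolynomial σ k) : (σ → k) →ₗ[k] (σ → k) →ₗ[k] (σ → k) →ₗ[k] k :=
  (6 : k)⁻¹ • tri0 f

theorem tri_apply (f : MvPolynomial σ k) (x y z : σ → k) :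
    tri f x y z = 6⁻¹ * eval 0 (dd x (dd y (dd z f))) := by
  simp [tri, tri0_apply]

theorem tri_swap12 (f : MvPolynomial σ k) (x y z : σ → k) : tri f x y z = tri f y x z := by
  rw [tri_apply, tri_apply, dd_comm]

theorem tri_swap23 (f : MvPolynomial σ k) (x y z : σ → k) : tri f x y z = tri f x z y := by
  rw [tri_apply, tri_apply, dd_comm y z]

theorem eval_of_isHomogeneous_zero {g : MvPolynomial σ k} (hg : g.IsHomogeneous 0) (x y : σ → k) :
    eval x g = eval y g := by
  rw [← totalDegree_zero_iff_isHomogeneous, totalDegree_eq_zero_iff_eq_C] at hg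
  rw [hg]; simp

variable [CharZero k]

theorem tri_diag {f : MvPolynomial σ k} (hf : f.IsHomogeneous 3) (x : σ → k) :
    tri f x x x = eval x f := by
  rw [tri_apply]
  have h2 : (dd x f).IsHomogeneous 2 := dd_isHomogeneous x hf
  have h1 : (dd x (dd x f)).IsHomogeneous 1 := dd_isHomogeneous x h2
  have h0 : (dd x (dd x (dd x f))).IsHomogeneous 0 := dd_isHomogeneous x h1
  rw [eval_of_isHomogeneous_zero h0 0 x, eval_dd_self x h1, eval_dd_self x h2, eval_dd_self x hf]
  have : (6 : k) ≠ 0 := by norm_num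
  field_simp
  norm_num

theorem tri_grad {f : MvPolynomial σ k} (hf : f.IsHomogeneous 3) (i : σ) (x : σ → k) :
    3 * tri f (Pi.single i 1) x x = eval x (pderiv i f) := by
  rw [tri_apply, dd_comm (Pi.single i 1) x, dd_comm (Pi.single i 1) x, dd_single]
  have h2 : (pderiv i f).IsHomogeneous 2 := hf.pderiv
  have h1 : (dd x (pderiv i f)).IsHomogeneous 1 := dd_isHomogeneous x h2
  have h0 : (dd x (dd x (pderiv i f))).IsHomogeneous 0 := dd_isHomogeneous x h1
  rw [eval_of_isHomogeneous_zero h0 0 x, eval_dd_self x h1, eval_dd_self x h2]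
  have : (6 : k) ≠ 0 := by norm_num
  field_simp
  norm_num

end Groth.Agent.Lib.helper27.CubicForm
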