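import Mathlib
import Groth.Agent.Lib.helper27.CubicForm
import Groth.Agent.Lib.helper27.CubicTri

/-! Interface between cubic polynomials in four variables, matrices, and trilinear forms. -/

namespace Groth.Agent.Lib.helper27.CubicIface

open MvPolynomial Groth.Agent.Lib.helper27.CubicForm Groth.Agent.Lib.helper27.CubicTri

set_option linter.unusedSectionVars false
set_option linter.unusedVariables false

variable {k : Type*} [Field k]

theorem eval_subst {n : ℕ} (A : Matrix (Fin n) (Fin n) k) (f : MvPolynomial (Fin n) k)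
    (x : Fin n → k) :
    eval x (aeval (fun i : Fin n => ∑ j : Fin n, C (A i j) * X j) f) = eval (A.mulVec x) f := by
  have := MvPolynomial.comp_aeval_apply (f := fun i : Fin n => ∑ j : Fin n, C (A i j) * X j)
    (aeval x : MvPolynomial (Fin n) k →ₐ[k] k) f
  rw [aeval_eq_eval] at this
  rw [this, aeval_eq_eval]
  congr 2
  funext i
  simp [Matrix.mulVec, dotProduct]

/-- M3: an involution-like matrix (`ker (A - 1)` a hyperplane, `A e = -e`) is the reflection
`x ↦ x - μ x • e` with `μ e = 2`. -/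
theorem refl_of_matrix [CharZero k] (A : Matrix (Fin 4) (Fin 4) k) (e : Fin 4 → k) (he : e ≠ 0)
    (h2 : Module.finrank k ↥(LinearMap.ker (Matrix.toLin' A - LinearMap.id)) = 3)
    (h3 : A.mulVec e = -e) :
    ∃ μ : (Fin 4 → k) →ₗ[k] k, μ e = 2 ∧ ∀ x, A.mulVec x = x - μ x • e := by
  set N : (Fin 4 → k) →ₗ[k] (Fin 4 → k) := Matrix.toLin' A - LinearMap.id with hN
  have hNe : N e = (-2 : k) • e := by
    rw [hN, LinearMap.sub_apply, Matrix.toLin'_apply, h3, LinearMap.id_apply]
    rw [neg_smul, two_smul]; abel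
  have hrank : Module.finrank k (LinearMap.range N) = 1 := by
    have := LinearMap.finrank_range_add_finrank_ker N
    rw [h2] at this
    simp at this
    omega
  have hrange : Submodule.span k {e} = LinearMap.range N := by
    apply Submodule.eq_of_le_of_finrank_le
    · rw [Submodule.span_le]
      intro x hx
      rw [Set.mem_singleton_iff.mp hx]
      refine ⟨(-2 : k)⁻¹ • e, ?_⟩
      rw [map_smul, hNe, smul_smul]
      have : (-2 : k) ≠ 0 := by norm_num
      rw [inv_mul_cancel₀ this, one_smul]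
    · rw [hrank, finrank_span_singleton he]
  obtain ⟨i0, hi0⟩ : ∃ i0, e i0 ≠ 0 := by
    by_contra h
    push Not at h
    exact he (funext fun i => h i)
  refine ⟨-((e i0)⁻¹ • ((LinearMap.proj i0 : (Fin 4 → k) →ₗ[k] k) ∘ₗ N)), ?_, ?_⟩
  · simp only [LinearMap.neg_apply, LinearMap.smul_apply, LinearMap.comp_apply, hNe,
      LinearMap.proj_apply, Pi.smul_apply, smul_eq_mul]
    field_simp
  · intro x
    have hx : N x ∈ Submodule.span k {e} := by rw [hrange]; exact ⟨x, rfl⟩
    obtain ⟨c, hc⟩ := Submodule.mem_span_singleton.mp hx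
    have hAx : A.mulVec x = x + N x := by
      rw [hN, LinearMap.sub_apply, Matrix.toLin'_apply, LinearMap.id_apply]; abel
    rw [hAx]
    simp only [LinearMap.neg_apply, LinearMap.smul_apply, LinearMap.comp_apply,
      LinearMap.proj_apply, smul_eq_mul]
    rw [← hc]
    simp only [Pi.smul_apply, smul_eq_mul]
    rw [sub_eq_add_neg, ← neg_smul, neg_neg]
    congr 2
    field_simp

/-- M4: the matrix of the reflection `x ↦ x - μ x • e`. -/
noncomputable def reflMatrix (μ : (Fin 4 → k) →ₗ[k] k) (e : Fin 4 → k) :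
    Matrix (Fin 4) (Fin 4) k :=
  LinearMap.toMatrix' (LinearMap.id - μ.smulRight e)

theorem reflMatrix_mulVec (μ : (Fin 4 → k) →ₗ[k] k) (e x : Fin 4 → k) :
    (reflMatrix μ e).mulVec x = x - μ x • e := by
  rw [reflMatrix, ← Matrix.toLin'_apply, Matrix.toLin'_toMatrix']
  simp

theorem reflMatrix_mul_self [CharZero k] (μ : (Fin 4 → k) →ₗ[k] k) (e : Fin 4 → k)
    (hμ : μ e = 2) : reflMatrix μ e * reflMatrix μ e = 1 := by
  rw [reflMatrix, ← LinearMap.toMatrix'_mul, ← LinearMap.toMatrix'_one]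
  congr 1
  refine LinearMap.ext fun x => ?_
  simp only [Module.End.mul_apply, LinearMap.sub_apply, LinearMap.id_apply,
    LinearMap.smulRight_apply, map_sub, map_smul, hμ, Module.End.one_apply]
  rw [two_smul, smul_sub, smul_add]
  abel

theorem reflMatrix_finrank_ker [CharZero k] (μ : (Fin 4 → k) →ₗ[k] k) (e : Fin 4 → k)
    (hμ : μ e = 2) :
    Module.finrank k ↥(LinearMap.ker (Matrix.toLin' (reflMatrix μ e) - LinearMap.id)) = 3 := by
  have he : e ≠ 0 := by
    rintro rfl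
    rw [map_zero] at hμ
    exact two_ne_zero hμ.symm
  have hker : LinearMap.ker (Matrix.toLin' (reflMatrix μ e) - LinearMap.id) = LinearMap.ker μ := by
    ext x
    simp only [LinearMap.mem_ker, LinearMap.sub_apply, Matrix.toLin'_apply, reflMatrix_mulVec,
      LinearMap.id_apply]
    constructor
    · intro h
      have : μ x • e = 0 := by
        have h' : x - μ x • e - x = -(μ x • e) := by abel
        rw [h'] at h
        exact neg_eq_zero.mp h
      rcases smul_eq_zero.mp this with h1 | h1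
      · exact h1
      · exact absurd h1 he
    · intro h
      rw [h, zero_smul]; abel
  rw [hker]
  have hμ0 : μ ≠ 0 := by
    intro h
    rw [h] at hμ
    exact two_ne_zero hμ.symm
  have := Module.Dual.finrank_ker_add_one_of_ne_zero hμ0
  simp at this
  omega

theorem reflMatrix_mulVec_self [CharZero k] (μ : (Fin 4 → k) →ₗ[k] k) (e : Fin 4 → k)
    (hμ : μ e = 2) : (reflMatrix μ e).mulVec e = -e := by
  rw [reflMatrix_mulVec, hμ, two_smul]; abel

section poly

variable [CharZero k] (f : MvPolynomial (Fin 4) k) (hf : f.IsHomogeneous 3)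
  (hsm : ∀ v : Fin 4 → k, v ≠ 0 → eval v f = 0 → ∃ i : Fin 4, eval v (pderiv i f) ≠ 0)

include hf

theorem tri_s13 (x y z : Fin 4 → k) : tri f x y z = tri f z y x := by
  rw [tri_swap12, tri_swap23, tri_swap12]

include hsm

theorem smooth_at (v : Fin 4 → k) (hv : v ≠ 0) (hfv : tri f v v v = 0) :
    ∃ w, tri f v v w ≠ 0 := by
  rw [tri_diag hf] at hfv
  obtain ⟨i, hi⟩ := hsm v hv hfv
  refine ⟨Pi.single i 1, ?_⟩
  rw [← tri_grad hf] at hi
  intro h
  apply hi
  rw [tri_swap12, tri_swap23, h, mul_zero]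

omit hsm in
/-- the hypothesis "Eckardt point" in terms of the trilinear form -/
theorem eckardt_tri {e : Fin 4 → k}
    {U : Fin 3 → Submodule k (Fin 4 → k)}
    (hU : ∀ i : Fin 3, Module.finrank k ↥(U i) = 2 ∧ e ∈ U i ∧ ∀ u ∈ U i, eval u f = 0) :
    ∀ i : Fin 3, Module.finrank k ↥(U i) = 2 ∧ e ∈ U i ∧ ∀ u ∈ U i, tri f u u u = 0 := by
  intro i
  refine ⟨(hU i).1, (hU i).2.1, fun u hu => ?_⟩
  rw [tri_diag hf]; exact (hU i).2.2 u hu

/-- S18407 over any field of characteristic zero. -/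
theorem eckardt_involution_existsUnique (e : Fin 4 → k) (he : e ≠ 0)
    (hE : ∃ U : Fin 3 → Submodule k (Fin 4 → k), Function.Injective U ∧
        ∀ i : Fin 3, Module.finrank k ↥(U i) = 2 ∧ e ∈ U i ∧ ∀ u ∈ U i, eval u f = 0) :
    ∃! A : Matrix (Fin 4) (Fin 4) k, A * A = 1 ∧
      Module.finrank k ↥(LinearMap.ker (Matrix.toLin' A - LinearMap.id)) = 3 ∧
        A.mulVec e = -e ∧
        ∃ c : k, aeval (fun i : Fin 4 => ∑ j : Fin 4, C (A i j) * X j) f = C c * f := by
  obtain ⟨U, hinj, hU⟩ := hE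
  have hU' := eckardt_tri f hf hU
  have hee : tri f e e e = 0 := (hU' 0).2.2 e (hU' 0).2.1
  have hsme := smooth_at f hf hsm e he hee
  obtain ⟨μ, hμe, hQ⟩ := exists_mu_of_eckardt (tri f) (tri_swap12 f) (tri_swap23 f)
    (by simp) e he hsme U hinj hU'
  refine ⟨reflMatrix μ e, ⟨reflMatrix_mul_self μ e hμe, reflMatrix_finrank_ker μ e hμe,
    reflMatrix_mulVec_self μ e hμe, 1, ?_⟩, ?_⟩
  · apply MvPolynomial.funext
    intro x
    rw [eval_subst, reflMatrix_mulVec, map_mul, eval_C, one_mul, ← tri_diag hf, ← tri_diag hf]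
    exact refl_preserves (tri f) (tri_swap12 f) (tri_swap23 f) e μ hee hQ x
  · rintro A' ⟨h1, h2, h3, c, hc⟩
    obtain ⟨μ', hμ'e, hA'⟩ := refl_of_matrix A' e he h2 h3
    have hc' : ∀ x, tri f (x - μ' x • e) (x - μ' x • e) (x - μ' x • e) = c * tri f x x x := by
      intro x
      have := congrArg (eval x) hc
      rw [eval_subst, hA', map_mul, eval_C, ← tri_diag hf, ← tri_diag hf] at this
      exact this
    have hQ' := hQ_of_refl (tri f) (tri_swap12 f) (tri_swap23 f) e μ' hee hμ'e hsme c hc'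
    have hμμ' : μ' = μ := mu_unique (tri f) (tri_swap12 f) (tri_swap23 f) e μ' μ hsme hQ' hQ
    apply Matrix.toLin'.injective
    refine LinearMap.ext fun x => ?_
    rw [Matrix.toLin'_apply, Matrix.toLin'_apply, hA', reflMatrix_mulVec, hμμ']

omit hsm in
theorem isEck_iff (e : Fin 4 → k) : IsEck (tri f) e ↔
    ∃ U : Fin 3 → Submodule k (Fin 4 → k), Function.Injective U ∧
        ∀ i : Fin 3, Module.finrank k ↥(U i) = 2 ∧ e ∈ U i ∧ ∀ u ∈ U i, eval u f = 0 := by
  simp only [IsEck, tri_diag hf]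

/-- S18409 over any field of characteristic zero. -/
theorem line_two_eckardt_poly (e e' : Fin 4 → k) (he : e ≠ 0) (he' : e' ∉ Submodule.span k {e})
    (hE : ∃ U : Fin 3 → Submodule k (Fin 4 → k), Function.Injective U ∧
        ∀ i : Fin 3, Module.finrank k ↥(U i) = 2 ∧ e ∈ U i ∧ ∀ u ∈ U i, eval u f = 0)
    (hE' : ∃ U : Fin 3 → Submodule k (Fin 4 → k), Function.Injective U ∧
        ∀ i : Fin 3, Module.finrank k ↥(U i) = 2 ∧ e' ∈ U i ∧ ∀ u ∈ U i, eval u f = 0) :
    Xor (∀ u ∈ Submodule.span k {e, e'}, eval u f = 0)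
      (∃ e'' : Fin 4 → k, e'' ∈ Submodule.span k {e, e'} ∧ e'' ∉ Submodule.span k {e} ∧
        e'' ∉ Submodule.span k {e'} ∧
        (∃ U : Fin 3 → Submodule k (Fin 4 → k), Function.Injective U ∧
        ∀ i : Fin 3, Module.finrank k ↥(U i) = 2 ∧ e'' ∈ U i ∧ ∀ u ∈ U i, eval u f = 0) ∧
        ∀ u ∈ Submodule.span k {e, e'}, eval u f = 0 →
          u ∈ Submodule.span k {e} ∨ u ∈ Submodule.span k {e'} ∨
            u ∈ Submodule.span k {e''}) := by
  have := line_two_eckardt (tri f) (tri_swap12 f) (tri_swap23 f) (by simp)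
    (smooth_at f hf hsm) e e' he he' ((isEck_iff f hf e).mpr hE) ((isEck_iff f hf e').mpr hE')
  simp only [isEck_iff f hf, tri_diag hf] at this
  exact this

omit hf hsm in
theorem matrix_eq_of_mulVec {n : ℕ} {M N : Matrix (Fin n) (Fin n) k}
    (h : ∀ x, M.mulVec x = N.mulVec x) : M = N := by
  apply Matrix.toLin'.injective
  refine LinearMap.ext fun x => ?_
  rw [Matrix.toLin'_apply, Matrix.toLin'_apply, h]

/-- from the matrix datum of an Eckardt involution to the normal form `Q_e = λ_e μ`. -/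
theorem normal_form_of_matrix (e : Fin 4 → k) (he : e ≠ 0) (hFe : eval e f = 0)
    (A : Matrix (Fin 4) (Fin 4) k)
    (hA : A * A = 1 ∧ Module.finrank k ↥(LinearMap.ker (Matrix.toLin' A - LinearMap.id)) = 3 ∧
        A.mulVec e = -e ∧
        ∃ c : k, aeval (fun i : Fin 4 => ∑ j : Fin 4, C (A i j) * X j) f = C c * f) :
    ∃ μ : (Fin 4 → k) →ₗ[k] k, μ e = 2 ∧ (∀ x, A.mulVec x = x - μ x • e) ∧
      ∀ x, tri f e x x = tri f e e x * μ x := by
  obtain ⟨h1, h2, h3, c, hc⟩ := hA
  obtain ⟨μ, hμe, hAx⟩ := refl_of_matrix A e he h2 h3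
  have hee : tri f e e e = 0 := by rw [tri_diag hf]; exact hFe
  have hc' : ∀ x, tri f (x - μ x • e) (x - μ x • e) (x - μ x • e) = c * tri f x x x := by
    intro x
    have := congrArg (eval x) hc
    rw [eval_subst, hAx, map_mul, eval_C, ← tri_diag hf, ← tri_diag hf] at this
    exact this
  exact ⟨μ, hμe, hAx, hQ_of_refl (tri f) (tri_swap12 f) (tri_swap23 f) e μ hee hμe
    (smooth_at f hf hsm e he hee) c hc'⟩

/-- S18411 over any field of characteristic zero. -/
theorem eckardt_involutions_dihedral (e e' e'' : Fin 4 → k) (he : e ≠ 0)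
    (he' : e' ∉ Submodule.span k {e})
    (he''1 : e'' ∉ Submodule.span k {e}) (he''2 : e'' ∉ Submodule.span k {e'})
    (he''L : e'' ∈ Submodule.span k {e, e'})
    (hE : ∃ U : Fin 3 → Submodule k (Fin 4 → k), Function.Injective U ∧
        ∀ i : Fin 3, Module.finrank k ↥(U i) = 2 ∧ e ∈ U i ∧ ∀ u ∈ U i, eval u f = 0)
    (hE' : ∃ U : Fin 3 → Submodule k (Fin 4 → k), Function.Injective U ∧
        ∀ i : Fin 3, Module.finrank k ↥(U i) = 2 ∧ e' ∈ U i ∧ ∀ u ∈ U i, eval u f = 0)
    (hE'' : ∃ U : Fin 3 → Submodule k (Fin 4 → k), Function.Injective U ∧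
        ∀ i : Fin 3, Module.finrank k ↥(U i) = 2 ∧ e'' ∈ U i ∧ ∀ u ∈ U i, eval u f = 0)
    (hL : ¬ ∀ u ∈ Submodule.span k {e, e'}, eval u f = 0)
    (A A' A'' : Matrix (Fin 4) (Fin 4) k)
    (hA : A * A = 1 ∧ Module.finrank k ↥(LinearMap.ker (Matrix.toLin' A - LinearMap.id)) = 3 ∧
        A.mulVec e = -e ∧
        ∃ c : k, aeval (fun i : Fin 4 => ∑ j : Fin 4, C (A i j) * X j) f = C c * f)
    (hA' : A' * A' = 1 ∧
        Module.finrank k ↥(LinearMap.ker (Matrix.toLin' A' - LinearMap.id)) = 3 ∧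
        A'.mulVec e' = -e' ∧
        ∃ c : k, aeval (fun i : Fin 4 => ∑ j : Fin 4, C (A' i j) * X j) f = C c * f)
    (hA'' : A'' * A'' = 1 ∧
        Module.finrank k ↥(LinearMap.ker (Matrix.toLin' A'' - LinearMap.id)) = 3 ∧
        A''.mulVec e'' = -e'' ∧
        ∃ c : k, aeval (fun i : Fin 4 => ∑ j : Fin 4, C (A'' i j) * X j) f = C c * f) :
    (¬ ∃ c : k, A * A' = c • (1 : Matrix (Fin 4) (Fin 4) k)) ∧
      (∃ c : k, (A * A') ^ 3 = c • (1 : Matrix (Fin 4) (Fin 4) k)) ∧
      ∃ c : k, A'' = c • (A * A' * A) := by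
  have he'0 : e' ≠ 0 := by
    rintro rfl; exact he' (Submodule.zero_mem _)
  have he''0 : e'' ≠ 0 := by
    rintro rfl; exact he''1 (Submodule.zero_mem _)
  have hFe : eval e f = 0 := by
    obtain ⟨U, _, hU⟩ := hE; exact (hU 0).2.2 e (hU 0).2.1
  have hFe' : eval e' f = 0 := by
    obtain ⟨U, _, hU⟩ := hE'; exact (hU 0).2.2 e' (hU 0).2.1
  have hFe'' : eval e'' f = 0 := by
    obtain ⟨U, _, hU⟩ := hE''; exact (hU 0).2.2 e'' (hU 0).2.1
  obtain ⟨μ, hμ, hAx, hQ⟩ := normal_form_of_matrix f hf hsm e he hFe A hA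
  obtain ⟨μ', hμ', hA'x, hQ'⟩ := normal_form_of_matrix f hf hsm e' he'0 hFe' A' hA'
  obtain ⟨μ'', hμ'', hA''x, hQ''⟩ := normal_form_of_matrix f hf hsm e'' he''0 hFe'' A'' hA''
  have hTe'' : tri f e'' e'' e'' = 0 := by rw [tri_diag hf]; exact hFe''
  obtain ⟨h1, h2, t, ht, het⟩ := three_reflections (tri f) (tri_swap12 f) (tri_swap23 f)
    e e' e'' he he' he''1 he''2 he''L (by rw [tri_diag hf]; exact hFe)
    (by rw [tri_diag hf]; exact hFe') hTe''
    (smooth_at f hf hsm e'' he''0 hTe'') (by simpa only [tri_diag hf] using hL)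
    μ μ' μ'' hμ hμ' hμ'' hQ hQ' hQ''
  have hA3 : A'' = A * A' * A := by
    apply matrix_eq_of_mulVec
    intro x
    rw [← Matrix.mulVec_mulVec, ← Matrix.mulVec_mulVec, hA''x, hAx x, hA'x, hAx, h1 x]
  have hA3' : A'' = A' * A * A' := by
    apply matrix_eq_of_mulVec
    intro x
    rw [← Matrix.mulVec_mulVec, ← Matrix.mulVec_mulVec, hA''x, hA'x x, hAx, hA'x, h2 x]
  refine ⟨?_, ⟨1, ?_⟩, ⟨1, ?_⟩⟩
  · rintro ⟨c, hc⟩
    have hA'c : A' = c • A := by
      have := congrArg (fun M => A * M) hc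
      simp only [← mul_assoc, hA.1, one_mul, Matrix.mul_smul, mul_one] at this
      exact this
    have h3 := hA'.2.2.1
    rw [hA'c, Matrix.smul_mulVec, hAx e'] at h3
    -- `c • (e' - μ e' • e) = -e'` and `e'' = t • (e' - μ e' • e)`
    apply he''2
    rw [Submodule.mem_span_singleton]
    by_cases hc0 : c = 0
    · rw [hc0, zero_smul] at h3
      exact absurd (neg_eq_zero.mp h3.symm) he'0
    · refine ⟨-(t * c⁻¹), ?_⟩
      rw [het, neg_smul, ← smul_neg, ← h3, smul_smul, mul_assoc, inv_mul_cancel₀ hc0, mul_one]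
  · rw [one_smul]
    have : (A * A') ^ 3 = (A * A' * A) * (A' * A * A') := by
      rw [pow_succ, pow_two]; simp only [mul_assoc]
    rw [this, ← hA3, ← hA3', hA''.1]
  · rw [one_smul]; exact hA3

end poly

end Groth.Agent.Lib.helper27.CubicIface
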