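import Mathlib
import Groth.Agent.Lib.helper27.CubicForm
import Groth.Agent.Lib.helper27.CubicTri
import Groth.Agent.Lib.helper27.CubicIface
import Groth.Agent.Lib.helper27.CubicEck

/-! Plane sections of smooth cubic surfaces are reduced. -/

namespace Groth.Agent.Lib.helper27.CubicPlane

open MvPolynomial Groth.Agent.Lib.helper27.CubicForm Groth.Agent.Lib.helper27.CubicTri
  Groth.Agent.Lib.helper27.CubicIface Groth.Agent.Lib.helper27.CubicEck

set_option linter.unusedSectionVars false
set_option linter.unusedVariables false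

variable {k : Type*} [Field k]

theorem eval_subst_rect {m n : ℕ} (A : Matrix (Fin m) (Fin n) k) (f : MvPolynomial (Fin m) k)
    (x : Fin n → k) :
    eval x (aeval (fun i : Fin m => ∑ j : Fin n, C (A i j) * X j) f) = eval (A.mulVec x) f := by
  have := MvPolynomial.comp_aeval_apply (f := fun i : Fin m => ∑ j : Fin n, C (A i j) * X j)
    (aeval x : MvPolynomial (Fin n) k →ₐ[k] k) f
  rw [aeval_eq_eval] at this
  rw [this, aeval_eq_eval]
  congr 2
  funext i
  simp [Matrix.mulVec, dotProduct]

/-- evaluation of a linear form is linear. -/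
theorem eval_linear {σ : Type*} {p : MvPolynomial σ k} (hp : p.IsHomogeneous 1) (s t : k)
    (y z : σ → k) : eval (s • y + t • z) p = s * eval y p + t * eval z p := by
  rw [← mem_homogeneousSubmodule, homogeneousSubmodule_one_eq_span_X] at hp
  induction hp using Submodule.span_induction with
  | mem x hx =>
    obtain ⟨i, rfl⟩ := hx
    simp
  | zero => simp
  | add x y _ _ hx hy => simp only [map_add, hx, hy]; ring
  | smul a x _ hx => simp only [smul_eval, hx]; ring

/-- coefficient extraction for cubic polynomial identities in one variable. -/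
theorem cubic_coeffs [CharZero k] (a0 a1 a2 a3 : k)
    (h : ∀ t : k, a0 + a1 * t + a2 * t ^ 2 + a3 * t ^ 3 = 0) :
    a0 = 0 ∧ a1 = 0 ∧ a2 = 0 ∧ a3 = 0 := by
  have e0 := h 0
  have e1 := h 1
  have e2 := h (-1)
  have e3 := h 2
  refine ⟨by linear_combination e0, ?_, ?_, ?_⟩
  · linear_combination (-1 / 2 : k) * e0 + e1 - (1 / 3 : k) * e2 - (1 / 6 : k) * e3
  · linear_combination (-1 : k) * e0 + (1 / 2 : k) * e1 + (1 / 2 : k) * e2
  · linear_combination (1 / 2 : k) * e0 - (1 / 2 : k) * e1 - (1 / 6 : k) * e2 + (1 / 6 : k) * e3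

/-- a polynomial of total degree `≤ 1` is a constant plus a linear form. -/
theorem decomp_deg_one {σ : Type*} (h : MvPolynomial σ k) (hd : h.totalDegree ≤ 1) :
    h = C (coeff 0 h) + homogeneousComponent 1 h := by
  have := sum_homogeneousComponent h
  by_cases h0 : h.totalDegree = 0
  · rw [h0] at this
    simp only [zero_add, Finset.range_one, Finset.sum_singleton, homogeneousComponent_zero] at this
    have h1 : homogeneousComponent 1 h = 0 := homogeneousComponent_eq_zero 1 h (by omega)
    rw [h1, add_zero]; exact this.symm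
  · have h1 : h.totalDegree = 1 := by omega
    rw [h1] at this
    rw [Finset.sum_range_succ, Finset.sum_range_one, homogeneousComponent_zero] at this
    exact this.symm

section abstract

variable [IsAlgClosed k] [CharZero k] {V : Type*} [AddCommGroup V] [Module k V]
variable (T : V →ₗ[k] V →ₗ[k] V →ₗ[k] k) (s12 : ∀ x y z, T x y z = T y x z)
  (s23 : ∀ x y z, T x y z = T x z y)

include s12 s23

/-- A12: a plane of double points in a hyperplane section gives a singular point. -/
theorem exists_singular_of_plane (W : Submodule k V) (n : V)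
    (hWn : W ⊔ Submodule.span k {n} = ⊤) (d1 d2 : V)
    (hli : ∀ a b : k, a • d1 + b • d2 = 0 → a = 0 ∧ b = 0)
    (hT : ∀ a b : k, ∀ w ∈ W, T (a • d1 + b • d2) (a • d1 + b • d2) w = 0) :
    ∃ x : V, x ≠ 0 ∧ ∀ w, T x x w = 0 := by
  obtain ⟨a, b, hab, hn⟩ : ∃ a b : k, (a ≠ 0 ∨ b ≠ 0) ∧
      T (a • d1 + b • d2) (a • d1 + b • d2) n = 0 := by
    by_cases hg0 : T d1 d1 n = 0
    · exact ⟨1, 0, Or.inl one_ne_zero, by simpa using hg0⟩
    · obtain ⟨s, hs⟩ := IsAlgClosed.exists_eq_mul_self
        (discrim (T d1 d1 n) (2 * T d1 d2 n) (T d2 d2 n))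
      obtain ⟨a, ha⟩ := exists_quadratic_eq_zero hg0 ⟨s, hs⟩
      refine ⟨a, 1, Or.inr one_ne_zero, ?_⟩
      have : T (a • d1 + (1 : k) • d2) (a • d1 + (1 : k) • d2) n
          = T d1 d1 n * a * a + 2 * T d1 d2 n * a + T d2 d2 n := by
        tri_ring s12 s23
      rw [this]; linear_combination ha
  refine ⟨a • d1 + b • d2, ?_, ?_⟩
  · intro h
    have := hli a b h
    rcases hab with h' | h'
    · exact h' this.1
    · exact h' this.2
  · intro w
    have hw : w ∈ W ⊔ Submodule.span k {n} := by rw [hWn]; trivial
    obtain ⟨w', hw', z, hz, rfl⟩ := Submodule.mem_sup.mp hw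
    obtain ⟨c, rfl⟩ := Submodule.mem_span_singleton.mp hz
    rw [map_add, map_smul, hT a b w' hw', hn]; simp

end abstract

/-- S12424: plane sections of a smooth cubic surface are reduced. -/
theorem squarefree_section [IsAlgClosed k] [CharZero k]
    (f : MvPolynomial (Fin 4) k) (hf : f.IsHomogeneous 3)
    (hsm : ∀ v : Fin 4 → k, v ≠ 0 → eval v f = 0 → ∃ i : Fin 4, eval v (pderiv i f) ≠ 0)
    (A : Matrix (Fin 4) (Fin 3) k) (hA : A.rank = 3) :
    Squarefree (aeval (fun i : Fin 4 => ∑ j : Fin 3, C (A i j) * X j) f) := by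
  set g := aeval (fun i : Fin 4 => ∑ j : Fin 3, C (A i j) * X j) f with hg
  have h3ne : (3 : k) ≠ 0 := by norm_num
  -- basic facts
  have hgev : ∀ y, eval y g = tri f (A.mulVec y) (A.mulVec y) (A.mulVec y) := by
    intro y; rw [hg, eval_subst_rect, tri_diag hf]
  -- the hyperplane `W`
  have hrank : Module.finrank k (LinearMap.range A.mulVecLin) = 3 := hA
  have hker : LinearMap.ker A.mulVecLin = ⊥ := by
    have := LinearMap.finrank_range_add_finrank_ker A.mulVecLin
    rw [hrank] at this
    simp at this
    exact this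
  have hinj : ∀ y, A.mulVec y = 0 → y = 0 := by
    intro y hy
    have : y ∈ LinearMap.ker A.mulVecLin := by rw [LinearMap.mem_ker]; exact hy
    rw [hker] at this
    exact this
  set W := LinearMap.range A.mulVecLin with hW
  obtain ⟨n, hn⟩ : ∃ n, n ∉ W := by
    by_contra hall
    push Not at hall
    have : W = ⊤ := Submodule.eq_top_iff'.mpr hall
    rw [this] at hrank
    simp at hrank
  have hWn : W ⊔ Submodule.span k {n} = ⊤ := by
    apply Submodule.eq_top_of_finrank_eq
    have hlt : W < W ⊔ Submodule.span k {n} := by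
      refine lt_of_le_of_ne le_sup_left ?_
      intro h
      apply hn
      rw [h]
      exact Submodule.mem_sup_right (Submodule.mem_span_singleton_self n)
    have h1 := Submodule.finrank_lt_finrank_of_lt hlt
    have h2 := Submodule.finrank_le (W ⊔ Submodule.span k {n})
    rw [hrank] at h1
    simp at h2 ⊢
    omega
  -- the key reduction: a nonzero functional whose kernel consists of double points
  have key : ∀ ℓ : (Fin 3 → k) →ₗ[k] k, ℓ ≠ 0 →
      (∀ y z, ℓ y = 0 → tri f (A.mulVec y) (A.mulVec y) (A.mulVec z) = 0) → False := by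
    intro ℓ hℓ hdouble
    have hK : Module.finrank k (LinearMap.ker ℓ) = 2 := by
      have := Module.Dual.finrank_ker_add_one_of_ne_zero hℓ
      simp at this
      omega
    let bK := Module.finBasisOfFinrankEq k (LinearMap.ker ℓ) hK
    have hli : ∀ a b : k, a • A.mulVec (bK 0 : Fin 3 → k) + b • A.mulVec (bK 1 : Fin 3 → k) = 0 →
        a = 0 ∧ b = 0 := by
      intro a b hab
      have h0 : a • (bK 0 : Fin 3 → k) + b • (bK 1 : Fin 3 → k) = 0 := by
        apply hinj
        rw [Matrix.mulVec_add, Matrix.mulVec_smul, Matrix.mulVec_smul]; exact hab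
      have hli := bK.linearIndependent
      rw [Fintype.linearIndependent_iff] at hli
      have h0' : ∑ i, (![a, b] i) • bK i = 0 := by
        rw [Fin.sum_univ_two]
        apply Subtype.ext
        simpa using h0
      have := hli ![a, b] h0'
      exact ⟨this 0, this 1⟩
    obtain ⟨x, hx0, hx⟩ := exists_singular_of_plane (tri f) (tri_swap12 f) (tri_swap23 f) W n hWn
      (A.mulVec (bK 0 : Fin 3 → k)) (A.mulVec (bK 1 : Fin 3 → k)) hli (by
        intro a b w hw
        obtain ⟨z, rfl⟩ := hw
        have hy : ℓ (a • (bK 0 : Fin 3 → k) + b • (bK 1 : Fin 3 → k)) = 0 := by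
          rw [map_add, map_smul, map_smul]
          have h1 : ℓ (bK 0 : Fin 3 → k) = 0 := (bK 0).2
          have h2 : ℓ (bK 1 : Fin 3 → k) = 0 := (bK 1).2
          rw [h1, h2]; simp
        have := hdouble _ z hy
        rw [Matrix.mulVec_add, Matrix.mulVec_smul, Matrix.mulVec_smul] at this
        exact this)
    obtain ⟨w, hw⟩ := smooth_at f hf hsm x hx0 (hx x)
    exact hw (hx w)
  -- now squarefreeness
  intro h hdvd
  by_contra hunit
  obtain ⟨m, hm⟩ := hdvd
  by_cases hg0 : g = 0
  · -- `f` vanishes on `W`
    refine key (LinearMap.proj 0) ?_ ?_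
    · intro h0
      have := congrArg (fun l => l (Pi.single 0 1)) h0
      simp at this
    · intro y z _
      refine tri_eq_zero_of_diag (tri f) (tri_swap12 f) (tri_swap23 f) W ?_ ⟨y, rfl⟩ ⟨y, rfl⟩
        ⟨z, rfl⟩
      rintro _ ⟨u, rfl⟩
      change tri f (A.mulVec u) (A.mulVec u) (A.mulVec u) = 0
      rw [← hgev, hg0, map_zero]
  · have hh0 : h ≠ 0 := by
      rintro rfl; apply hg0; rw [hm]; ring
    have hm0 : m ≠ 0 := by
      rintro rfl; apply hg0; rw [hm]; ring
    have hgh : g.IsHomogeneous 3 := by
      have : g.IsHomogeneous (1 * 3) :=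
        hf.aeval (S := k) (n := 1) (fun i : Fin 4 => ∑ j : Fin 3, C (A i j) * X j) (by
          intro i
          apply IsHomogeneous.sum
          intro j _
          exact isHomogeneous_C_mul_X _ _)
      rwa [one_mul] at this
    have hdeg : g.totalDegree = 3 := hgh.totalDegree hg0
    have hdeg2 : h.totalDegree + h.totalDegree + m.totalDegree = 3 := by
      have e1 : g.totalDegree = (h * h).totalDegree + m.totalDegree := by
        rw [hm]; exact totalDegree_mul_of_isDomain (mul_ne_zero hh0 hh0) hm0
      have e2 : (h * h).totalDegree = h.totalDegree + h.totalDegree :=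
        totalDegree_mul_of_isDomain hh0 hh0
      omega
    have hhd : h.totalDegree = 1 := by
      by_contra hne
      have h0 : h.totalDegree = 0 := by omega
      apply hunit
      rw [isUnit_iff_eq_C_of_isReduced]
      rw [totalDegree_eq_zero_iff_eq_C] at h0
      refine ⟨coeff 0 h, ?_, h0⟩
      rw [isUnit_iff_ne_zero]
      intro hc
      apply hh0
      rw [h0, hc, C_0]
    have hmd : m.totalDegree = 1 := by omega
    have hhdec := decomp_deg_one h (by omega)
    have hmdec := decomp_deg_one m (by omega)
    set h1 := homogeneousComponent 1 h with hh1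
    set m1 := homogeneousComponent 1 m with hm1
    have hh1h : h1.IsHomogeneous 1 := homogeneousComponent_isHomogeneous 1 h
    have hm1h : m1.IsHomogeneous 1 := homogeneousComponent_isHomogeneous 1 m
    -- `g y = (h1 y)^2 * m1 y`
    have hfun : ∀ y, eval y g = (eval y h1) ^ 2 * eval y m1 := by
      intro y
      have hscale : ∀ t : k, (eval y h1) ^ 2 * eval y m1 * t ^ 3
          + (2 * coeff 0 h * eval y h1 * eval y m1 + (eval y h1) ^ 2 * coeff 0 m) * t ^ 2
          + ((coeff 0 h) ^ 2 * eval y m1 + 2 * coeff 0 h * eval y h1 * coeff 0 m) * t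
          + (coeff 0 h) ^ 2 * coeff 0 m = eval y g * t ^ 3 := by
        intro t
        have e1 : eval (t • y) g = eval y g * t ^ 3 := by
          rw [hgev, hgev, Matrix.mulVec_smul]
          simp only [map_smul, LinearMap.smul_apply, smul_eq_mul]; ring
        have e2 : eval (t • y) h = coeff 0 h + t * eval y h1 := by
          have := eval_linear hh1h 0 t y y
          rw [zero_smul, zero_add, zero_mul, zero_add] at this
          conv_lhs => rw [hhdec]
          rw [map_add, eval_C, this]
        have e3 : eval (t • y) m = coeff 0 m + t * eval y m1 := by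
          have := eval_linear hm1h 0 t y y
          rw [zero_smul, zero_add, zero_mul, zero_add] at this
          conv_lhs => rw [hmdec]
          rw [map_add, eval_C, this]
        rw [← e1, hm, map_mul, map_mul, e2, e3]; ring
      have := cubic_coeffs ((coeff 0 h) ^ 2 * coeff 0 m)
        ((coeff 0 h) ^ 2 * eval y m1 + 2 * coeff 0 h * eval y h1 * coeff 0 m)
        (2 * coeff 0 h * eval y h1 * eval y m1 + (eval y h1) ^ 2 * coeff 0 m)
        ((eval y h1) ^ 2 * eval y m1 - eval y g) (by
          intro t; linear_combination hscale t)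
      linear_combination -this.2.2.2
    -- the linear functional of `h1`
    let ℓ : (Fin 3 → k) →ₗ[k] k :=
      { toFun := fun y => eval y h1
        map_add' := fun y z => by
          have := eval_linear hh1h 1 1 y z
          simpa using this
        map_smul' := fun c y => by
          have := eval_linear hh1h c 0 y y
          simpa using this }
    have hℓ : ∀ y, ℓ y = eval y h1 := fun y => rfl
    have hm1lin : ∀ (s t : k) (y z : Fin 3 → k),
        eval (s • y + t • z) m1 = s * eval y m1 + t * eval z m1 := eval_linear hm1h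
    refine key ℓ ?_ ?_
    · intro h0
      have hh10 : h1 = 0 := by
        apply MvPolynomial.funext
        intro y
        rw [← hℓ, h0]; simp
      rw [hh10, add_zero] at hhdec
      have : h.totalDegree = 0 := by rw [hhdec]; exact totalDegree_C _
      omega
    · intro y z hy
      rw [hℓ] at hy
      -- expand `g (y + t z)`
      have hexp : ∀ t : k, eval (y + t • z) g
          = tri f (A.mulVec y) (A.mulVec y) (A.mulVec y)
            + 3 * tri f (A.mulVec y) (A.mulVec y) (A.mulVec z) * t
            + 3 * tri f (A.mulVec y) (A.mulVec z) (A.mulVec z) * t ^ 2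
            + tri f (A.mulVec z) (A.mulVec z) (A.mulVec z) * t ^ 3 := by
        intro t
        rw [hgev, Matrix.mulVec_add, Matrix.mulVec_smul]
        have s12 := tri_swap12 f
        have s23 := tri_swap23 f
        tri_ring s12 s23
      have hexp2 : ∀ t : k, eval (y + t • z) g
          = (eval z h1) ^ 2 * eval y m1 * t ^ 2 + (eval z h1) ^ 2 * eval z m1 * t ^ 3 := by
        intro t
        rw [hfun]
        have e1 := eval_linear hh1h 1 t y z
        have e2 := hm1lin 1 t y z
        rw [one_smul] at e1 e2
        rw [e1, e2, hy]; ring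
      have := cubic_coeffs (tri f (A.mulVec y) (A.mulVec y) (A.mulVec y))
        (3 * tri f (A.mulVec y) (A.mulVec y) (A.mulVec z))
        (3 * tri f (A.mulVec y) (A.mulVec z) (A.mulVec z) - (eval z h1) ^ 2 * eval y m1)
        (tri f (A.mulVec z) (A.mulVec z) (A.mulVec z) - (eval z h1) ^ 2 * eval z m1) (by
          intro t
          have := (hexp t).symm.trans (hexp2 t)
          linear_combination this)
      exact (mul_eq_zero.mp this.2.1).resolve_left h3ne

end Groth.Agent.Lib.helper27.CubicPlane
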