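import Mathlib
import Groth.Agent.Lib.helper27.CubicTri

/-! Linear forms as polynomials, vanishing on a hyperplane, factorisation of binary forms. -/

namespace Groth.Agent.Lib.helper27.CubicTP

open MvPolynomial

set_option linter.unusedSectionVars false
set_option linter.unusedVariables false

variable {K : Type*} [Field K]

/-- a linear functional as a polynomial -/
noncomputable def linform {n : ℕ} (φ : (Fin n → K) →ₗ[K] K) : MvPolynomial (Fin n) K :=
  ∑ j, C (φ (Pi.single j 1)) * X j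

theorem eval_linform {n : ℕ} (φ : (Fin n → K) →ₗ[K] K) (x : Fin n → K) :
    eval x (linform φ) = φ x := by
  have hx : x = ∑ j, x j • (Pi.single j (1 : K) : Fin n → K) := by
    ext l; simp [Finset.sum_apply, Pi.single_apply]
  conv_rhs => rw [hx]
  simp only [linform, map_sum, map_mul, eval_C, eval_X, map_smul, smul_eq_mul]
  exact Finset.sum_congr rfl fun j _ => by ring

theorem linform_isHomogeneous {n : ℕ} (φ : (Fin n → K) →ₗ[K] K) : (linform φ).IsHomogeneous 1 := by
  unfold linform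
  apply IsHomogeneous.sum
  intro j _
  have := (isHomogeneous_C (Fin n) (φ (Pi.single j 1))).mul (isHomogeneous_X K j)
  simpa using this

theorem irreducible_of_linear {n : ℕ} (ℓ : MvPolynomial (Fin n) K) (h1 : ℓ.IsHomogeneous 1)
    (h0 : ℓ ≠ 0) : Irreducible ℓ := by
  have hdeg : ℓ.totalDegree = 1 := h1.totalDegree h0
  refine ⟨?_, ?_⟩
  · intro hu
    rw [MvPolynomial.isUnit_iff_eq_C_of_isReduced] at hu
    obtain ⟨c, _, rfl⟩ := hu
    simp at hdeg
  · intro g h hgh
    have hg0 : g ≠ 0 := by rintro rfl; exact h0 (by rw [hgh, zero_mul])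
    have hh0 : h ≠ 0 := by rintro rfl; exact h0 (by rw [hgh, mul_zero])
    have := totalDegree_mul_of_isDomain hg0 hh0
    rw [← hgh, hdeg] at this
    have hcase : g.totalDegree = 0 ∨ h.totalDegree = 0 := by omega
    rcases hcase with hc | hc
    · left
      rw [totalDegree_eq_zero_iff_eq_C] at hc
      rw [hc] at hg0 ⊢
      have : coeff 0 g ≠ 0 := fun h' => hg0 (by rw [h', C_0])
      exact (isUnit_iff_ne_zero.mpr this).map (C (σ := Fin n))
    · right
      rw [totalDegree_eq_zero_iff_eq_C] at hc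
      rw [hc] at hh0 ⊢
      have : coeff 0 h ≠ 0 := fun h' => hh0 (by rw [h', C_0])
      exact (isUnit_iff_ne_zero.mpr this).map (C (σ := Fin n))

theorem mem_span_of_vanish [IsAlgClosed K] {n : ℕ} (ℓ : MvPolynomial (Fin n) K)
    (hℓ : Irreducible ℓ) (G : MvPolynomial (Fin n) K)
    (h : ∀ x : Fin n → K, eval x ℓ = 0 → eval x G = 0) : G ∈ Ideal.span {ℓ} := by
  have hp : (Ideal.span {ℓ}).IsPrime := (Ideal.span_singleton_prime hℓ.ne_zero).mpr hℓ.prime
  rw [← MvPolynomial.IsPrime.vanishingIdeal_zeroLocus (K := K) (Ideal.span {ℓ})]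
  intro x hx
  rw [aeval_eq_eval]
  apply h
  have := hx ℓ (Ideal.subset_span rfl)
  rwa [aeval_eq_eval] at this

theorem binary_quadratic_factor [IsAlgClosed K] [NeZero (2 : K)] (A B C : K) :
    ∃ p1 q1 p2 q2 : K, ∀ s t : K,
      A * s ^ 2 + B * s * t + C * t ^ 2 = (p1 * s + q1 * t) * (p2 * s + q2 * t) := by
  by_cases hA : A = 0
  · exact ⟨0, 1, B, C, fun s t => by rw [hA]; ring⟩
  · obtain ⟨r, hr⟩ : ∃ r : K, A * (r * r) + B * r + C = 0 :=
      exists_quadratic_eq_zero hA (IsAlgClosed.exists_eq_mul_self _)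
    exact ⟨1, -r, A, B + A * r, fun s t => by linear_combination (t ^ 2) * hr⟩

theorem binary_cubic_factor [IsAlgClosed K] [NeZero (2 : K)] (c0 c1 c2 c3 : K) :
    ∃ p1 q1 p2 q2 p3 q3 : K, ∀ s t : K,
      c0 * s ^ 3 + c1 * s ^ 2 * t + c2 * s * t ^ 2 + c3 * t ^ 3 =
        (p1 * s + q1 * t) * (p2 * s + q2 * t) * (p3 * s + q3 * t) := by
  by_cases h0 : c0 = 0
  · obtain ⟨p1, q1, p2, q2, h⟩ := binary_quadratic_factor c1 c2 c3
    exact ⟨0, 1, p1, q1, p2, q2, fun s t => by rw [h0]; linear_combination t * (h s t)⟩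
  · have hdeg : (Polynomial.C c0 * Polynomial.X ^ 3 + Polynomial.C c1 * Polynomial.X ^ 2
        + Polynomial.C c2 * Polynomial.X + Polynomial.C c3 : Polynomial K).degree ≠ 0 := by
      rw [Polynomial.degree_cubic h0]; decide
    obtain ⟨r, hr⟩ := IsAlgClosed.exists_root _ hdeg
    simp only [Polynomial.IsRoot, Polynomial.eval_add, Polynomial.eval_mul, Polynomial.eval_C,
      Polynomial.eval_pow, Polynomial.eval_X] at hr
    obtain ⟨p1, q1, p2, q2, h⟩ := binary_quadratic_factor c0 (c1 + c0 * r) (c2 + c1 * r + c0 * r ^ 2)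
    refine ⟨1, -r, p1, q1, p2, q2, fun s t => ?_⟩
    linear_combination (t ^ 3) * hr + (s - r * t) * (h s t)


open Groth.Agent.Lib.helper27.CubicTri

section abstract

variable {V : Type*} [AddCommGroup V] [Module K V]

theorem finrank_span_pair [FiniteDimensional K V] {a d : V} (ha : a ≠ 0)
    (hd : d ∉ Submodule.span K {a}) :
    Module.finrank K (Submodule.span K ({a, d} : Set V)) = 2 := by
  classical
  have hlt : Submodule.span K {a} < Submodule.span K {a, d} := by
    refine lt_of_le_of_ne (Submodule.span_mono (by simp)) ?_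
    intro h
    apply hd
    rw [h]
    exact Submodule.subset_span (by simp)
  have h1 := Submodule.finrank_lt_finrank_of_lt hlt
  rw [finrank_span_singleton ha] at h1
  have h2 : Module.finrank K (Submodule.span K ({a, d} : Set V)) ≤ 2 := by
    have := finrank_span_finset_le_card (R := K) ({a, d} : Finset V)
    have hc : ({a, d} : Finset V).card ≤ 2 := Finset.card_le_two
    have he : ((({a, d} : Finset V) : Set V)) = {a, d} := by simp
    rw [Set.finrank, he] at this
    omega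
  omega

theorem dir_of_linear (p q s t : K) (hpq : p ≠ 0 ∨ q ≠ 0) (h : p * s + q * t = 0) :
    ∃ c : K, s = c * q ∧ t = -(c * p) := by
  by_cases hq : q = 0
  · have hp : p ≠ 0 := hpq.resolve_right (not_not.mpr hq)
    rw [hq, zero_mul, add_zero] at h
    have hs : s = 0 := (mul_eq_zero.mp h).resolve_left hp
    refine ⟨-t / p, by rw [hs, hq, mul_zero], ?_⟩
    field_simp
  · refine ⟨s / q, by field_simp, ?_⟩
    field_simp
    linear_combination h

theorem polar_tangent_lines [CharZero K] [IsAlgClosed K] [FiniteDimensional K V]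
    (hV : Module.finrank K V = 4)
    (T : V →ₗ[K] V →ₗ[K] V →ₗ[K] K) (s12 : ∀ x y z, T x y z = T y x z)
    (s23 : ∀ x y z, T x y z = T x z y) (a : V) (ha : a ≠ 0) (hFa : T a a a = 0)
    (n : V) (hn : T a a n ≠ 0)
    (hnotT : ¬ ∃ φ₁ φ₂ φ₃ : V →ₗ[K] K, ∀ x, T a a x = 0 → T x x x = φ₁ x * φ₂ x * φ₃ x) :
    ∃ U₁ U₂ : Submodule K V, Module.finrank K U₁ = 2 ∧ Module.finrank K U₂ = 2 ∧ a ∈ U₁ ∧ a ∈ U₂ ∧
      U₁ ≤ LinearMap.ker (T a a) ∧ U₂ ≤ LinearMap.ker (T a a) ∧
      {x : V | T a a x = 0 ∧ T a x x = 0} = (U₁ : Set V) ∪ (U₂ : Set V) := by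
  classical
  have hHmem : ∀ x, x ∈ LinearMap.ker (T a a) ↔ T a a x = 0 := fun x => LinearMap.mem_ker
  have hlam0 : T a a ≠ 0 := fun h => hn (by rw [h]; rfl)
  have hfr : Module.finrank K (LinearMap.ker (T a a)) = 3 := by
    have := Module.Dual.finrank_ker_add_one_of_ne_zero hlam0
    rw [hV] at this; omega
  obtain ⟨w₁, hw₁H, hw₁⟩ : ∃ w ∈ LinearMap.ker (T a a), w ∉ Submodule.span K {a} := by
    by_contra h
    push Not at h
    have hle : LinearMap.ker (T a a) ≤ Submodule.span K {a} := fun w hw => h w hw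
    have h1 := Submodule.finrank_mono hle
    rw [finrank_span_singleton ha] at h1
    omega
  obtain ⟨w₂, hw₂H, hw₂⟩ : ∃ w ∈ LinearMap.ker (T a a), w ∉ Submodule.span K {a, w₁} := by
    by_contra h
    push Not at h
    have hle : LinearMap.ker (T a a) ≤ Submodule.span K {a, w₁} := fun w hw => h w hw
    have h1 := Submodule.finrank_mono hle
    rw [finrank_span_pair ha hw₁] at h1
    omega
  rw [hHmem] at hw₁H hw₂H
  -- independence of a, w₁, w₂
  have hind3 : ∀ c s t : K, c • a + s • w₁ + t • w₂ = 0 → s = 0 ∧ t = 0 := by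
    intro c s t h
    have ht : t = 0 := by
      by_contra ht
      apply hw₂
      rw [Submodule.mem_span_pair]
      refine ⟨-(t⁻¹ * c), -(t⁻¹ * s), ?_⟩
      have h2 : t • w₂ = -(c • a) - s • w₁ := by
        rw [← sub_eq_zero]; rw [← h]; abel
      have h3 : w₂ = t⁻¹ • (t • w₂) := by rw [smul_smul, inv_mul_cancel₀ ht, one_smul]
      rw [h3, h2]; module
    refine ⟨?_, ht⟩
    rw [ht, zero_smul, add_zero] at h
    by_contra hs
    apply hw₁
    rw [Submodule.mem_span_singleton]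
    refine ⟨-(s⁻¹ * c), ?_⟩
    have h2 : s • w₁ = -(c • a) := by
      rw [← sub_eq_zero]; rw [← h]; abel
    have h3 : w₁ = s⁻¹ • (s • w₁) := by rw [smul_smul, inv_mul_cancel₀ hs, one_smul]
    rw [h3, h2]; module
  have hli : LinearIndependent K ![a, w₁, w₂, n] := by
    rw [Fintype.linearIndependent_iff]
    intro g hg
    rw [Fin.sum_univ_four] at hg
    simp only [Matrix.cons_val_zero, Matrix.cons_val_one, Matrix.cons_val] at hg
    have hg3 : g 3 = 0 := by
      have := congrArg (T a a) hg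
      rw [map_add, map_add, map_add, map_smul, map_smul, map_smul, map_smul, map_zero, hFa,
        hw₁H, hw₂H] at this
      simpa [hn] using this
    rw [hg3, zero_smul, add_zero] at hg
    obtain ⟨h1, h2⟩ := hind3 _ _ _ hg
    rw [h1, h2, zero_smul, zero_smul, add_zero, add_zero] at hg
    have h0 : g 0 = 0 := (smul_eq_zero.mp hg).resolve_right ha
    intro i; fin_cases i <;> assumption
  let B := basisOfLinearIndependentOfCardEqFinrank hli (by simp [hV])
  have hB : ∀ i, B i = ![a, w₁, w₂, n] i := fun i => by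
    simp [B, coe_basisOfLinearIndependentOfCardEqFinrank]
  have hdec : ∀ x, T a a x = 0 → x = B.repr x 0 • a + B.repr x 1 • w₁ + B.repr x 2 • w₂ := by
    intro x hx
    have h := B.sum_repr x
    rw [Fin.sum_univ_four, hB, hB, hB, hB] at h
    simp only [Matrix.cons_val_zero, Matrix.cons_val_one, Matrix.cons_val] at h
    have h3 : B.repr x 3 = 0 := by
      have := congrArg (T a a) h
      rw [map_add, map_add, map_add, map_smul, map_smul, map_smul, map_smul, hFa,
        hw₁H, hw₂H, hx] at this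
      simpa [hn] using this
    rw [h3, zero_smul, add_zero] at h
    exact h.symm
  -- the quadratic and cubic forms in coordinates
  have hQ : ∀ α s t : K, T a (α • a + s • w₁ + t • w₂) (α • a + s • w₁ + t • w₂)
      = T a w₁ w₁ * s ^ 2 + 2 * T a w₁ w₂ * s * t + T a w₂ w₂ * t ^ 2 := by
    intro α s t
    have : T a (α • a + s • w₁ + t • w₂) (α • a + s • w₁ + t • w₂)
        = α ^ 2 * T a a a + 2 * α * s * T a a w₁ + 2 * α * t * T a a w₂ + T a w₁ w₁ * s ^ 2
          + 2 * T a w₁ w₂ * s * t + T a w₂ w₂ * t ^ 2 := by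
      tri_ring s12 s23
    rw [this, hFa, hw₁H, hw₂H]; ring
  have hC : ∀ α s t : K, T (α • a + s • w₁ + t • w₂) (α • a + s • w₁ + t • w₂) (α • a + s • w₁ + t • w₂)
      = 3 * α * (T a w₁ w₁ * s ^ 2 + 2 * T a w₁ w₂ * s * t + T a w₂ w₂ * t ^ 2)
        + (T w₁ w₁ w₁ * s ^ 3 + 3 * T w₁ w₁ w₂ * s ^ 2 * t + 3 * T w₁ w₂ w₂ * s * t ^ 2
          + T w₂ w₂ w₂ * t ^ 3) := by
    intro α s t
    have : T (α • a + s • w₁ + t • w₂) (α • a + s • w₁ + t • w₂) (α • a + s • w₁ + t • w₂)
        = α ^ 3 * T a a a + 3 * α ^ 2 * s * T a a w₁ + 3 * α ^ 2 * t * T a a w₂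
        + 3 * α * (T a w₁ w₁ * s ^ 2 + 2 * T a w₁ w₂ * s * t + T a w₂ w₂ * t ^ 2)
        + (T w₁ w₁ w₁ * s ^ 3 + 3 * T w₁ w₁ w₂ * s ^ 2 * t + 3 * T w₁ w₂ w₂ * s * t ^ 2
          + T w₂ w₂ w₂ * t ^ 3) := by
      tri_ring s12 s23
    rw [this, hFa, hw₁H, hw₂H]; ring
  have : NeZero (2 : K) := ⟨two_ne_zero⟩
  by_cases hABC : T a w₁ w₁ = 0 ∧ T a w₁ w₂ = 0 ∧ T a w₂ w₂ = 0
  · exfalso
    apply hnotT
    obtain ⟨hA, hB', hC'⟩ := hABC
    obtain ⟨p1, q1, p2, q2, p3, q3, hfac⟩ :=
      binary_cubic_factor (T w₁ w₁ w₁) (3 * T w₁ w₁ w₂) (3 * T w₁ w₂ w₂) (T w₂ w₂ w₂)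
    refine ⟨p1 • B.coord 1 + q1 • B.coord 2, p2 • B.coord 1 + q2 • B.coord 2,
      p3 • B.coord 1 + q3 • B.coord 2, fun x hx => ?_⟩
    simp only [LinearMap.add_apply, LinearMap.smul_apply, Module.Basis.coord_apply, smul_eq_mul]
    conv_lhs => rw [hdec x hx]
    rw [hC, hA, hB', hC', ← hfac]
    ring
  · obtain ⟨p1, q1, p2, q2, hfac⟩ :=
      binary_quadratic_factor (T a w₁ w₁) (2 * T a w₁ w₂) (T a w₂ w₂)
    have hne1 : p1 ≠ 0 ∨ q1 ≠ 0 := by
      by_contra h
      push Not at h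
      obtain ⟨h1, h2⟩ := h
      apply hABC
      have e1 := hfac 1 0
      have e2 := hfac 0 1
      have e3 := hfac 1 1
      rw [h1, h2] at e1 e2 e3
      have hA : T a w₁ w₁ = 0 := by linear_combination e1
      have hC' : T a w₂ w₂ = 0 := by linear_combination e2
      refine ⟨hA, ?_, hC'⟩
      have : 2 * T a w₁ w₂ = 0 := by linear_combination e3 - e1 - e2
      simpa using this
    have hne2 : p2 ≠ 0 ∨ q2 ≠ 0 := by
      by_contra h
      push Not at h
      obtain ⟨h1, h2⟩ := h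
      apply hABC
      have e1 := hfac 1 0
      have e2 := hfac 0 1
      have e3 := hfac 1 1
      rw [h1, h2] at e1 e2 e3
      have hA : T a w₁ w₁ = 0 := by linear_combination e1
      have hC' : T a w₂ w₂ = 0 := by linear_combination e2
      refine ⟨hA, ?_, hC'⟩
      have : 2 * T a w₁ w₂ = 0 := by linear_combination e3 - e1 - e2
      simpa using this
    -- direction vectors
    have hdir : ∀ p q : K, (p ≠ 0 ∨ q ≠ 0) → q • w₁ - p • w₂ ∉ Submodule.span K {a} := by
      intro p q hpq hmem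
      rw [Submodule.mem_span_singleton] at hmem
      obtain ⟨c, hc⟩ := hmem
      have : (-c) • a + q • w₁ + (-p) • w₂ = 0 := by
        rw [neg_smul, neg_smul, hc]; abel
      obtain ⟨h1, h2⟩ := hind3 _ _ _ this
      rcases hpq with h | h
      · exact h (neg_eq_zero.mp h2)
      · exact h h1
    have hmemH : ∀ p q : K, Submodule.span K {a, q • w₁ - p • w₂} ≤ LinearMap.ker (T a a) := by
      intro p q
      rw [Submodule.span_le]
      rintro x (rfl | rfl)
      · exact (hHmem _).mpr hFa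
      · rw [SetLike.mem_coe, hHmem, map_sub, map_smul, map_smul, hw₁H, hw₂H]; simp
    have hzero : ∀ p q p' q' : K,
        ((∀ s t : K, T a w₁ w₁ * s ^ 2 + 2 * T a w₁ w₂ * s * t + T a w₂ w₂ * t ^ 2
          = (p * s + q * t) * (p' * s + q' * t)) ∨
         (∀ s t : K, T a w₁ w₁ * s ^ 2 + 2 * T a w₁ w₂ * s * t + T a w₂ w₂ * t ^ 2
          = (p' * s + q' * t) * (p * s + q * t))) →
        ∀ x ∈ Submodule.span K {a, q • w₁ - p • w₂}, T a x x = 0 := by
      intro p q p' q' hf x hx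
      rw [Submodule.mem_span_pair] at hx
      obtain ⟨α, c, rfl⟩ := hx
      have : α • a + c • (q • w₁ - p • w₂) = α • a + (c * q) • w₁ + (-(c * p)) • w₂ := by module
      rw [this, hQ]
      rcases hf with hf | hf
      · rw [hf]; ring
      · rw [hf]; ring
    refine ⟨Submodule.span K {a, q1 • w₁ - p1 • w₂}, Submodule.span K {a, q2 • w₁ - p2 • w₂},
      finrank_span_pair ha (hdir _ _ hne1), finrank_span_pair ha (hdir _ _ hne2),
      Submodule.subset_span (by simp), Submodule.subset_span (by simp), hmemH _ _, hmemH _ _, ?_⟩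
    ext x
    simp only [Set.mem_ofPred_eq, Set.mem_union, SetLike.mem_coe]
    constructor
    · rintro ⟨hx1, hx2⟩
      have hx := hdec x hx1
      obtain ⟨α, hα⟩ : ∃ α, α = B.repr x 0 := ⟨_, rfl⟩
      obtain ⟨s, hs⟩ : ∃ s, s = B.repr x 1 := ⟨_, rfl⟩
      obtain ⟨t, ht⟩ : ∃ t, t = B.repr x 2 := ⟨_, rfl⟩
      rw [← hα, ← hs, ← ht] at hx
      rw [hx, hQ, hfac] at hx2
      rcases mul_eq_zero.mp hx2 with h | h
      · left
        obtain ⟨c, hc1, hc2⟩ := dir_of_linear p1 q1 s t hne1 h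
        rw [Submodule.mem_span_pair]
        refine ⟨α, c, ?_⟩
        rw [hx, hc1, hc2]; module
      · right
        obtain ⟨c, hc1, hc2⟩ := dir_of_linear p2 q2 s t hne2 h
        rw [Submodule.mem_span_pair]
        refine ⟨α, c, ?_⟩
        rw [hx, hc1, hc2]; module
    · rintro (hx | hx)
      · exact ⟨(hHmem x).mp (hmemH _ _ hx), hzero p1 q1 p2 q2 (Or.inl hfac) x hx⟩
      · exact ⟨(hHmem x).mp (hmemH _ _ hx), hzero p2 q2 p1 q1 (Or.inr hfac) x hx⟩

end abstract

end Groth.Agent.Lib.helper27.CubicTP
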