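import Mathlib

set_option autoImplicit false
universe u

namespace Groth.Agent.Lib.helper27.PolyGr
open Polynomial DirectSum

variable {A B : Type u} [CommRing A] [CommRing B] (𝒜 : ℕ → AddSubgroup A) (ℬ : ℕ → AddSubgroup B)
  [GradedRing 𝒜] [GradedRing ℬ] (ι : A →+* B) (z : B)

/-- polynomials homogeneous of total degree `k` (with `X` of degree one). -/
def N (k : ℕ) : AddSubgroup A[X] where
  carrier := {p | ∀ j, p.coeff j ∈ 𝒜 (k - j) ∧ (k < j → p.coeff j = 0)}
  zero_mem' := fun j => ⟨by rw [coeff_zero]; exact zero_mem _, fun _ => coeff_zero _⟩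
  add_mem' := fun {p q} hp hq j =>
    ⟨by rw [coeff_add]; exact add_mem (hp j).1 (hq j).1,
      fun h => by rw [coeff_add, (hp j).2 h, (hq j).2 h, add_zero]⟩
  neg_mem' := fun {p} hp j =>
    ⟨by rw [coeff_neg]; exact neg_mem (hp j).1, fun h => by rw [coeff_neg, (hp j).2 h, neg_zero]⟩

theorem mem_N {k : ℕ} {p : A[X]} :
    p ∈ N 𝒜 k ↔ ∀ j, p.coeff j ∈ 𝒜 (k - j) ∧ (k < j → p.coeff j = 0) := Iff.rfl

theorem monomial_mem {i n : ℕ} {a : A} (ha : a ∈ 𝒜 i) : monomial n a ∈ N 𝒜 (i + n) := by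
  rw [mem_N]
  intro j
  rw [coeff_monomial]
  split_ifs with h
  · subst h
    exact ⟨by rwa [Nat.add_sub_cancel], fun h => absurd h (by omega)⟩
  · exact ⟨zero_mem _, fun _ => rfl⟩

variable (hι : ∀ i a, a ∈ 𝒜 i → ι a ∈ ℬ i) (hz : z ∈ ℬ 1)

include hι hz in
theorem eval₂_monomial_mem {i n : ℕ} {a : A} (ha : a ∈ 𝒜 i) :
    eval₂ ι z (monomial n a) ∈ ℬ (i + n) := by
  rw [eval₂_monomial]
  have := SetLike.mul_mem_graded (hι i a ha) (SetLike.pow_mem_graded n hz)
  rwa [smul_eq_mul, mul_one] at this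

include hι hz in
theorem proj_mem (p : A[X]) (k : ℕ) :
    ∃ p' ∈ N 𝒜 k, eval₂ ι z p' = (decompose ℬ (eval₂ ι z p) k : B) := by
  induction p using Polynomial.induction_on' with
  | add p q hp hq =>
    obtain ⟨p', hp', e1⟩ := hp
    obtain ⟨q', hq', e2⟩ := hq
    refine ⟨p' + q', add_mem hp' hq', ?_⟩
    rw [eval₂_add, eval₂_add, decompose_add, DirectSum.add_apply, AddSubgroup.coe_add, e1, e2]
  | monomial n a =>
    refine DirectSum.Decomposition.inductionOn 𝒜 (motive := fun a => ∃ p' ∈ N 𝒜 k,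
      eval₂ ι z p' = (decompose ℬ (eval₂ ι z (monomial n a)) k : B)) ?_ ?_ ?_ a
    · refine ⟨0, zero_mem _, ?_⟩
      rw [monomial_zero_right, eval₂_zero, decompose_zero, DirectSum.zero_apply]
      rfl
    · intro i m
      have hx := eval₂_monomial_mem 𝒜 ℬ ι z hι hz (n := n) m.2
      by_cases hk : i + n = k
      · subst hk
        exact ⟨monomial n (m : A), monomial_mem 𝒜 m.2, (decompose_of_mem_same ℬ hx).symm⟩
      · refine ⟨0, zero_mem _, ?_⟩
        rw [eval₂_zero, decompose_of_mem_ne ℬ hx hk]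
    · rintro a a' ⟨p', hp', e1⟩ ⟨q', hq', e2⟩
      refine ⟨p' + q', add_mem hp' hq', ?_⟩
      rw [eval₂_add, map_add (monomial n), eval₂_add, decompose_add, DirectSum.add_apply, AddSubgroup.coe_add,
        e1, e2]

variable (hbij : Function.Bijective (Polynomial.eval₂RingHom ι z))

include hι hz hbij in
theorem exists_of_mem {k : ℕ} {x : B} (hx : x ∈ ℬ k) : ∃ p ∈ N 𝒜 k, eval₂ ι z p = x := by
  obtain ⟨p, rfl⟩ := hbij.2 x
  obtain ⟨p', hp', e⟩ := proj_mem 𝒜 ℬ ι z hι hz p k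
  refine ⟨p', hp', ?_⟩
  rw [e]
  exact decompose_of_mem_same ℬ hx

include hι hz hbij in
/-- an ideal containing `ι(A₊)` and `z` contains `B₊`. -/
theorem irrelevant_le (q : Ideal B)
    (h1 : ∀ f ∈ (HomogeneousIdeal.irrelevant 𝒜).toIdeal, ι f ∈ q) (h2 : z ∈ q) :
    (HomogeneousIdeal.irrelevant ℬ).toIdeal ≤ q := by
  rw [HomogeneousIdeal.toIdeal_irrelevant_le]
  intro k hk x hx
  obtain ⟨p, hp, rfl⟩ := exists_of_mem 𝒜 ℬ ι z hι hz hbij hx
  rw [eval₂_eq_sum_range]
  refine Ideal.sum_mem _ (fun j _ => ?_)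
  rcases Nat.eq_zero_or_pos j with rfl | hj
  · rw [pow_zero, mul_one]
    apply h1
    exact HomogeneousIdeal.mem_irrelevant_of_mem _ hk (by simpa using (hp 0).1)
  · exact Ideal.mul_mem_left _ _ (Ideal.pow_mem_of_mem _ h2 _ hj)

theorem eq_zero_of_eval_one {k : ℕ} {p : A[X]} (hp : p ∈ N 𝒜 k) (h : eval 1 p = 0) : p = 0 := by
  ext j
  rw [coeff_zero]
  by_cases hj : k < j
  · exact (hp j).2 hj
  push Not at hj
  have hdeg : p.natDegree < k + 1 :=
    Nat.lt_succ_of_le (natDegree_le_iff_coeff_eq_zero.mpr (fun M hM => (hp M).2 hM))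
  have hsum : eval 1 p = ∑ i ∈ Finset.range (k + 1), p.coeff i := by
    rw [eval_eq_sum_range' hdeg]
    simp
  have h3 := congrArg (GradedRing.proj 𝒜 (k - j)) (hsum.symm.trans h)
  rw [map_sum, map_zero, Finset.sum_eq_single j] at h3
  · rw [GradedRing.proj_apply, decompose_of_mem_same 𝒜 (hp j).1] at h3
    exact h3
  · intro i hi hij
    rw [GradedRing.proj_apply]
    apply decompose_of_mem_ne 𝒜 (hp i).1
    have := Finset.mem_range.mp hi
    omega
  · intro hj'
    exact absurd (Finset.mem_range.mpr (Nat.lt_succ_of_le hj)) hj'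

include hι hz hbij in
/-- "set `z = 1`" is injective on each graded piece. -/
theorem eq_zero_of_mem_of_eval_one {k : ℕ} {x : B} (hx : x ∈ ℬ k) (p : A[X])
    (hp : eval₂ ι z p = x) (h : eval 1 p = 0) : x = 0 := by
  obtain ⟨p', hp', e⟩ := exists_of_mem 𝒜 ℬ ι z hι hz hbij hx
  have hpp : p = p' := hbij.1 (by
    rw [coe_eval₂RingHom, hp, e])
  subst hpp
  rw [eq_zero_of_eval_one 𝒜 hp' h, eval₂_zero] at hp
  exact hp.symm

include hbij in
/-- a retraction `θ` of `ι` with `θ z = 0` has kernel `(z)`. -/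
theorem sub_mem_span (θ : B →+* A) (h1 : ∀ a, θ (ι a) = a) (h2 : θ z = 0) (x : B) :
    x - ι (θ x) ∈ Ideal.span {z} := by
  obtain ⟨p, rfl⟩ := hbij.2 x
  rw [coe_eval₂RingHom]
  have e1 : θ (eval₂ ι z p) = p.coeff 0 := by
    rw [hom_eval₂, h2]
    have : θ.comp ι = RingHom.id A := RingHom.ext h1
    rw [this, eval₂_id, ← coeff_zero_eq_eval_zero]
  rw [e1]
  have e2 : eval₂ ι z p - ι (p.coeff 0) = eval₂ ι z (divX p) * z := by
    conv_lhs => rw [← divX_mul_X_add p]
    rw [eval₂_add, eval₂_mul, eval₂_X, eval₂_C]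
    simp
  rw [e2]
  exact Ideal.mul_mem_left _ _ (Ideal.mem_span_singleton_self z)

end Groth.Agent.Lib.helper27.PolyGr

namespace Groth.Agent.Lib.helper27.PolyGr
open Polynomial DirectSum

section ungraded
variable {A B : Type u} [CommRing A] [CommRing B] (ℬ : ℕ → AddSubgroup B) [GradedRing ℬ]
  (ι : A →+* B) (z : B) (hι : ∀ a, ι a ∈ ℬ 0) (hz : z ∈ ℬ 1)

include hι hz in
theorem proj_mem₀ (p : A[X]) (k : ℕ) :
    ∃ a : A, ι a * z ^ k = (decompose ℬ (eval₂ ι z p) k : B) := by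
  induction p using Polynomial.induction_on' with
  | add p q hp hq =>
    obtain ⟨a, e1⟩ := hp
    obtain ⟨b, e2⟩ := hq
    refine ⟨a + b, ?_⟩
    rw [eval₂_add, decompose_add, DirectSum.add_apply, AddSubgroup.coe_add, ← e1, ← e2, map_add,
      add_mul]
  | monomial n a =>
    have hx : eval₂ ι z (monomial n a) ∈ ℬ n := by
      rw [eval₂_monomial]
      have := SetLike.mul_mem_graded (hι a) (SetLike.pow_mem_graded n hz)
      rwa [smul_eq_mul, mul_one, zero_add] at this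
    by_cases hk : n = k
    · subst hk
      exact ⟨a, by rw [decompose_of_mem_same ℬ hx, eval₂_monomial]⟩
    · exact ⟨0, by rw [decompose_of_mem_ne ℬ hx hk, map_zero, zero_mul]⟩

include hι hz in
theorem exists_of_mem₀ (hbij : Function.Bijective (Polynomial.eval₂RingHom ι z))
    {k : ℕ} {x : B} (hx : x ∈ ℬ k) : ∃ a : A, ι a * z ^ k = x := by
  obtain ⟨p, rfl⟩ := hbij.2 x
  obtain ⟨a, e⟩ := proj_mem₀ ℬ ι z hι hz p k
  refine ⟨a, ?_⟩
  rw [e]
  exact decompose_of_mem_same ℬ hx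

include hι hz in
theorem injective_ι₀ (hbij : Function.Bijective (Polynomial.eval₂RingHom ι z)) :
    Function.Injective ι := by
  intro a b hab
  have : Polynomial.eval₂RingHom ι z (C a) = Polynomial.eval₂RingHom ι z (C b) := by
    rw [coe_eval₂RingHom, eval₂_C, eval₂_C, hab]
  exact C_injective (hbij.1 this)

end ungraded

end Groth.Agent.Lib.helper27.PolyGr
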