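import Mathlib
import Groth.Prelude.Def_RelProj4

set_option autoImplicit false
universe u

namespace Groth.Agent.Lib.helper27.ProjQMap
open CategoryTheory CategoryTheory.Limits AlgebraicGeometry Opposite TopologicalSpace
open scoped HomogeneousIdeal

/-- A property local at the target can be checked on "charts". -/
theorem of_charts (P : MorphismProperty Scheme.{u}) [IsZariskiLocalAtTarget P]
    {X Y : Scheme.{u}} (h : X ⟶ Y) {ι : Type u} (V W : ι → Scheme.{u})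
    (c : ∀ i, V i ⟶ Y) (hc : ∀ i, IsOpenImmersion (c i))
    (a : ∀ i, W i ⟶ X) (ha : ∀ i, IsOpenImmersion (a i)) (g : ∀ i, W i ⟶ V i)
    (hcov : ∀ y : Y, ∃ i, y ∈ Set.range (c i))
    (hcomm : ∀ i, a i ≫ h = g i ≫ c i)
    (hpre : ∀ i, h ⁻¹ᵁ (c i).opensRange = (a i).opensRange)
    (H : ∀ i, P (g i)) : P h := by
  let 𝒰 : Y.OpenCover := Scheme.Cover.mkOfCovers ι V c (fun y => by
    obtain ⟨i, z, hz⟩ := hcov y
    exact ⟨i, z, hz⟩)
  refine IsZariskiLocalAtTarget.of_openCover (P := P) 𝒰 fun i => ?_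
  have hp : IsPullback (g i) (a i) (c i) h :=
    IsOpenImmersion.isPullback (g i) (a i) (c i) h (hcomm i) (hpre i)
  have h1 : hp.flip.isoPullback.hom ≫ pullback.snd h (c i) = g i := hp.flip.isoPullback_hom_snd
  change P (pullback.snd h (c i))
  rw [← P.cancel_left_of_respectsIso hp.flip.isoPullback.hom, h1]
  exact H i

section alg
variable {A B : Type u} [CommRing A] [CommRing B] {𝒜 : ℕ → AddSubgroup A} {ℬ : ℕ → AddSubgroup B}
  [GradedRing 𝒜] [GradedRing ℬ] (ψ : 𝒜 →+*ᵍ ℬ)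

/-- (TN)-surjectivity: every point of `Proj ℬ` lies in some `D₊(ψ f)`. -/
theorem exists_basicOpen (n : ℕ) (hTN : ∀ k, n ≤ k → ∀ y ∈ ℬ k, ∃ x ∈ 𝒜 k, ψ x = y)
    (x' : Proj ℬ) : ∃ (d : ℕ) (f : A), 0 < d ∧ f ∈ 𝒜 d ∧ x' ∈ Proj.basicOpen ℬ (ψ f) := by
  have h1 := x'.not_irrelevant_le
  rw [HomogeneousIdeal.irrelevant_le] at h1
  push Not at h1
  obtain ⟨e, he, hnle⟩ := h1
  obtain ⟨b, hb, hbx⟩ := SetLike.not_le_iff_exists.mp hnle
  have hb' : b ^ (n + 1) ∈ ℬ ((n + 1) • e) := SetLike.pow_mem_graded _ hb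
  have hle : n ≤ (n + 1) • e := by
    rw [smul_eq_mul]; nlinarith
  obtain ⟨a, ha, hab⟩ := hTN _ hle _ hb'
  refine ⟨(n + 1) • e, a, by rw [smul_eq_mul]; positivity, ha, ?_⟩
  rw [Proj.mem_basicOpen, hab]
  intro hmem
  exact hbx (x'.isPrime.mem_of_pow_mem _ hmem)

theorem awayMap_surjective_of_TN (n : ℕ) (hTN : ∀ k, n ≤ k → ∀ y ∈ ℬ k, ∃ x ∈ 𝒜 k, ψ x = y)
    {d : ℕ} (hd : 0 < d) (f : A) (hf : f ∈ 𝒜 d) :
    Function.Surjective (HomogeneousLocalization.Away.map ψ f) := by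
  intro z
  obtain ⟨m, b, hb, rfl⟩ := z.mk_surjective _ (ψ.map_mem hf)
  have hmem : b * ψ f ^ n ∈ ℬ ((m + n) • d) := by
    have := SetLike.mul_mem_graded hb (SetLike.pow_mem_graded n (ψ.map_mem hf))
    rwa [← add_smul] at this
  have hle : n ≤ (m + n) • d := by
    rw [smul_eq_mul]; nlinarith
  obtain ⟨a, ha, hab⟩ := hTN _ hle _ hmem
  refine ⟨HomogeneousLocalization.Away.mk 𝒜 hf (m + n) a ha, ?_⟩
  rw [HomogeneousLocalization.Away.map_mk]
  apply HomogeneousLocalization.val_injective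
  rw [HomogeneousLocalization.Away.val_mk, HomogeneousLocalization.Away.val_mk,
    Localization.mk_eq_mk_iff, Localization.r_iff_exists]
  refine ⟨1, ?_⟩
  simp only [hab, OneMemClass.coe_one, one_mul, GradedRingHom.coe_toRingHom]
  ring

theorem awayMap_injective_of_TN (n : ℕ) (hTN : ∀ k, n ≤ k → ∀ x ∈ 𝒜 k, ψ x = 0 → x = 0)
    {d : ℕ} (hd : 0 < d) (f : A) (hf : f ∈ 𝒜 d) :
    Function.Injective (HomogeneousLocalization.Away.map ψ f) := by
  rw [injective_iff_map_eq_zero]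
  intro z hz
  obtain ⟨m, a, ha, rfl⟩ := z.mk_surjective _ hf
  rw [HomogeneousLocalization.Away.map_mk] at hz
  have hz' := congrArg HomogeneousLocalization.val hz
  rw [HomogeneousLocalization.Away.val_mk, HomogeneousLocalization.val_zero,
    Localization.mk_eq_mk', IsLocalization.mk'_eq_zero_iff] at hz'
  obtain ⟨⟨_, k, rfl⟩, hk⟩ := hz'
  simp only at hk
  have hmem : f ^ (k + n) * a ∈ 𝒜 ((k + n) • d + m • d) :=
    SetLike.mul_mem_graded (SetLike.pow_mem_graded _ hf) ha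
  have hle : n ≤ (k + n) • d + m • d := by
    simp only [smul_eq_mul]; nlinarith
  have h0 : f ^ (k + n) * a = 0 := by
    apply hTN _ hle _ hmem
    rw [map_mul, map_pow, pow_add, mul_comm (ψ f ^ k), mul_assoc, hk, mul_zero]
  apply HomogeneousLocalization.val_injective
  rw [HomogeneousLocalization.Away.val_mk, HomogeneousLocalization.val_zero,
    Localization.mk_eq_mk', IsLocalization.mk'_eq_zero_iff]
  exact ⟨⟨f ^ (k + n), k + n, rfl⟩, h0⟩

theorem mem_basicOpen_iff {d d₂ : ℕ} (hd : 0 < d) (hd₂ : 0 < d₂) (f f₂ : A) (hf : f ∈ 𝒜 d)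
    (hf₂ : f₂ ∈ 𝒜 d₂)
    (w : Spec (CommRingCat.of (HomogeneousLocalization.Away ℬ (ψ f₂)))) :
    (Proj.awayι 𝒜 f₂ hf₂ hd₂).base
        ((Spec.map (CommRingCat.ofHom (HomogeneousLocalization.Away.map ψ f₂))).base w) ∈
      Proj.basicOpen 𝒜 f ↔
    (Proj.awayι ℬ (ψ f₂) (GradedFunLike.map_mem ψ hf₂) hd₂).base w ∈ Proj.basicOpen ℬ (ψ f) := by
  have h1 := Proj.awayι_preimage_basicOpen 𝒜 hf₂ hd₂ hf hd
  have h2 := Proj.awayι_preimage_basicOpen ℬ (GradedFunLike.map_mem ψ hf₂) hd₂ (GradedFunLike.map_mem ψ hf) hd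
  have e1 : (Proj.awayι 𝒜 f₂ hf₂ hd₂).base
        ((Spec.map (CommRingCat.ofHom (HomogeneousLocalization.Away.map ψ f₂))).base w) ∈
      Proj.basicOpen 𝒜 f ↔
      (HomogeneousLocalization.Away.map ψ f₂
        (HomogeneousLocalization.Away.isLocalizationElem hf₂ hf)) ∉ w.asIdeal := by
    change ((Spec.map (CommRingCat.ofHom (HomogeneousLocalization.Away.map ψ f₂))).base w) ∈
        (Proj.awayι 𝒜 f₂ hf₂ hd₂) ⁻¹ᵁ Proj.basicOpen 𝒜 f ↔ _
    exact (iff_of_eq (congrArg (fun O : (Spec (CommRingCat.of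
      (HomogeneousLocalization.Away 𝒜 f₂))).Opens =>
      ((Spec.map (CommRingCat.ofHom (HomogeneousLocalization.Away.map ψ f₂))).base w) ∈ O) h1)).trans
      Iff.rfl
  have e2 : (Proj.awayι ℬ (ψ f₂) (GradedFunLike.map_mem ψ hf₂) hd₂).base w ∈ Proj.basicOpen ℬ (ψ f) ↔
      (HomogeneousLocalization.Away.isLocalizationElem (GradedFunLike.map_mem ψ hf₂) (GradedFunLike.map_mem ψ hf)) ∉
        w.asIdeal := by
    change w ∈ (Proj.awayι ℬ (ψ f₂) (GradedFunLike.map_mem ψ hf₂) hd₂) ⁻¹ᵁ Proj.basicOpen ℬ (ψ f) ↔ _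
    exact (iff_of_eq (congrArg (fun O : (Spec (CommRingCat.of
      (HomogeneousLocalization.Away ℬ (ψ f₂)))).Opens => w ∈ O) h2)).trans Iff.rfl
  have h3 : HomogeneousLocalization.Away.map ψ f₂
      (HomogeneousLocalization.Away.isLocalizationElem hf₂ hf) =
      HomogeneousLocalization.Away.isLocalizationElem (GradedFunLike.map_mem ψ hf₂) (GradedFunLike.map_mem ψ hf) := by
    rw [HomogeneousLocalization.Away.isLocalizationElem, HomogeneousLocalization.Away.map_mk]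
    apply HomogeneousLocalization.val_injective
    simp only [HomogeneousLocalization.Away.val_mk, map_pow]
  rw [e1, e2, h3]

end alg

section algGen
variable {A B σ τ : Type u} [CommRing A] [CommRing B] [SetLike σ A] [AddSubgroupClass σ A]
  [SetLike τ B] [AddSubgroupClass τ B] {𝒜 : ℕ → σ} {ℬ : ℕ → τ}
  [GradedRing 𝒜] [GradedRing ℬ] (ψ : 𝒜 →+*ᵍ ℬ)

/-- (TN)-surjectivity: every point of `Proj ℬ` lies in some `D₊(ψ f)`. -/
theorem exists_basicOpen' (n : ℕ) (hTN : ∀ k, n ≤ k → ∀ y ∈ ℬ k, ∃ x ∈ 𝒜 k, ψ x = y)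
    (x' : Proj ℬ) : ∃ (d : ℕ) (f : A), 0 < d ∧ f ∈ 𝒜 d ∧ x' ∈ Proj.basicOpen ℬ (ψ f) := by
  have h1 := x'.not_irrelevant_le
  rw [HomogeneousIdeal.irrelevant_le] at h1
  push Not at h1
  obtain ⟨e, he, hnle⟩ := h1
  obtain ⟨b, hb, hbx⟩ := SetLike.not_le_iff_exists.mp hnle
  have hb' : b ^ (n + 1) ∈ ℬ ((n + 1) • e) := SetLike.pow_mem_graded _ hb
  have hle : n ≤ (n + 1) • e := by
    rw [smul_eq_mul]; nlinarith
  obtain ⟨a, ha, hab⟩ := hTN _ hle _ hb'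
  refine ⟨(n + 1) • e, a, by rw [smul_eq_mul]; positivity, ha, ?_⟩
  rw [Proj.mem_basicOpen, hab]
  intro hmem
  exact hbx (x'.isPrime.mem_of_pow_mem _ hmem)


theorem mem_basicOpen_iff' {d d₂ : ℕ} (hd : 0 < d) (hd₂ : 0 < d₂) (f f₂ : A) (hf : f ∈ 𝒜 d)
    (hf₂ : f₂ ∈ 𝒜 d₂)
    (w : Spec (CommRingCat.of (HomogeneousLocalization.Away ℬ (ψ f₂)))) :
    (Proj.awayι 𝒜 f₂ hf₂ hd₂).base
        ((Spec.map (CommRingCat.ofHom (HomogeneousLocalization.Away.map ψ f₂))).base w) ∈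
      Proj.basicOpen 𝒜 f ↔
    (Proj.awayι ℬ (ψ f₂) (GradedFunLike.map_mem ψ hf₂) hd₂).base w ∈ Proj.basicOpen ℬ (ψ f) := by
  have h1 := Proj.awayι_preimage_basicOpen 𝒜 hf₂ hd₂ hf hd
  have h2 := Proj.awayι_preimage_basicOpen ℬ (GradedFunLike.map_mem ψ hf₂) hd₂ (GradedFunLike.map_mem ψ hf) hd
  have e1 : (Proj.awayι 𝒜 f₂ hf₂ hd₂).base
        ((Spec.map (CommRingCat.ofHom (HomogeneousLocalization.Away.map ψ f₂))).base w) ∈
      Proj.basicOpen 𝒜 f ↔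
      (HomogeneousLocalization.Away.map ψ f₂
        (HomogeneousLocalization.Away.isLocalizationElem hf₂ hf)) ∉ w.asIdeal := by
    change ((Spec.map (CommRingCat.ofHom (HomogeneousLocalization.Away.map ψ f₂))).base w) ∈
        (Proj.awayι 𝒜 f₂ hf₂ hd₂) ⁻¹ᵁ Proj.basicOpen 𝒜 f ↔ _
    exact (iff_of_eq (congrArg (fun O : (Spec (CommRingCat.of
      (HomogeneousLocalization.Away 𝒜 f₂))).Opens =>
      ((Spec.map (CommRingCat.ofHom (HomogeneousLocalization.Away.map ψ f₂))).base w) ∈ O) h1)).trans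
      Iff.rfl
  have e2 : (Proj.awayι ℬ (ψ f₂) (GradedFunLike.map_mem ψ hf₂) hd₂).base w ∈ Proj.basicOpen ℬ (ψ f) ↔
      (HomogeneousLocalization.Away.isLocalizationElem (GradedFunLike.map_mem ψ hf₂) (GradedFunLike.map_mem ψ hf)) ∉
        w.asIdeal := by
    change w ∈ (Proj.awayι ℬ (ψ f₂) (GradedFunLike.map_mem ψ hf₂) hd₂) ⁻¹ᵁ Proj.basicOpen ℬ (ψ f) ↔ _
    exact (iff_of_eq (congrArg (fun O : (Spec (CommRingCat.of
      (HomogeneousLocalization.Away ℬ (ψ f₂)))).Opens => w ∈ O) h2)).trans Iff.rfl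
  have h3 : HomogeneousLocalization.Away.map ψ f₂
      (HomogeneousLocalization.Away.isLocalizationElem hf₂ hf) =
      HomogeneousLocalization.Away.isLocalizationElem (GradedFunLike.map_mem ψ hf₂) (GradedFunLike.map_mem ψ hf) := by
    rw [HomogeneousLocalization.Away.isLocalizationElem, HomogeneousLocalization.Away.map_mk]
    apply HomogeneousLocalization.val_injective
    simp only [HomogeneousLocalization.Away.val_mk, map_pow]
  rw [e1, e2, h3]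


end algGen

section rel
variable {Y PA PB : Scheme.{u}} {𝒜 ℬ : RelProj.QCGrAlg Y}
    (φ : 𝒜.toQCAlg ⟶ ℬ.toQCAlg) (hφ : RelProj.IsGradedHom φ)

theorem hle (U : Y.Opens) : U ≤ (𝟙 Y) ⁻¹ᵁ U := le_rfl

/-- the graded homomorphism over the pair `(U, U)`. -/
noncomputable abbrev psi (U : Y.Opens) (hU : IsAffineOpen U) : 𝒜.deg U hU →+*ᵍ ℬ.deg U hU :=
  (RelProj.QGrHom.ofHom φ hφ).gradedAt U hU U hU (hle U)

theorem psi_apply (U : Y.Opens) (hU : IsAffineOpen U) (x : 𝒜.presheaf.obj (op U)) :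
    psi φ hφ U hU x = (φ.hom.app (op U)).hom x := by
  change (ℬ.presheaf.map (homOfLE (hle U)).op).hom ((φ.hom.app (op U)).hom x) = _
  have h1 : (homOfLE (hle U) : U ⟶ U) = 𝟙 U := Subsingleton.elim _ _
  have h2 : ℬ.presheaf.map (homOfLE (hle U)).op = 𝟙 _ := by
    change ℬ.presheaf.map (homOfLE (hle U) : U ⟶ U).op = 𝟙 _
    rw [h1, op_id, ℬ.presheaf.map_id]
  rw [h2]
  rfl

/-- index type for the standard charts. -/
structure Idx (𝒜 : RelProj.QCGrAlg Y) where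
  U : Y.Opens
  hU : IsAffineOpen U
  d : ℕ
  hd : 0 < d
  f : 𝒜.presheaf.obj (op U)
  hf : f ∈ 𝒜.deg U hU d

variable {φ hφ}
variable {pA : PA ⟶ Y}
  {chartA : ∀ (U : Y.Opens) (hU : IsAffineOpen U), (((pA ⁻¹ᵁ U : PA.Opens) : Scheme.{u}) ≅ Proj (𝒜.deg U hU))}
  {pB : PB ⟶ Y}
  {chartB : ∀ (U : Y.Opens) (hU : IsAffineOpen U), (((pB ⁻¹ᵁ U : PB.Opens) : Scheme.{u}) ≅ Proj (ℬ.deg U hU))}

theorem emb_comp (hA : RelProj.IsRelProj 𝒜 pA chartA) (U : Y.Opens) (hU : IsAffineOpen U) :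
    RelProj.emb pA chartA U hU ≫ pA =
      Proj.toSpecZero (𝒜.deg U hU) ≫ Spec.map (𝒜.strZero U hU) ≫ hU.fromSpec := by
  rw [RelProj.emb, Category.assoc, ← hA.chart_over U hU, Iso.inv_hom_id_assoc]

theorem awayι_emb_comp (hA : RelProj.IsRelProj 𝒜 pA chartA) (i : Idx 𝒜) :
    Proj.awayι (𝒜.deg i.U i.hU) i.f i.hf i.hd ≫ RelProj.emb pA chartA i.U i.hU ≫ pA =
      Spec.map (𝒜.strZero i.U i.hU ≫ CommRingCat.ofHom
        (HomogeneousLocalization.fromZeroRingHom (𝒜.deg i.U i.hU) (Submonoid.powers i.f))) ≫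
        i.hU.fromSpec := by
  rw [emb_comp hA, Proj.awayι_toSpecZero_assoc, Spec.map_comp, Category.assoc]

variable (φ hφ) in
theorem ring_comm (i : Idx 𝒜) :
    (𝒜.strZero i.U i.hU ≫ CommRingCat.ofHom
        (HomogeneousLocalization.fromZeroRingHom (𝒜.deg i.U i.hU) (Submonoid.powers i.f))) ≫
      CommRingCat.ofHom (HomogeneousLocalization.Away.map (psi φ hφ i.U i.hU) i.f) =
    ℬ.strZero i.U i.hU ≫ CommRingCat.ofHom
        (HomogeneousLocalization.fromZeroRingHom (ℬ.deg i.U i.hU)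
          (Submonoid.powers (psi φ hφ i.U i.hU i.f))) := by
  ext r
  have h1 : (psi φ hφ i.U i.hU) ((𝒜.str.app (op i.U)).hom r) = (ℬ.str.app (op i.U)).hom r := by
    rw [psi_apply]
    exact congr(($(φ.comm).app (op i.U)).hom r)
  simp only [HomogeneousLocalization.fromZeroRingHom, HomogeneousLocalization.Away.map,
    CommRingCat.hom_comp, CommRingCat.hom_ofHom, RingHom.comp_apply, RingHom.coe_mk,
    MonoidHom.coe_mk, OneHom.coe_mk]
  rw [HomogeneousLocalization.map_mk, HomogeneousLocalization.val_mk,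
    HomogeneousLocalization.val_mk]
  rw [Localization.mk_eq_mk_iff, Localization.r_iff_exists]
  refine ⟨1, ?_⟩
  change (1 : ℬ.presheaf.obj (op i.U)) * ((1 : ℬ.presheaf.obj (op i.U)) *
      psi φ hφ i.U i.hU ((𝒜.str.app (op i.U)).hom r)) =
    1 * (psi φ hφ i.U i.hU 1 * (ℬ.str.app (op i.U)).hom r)
  rw [h1, map_one]

variable (φ hφ pA chartA pB chartB)

/-- chart of `PA`. -/
noncomputable abbrev cA (i : Idx 𝒜) :
    Spec (CommRingCat.of (HomogeneousLocalization.Away (𝒜.deg i.U i.hU) i.f)) ⟶ PA :=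
  Proj.awayι (𝒜.deg i.U i.hU) i.f i.hf i.hd ≫ RelProj.emb pA chartA i.U i.hU

/-- chart of `PB`. -/
noncomputable abbrev aB (i : Idx 𝒜) :
    Spec (CommRingCat.of (HomogeneousLocalization.Away (ℬ.deg i.U i.hU) (psi φ hφ i.U i.hU i.f))) ⟶ PB :=
  RelProj.awayEmb (RelProj.QGrHom.ofHom φ hφ) pB chartB i.U i.hU i.U i.hU (hle i.U) i.hd i.f i.hf

/-- the map between charts. -/
noncomputable abbrev gAB (i : Idx 𝒜) :
    Spec (CommRingCat.of (HomogeneousLocalization.Away (ℬ.deg i.U i.hU) (psi φ hφ i.U i.hU i.f))) ⟶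
      Spec (CommRingCat.of (HomogeneousLocalization.Away (𝒜.deg i.U i.hU) i.f)) :=
  Spec.map (CommRingCat.ofHom (HomogeneousLocalization.Away.map (psi φ hφ i.U i.hU) i.f))

instance (i : Idx 𝒜) : IsOpenImmersion (aB φ hφ pB chartB i) := by
  unfold aB RelProj.awayEmb; infer_instance

variable {φ hφ pA chartA pB chartB}

theorem aB_comp (hB : RelProj.IsRelProj ℬ pB chartB) (i : Idx 𝒜) :
    aB φ hφ pB chartB i ≫ pB =
      Spec.map (ℬ.strZero i.U i.hU ≫ CommRingCat.ofHom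
        (HomogeneousLocalization.fromZeroRingHom (ℬ.deg i.U i.hU)
          (Submonoid.powers (psi φ hφ i.U i.hU i.f)))) ≫ i.hU.fromSpec := by
  have := awayι_emb_comp hB ⟨i.U, i.hU, i.d, i.hd, psi φ hφ i.U i.hU i.f,
    (psi φ hφ i.U i.hU).map_mem i.hf⟩
  rw [← this]
  simp only [aB, RelProj.awayEmb, Category.assoc]

theorem aB_comp_h
    (h : PB ⟶ PA)
    (hh : RelProj.IsProjQMap (RelProj.QGrHom.ofHom φ hφ) pA chartA pB chartB h) (i : Idx 𝒜) :
    aB φ hφ pB chartB i ≫ h = gAB φ hφ i ≫ cA pA chartA i :=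
  hh.2 i.U i.hU i.U i.hU (hle i.U) i.d i.hd i.f i.hf

theorem aB_comp_h_pA (hA : RelProj.IsRelProj 𝒜 pA chartA) (hB : RelProj.IsRelProj ℬ pB chartB)
    (h : PB ⟶ PA)
    (hh : RelProj.IsProjQMap (RelProj.QGrHom.ofHom φ hφ) pA chartA pB chartB h) (i : Idx 𝒜) :
    aB φ hφ pB chartB i ≫ h ≫ pA = aB φ hφ pB chartB i ≫ pB := by
  rw [← Category.assoc, aB_comp_h h hh i, Category.assoc, cA, Category.assoc,
    awayι_emb_comp hA i, aB_comp hB i, gAB, ← Spec.map_comp_assoc, ring_comm φ hφ i]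

/-- points of a chart preimage of `PB` lie in a standard chart (under (TN)-surjectivity). -/
theorem exists_chart_B
    (hTN : ∀ (U : Y.Opens) (hU : IsAffineOpen U), ∃ n : ℕ, ∀ k, n ≤ k →
      ∀ y ∈ ℬ.deg U hU k, ∃ x ∈ 𝒜.deg U hU k, psi φ hφ U hU x = y)
    (U : Y.Opens) (hU : IsAffineOpen U) (x : PB) (hx : x ∈ pB ⁻¹ᵁ U) :
    ∃ (d : ℕ) (hd : 0 < d) (f : 𝒜.presheaf.obj (op U)) (hf : f ∈ 𝒜.deg U hU d) (w : _),
      (aB φ hφ pB chartB ⟨U, hU, d, hd, f, hf⟩).base w = x := by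
  obtain ⟨n, hn⟩ := hTN U hU
  obtain ⟨d, f, hd, hf, hmem⟩ := exists_basicOpen (psi φ hφ U hU) n hn
    ((chartB U hU).hom.base ⟨x, hx⟩)
  rw [← Proj.opensRange_awayι _ _ (GradedFunLike.map_mem (psi φ hφ U hU) hf) hd] at hmem
  obtain ⟨w, hw⟩ := hmem
  refine ⟨d, hd, f, hf, w, ?_⟩
  change (RelProj.emb pB chartB U hU).base ((Proj.awayι _ _ _ _).base w) = x
  rw [hw]
  change ((chartB U hU).hom ≫ RelProj.emb pB chartB U hU).base ⟨x, hx⟩ = x
  rw [RelProj.emb, Iso.hom_inv_id_assoc]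
  rfl

theorem exists_affine_mem (Z : Scheme.{u}) (q : Z ⟶ Y) (x : Z) :
    ∃ U : Y.affineOpens, x ∈ q ⁻¹ᵁ U.1 := by
  obtain ⟨U, hxU⟩ := Opens.mem_iSup.mp
    ((iSup_affineOpens_eq_top Y).symm ▸ (Opens.mem_top (q.base x)) :
      q.base x ∈ ⨆ i : Y.affineOpens, (i : Y.Opens))
  exact ⟨U, hxU⟩

theorem domQ_eq_top
    (hTN : ∀ (U : Y.Opens) (hU : IsAffineOpen U), ∃ n : ℕ, ∀ k, n ≤ k →
      ∀ y ∈ ℬ.deg U hU k, ∃ x ∈ 𝒜.deg U hU k, psi φ hφ U hU x = y) :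
    RelProj.domQ (RelProj.QGrHom.ofHom φ hφ) pB chartB = ⊤ := by
  rw [eq_top_iff]
  intro x _
  obtain ⟨U, hx⟩ := exists_affine_mem PB pB x
  obtain ⟨n, hn⟩ := hTN U.1 U.2
  obtain ⟨d, f, hd, hf, hmem⟩ := exists_basicOpen (psi φ hφ U.1 U.2) n hn
    ((chartB U.1 U.2).hom.base ⟨x, hx⟩)
  rw [RelProj.domQ, Opens.mem_iSup]
  refine ⟨⟨(U, U), hle U.1⟩, (chartB U.1 U.2).hom.base ⟨x, hx⟩, ?_, ?_⟩
  · rw [SetLike.mem_coe, RelCone.mem_domOpen]
    exact ⟨f, HomogeneousIdeal.mem_irrelevant_of_mem _ hd hf, hmem⟩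
  · change ((chartB U.1 U.2).hom ≫ RelProj.emb pB chartB U.1 U.2).base ⟨x, hx⟩ = x
    rw [RelProj.emb, Iso.hom_inv_id_assoc]
    rfl

theorem pA_h_eq (hA : RelProj.IsRelProj 𝒜 pA chartA) (hB : RelProj.IsRelProj ℬ pB chartB)
    (hTN : ∀ (U : Y.Opens) (hU : IsAffineOpen U), ∃ n : ℕ, ∀ k, n ≤ k →
      ∀ y ∈ ℬ.deg U hU k, ∃ x ∈ 𝒜.deg U hU k, psi φ hφ U hU x = y)
    (h : PB ⟶ PA)
    (hh : RelProj.IsProjQMap (RelProj.QGrHom.ofHom φ hφ) pA chartA pB chartB h) (x : PB) :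
    pA.base (h.base x) = pB.base x := by
  obtain ⟨U, hx⟩ := exists_affine_mem PB pB x
  obtain ⟨d, hd, f, hf, w, hw⟩ := exists_chart_B (chartB := chartB) hTN U.1 U.2 x hx
  have := congrArg (fun m => m.base w) (aB_comp_h_pA hA hB h hh ⟨U.1, U.2, d, hd, f, hf⟩)
  rw [← hw]
  exact this

theorem cover_A (y : PA) : ∃ i : Idx 𝒜, y ∈ Set.range (cA pA chartA i).base := by
  obtain ⟨U, hy⟩ := exists_affine_mem PA pA y
  obtain ⟨d, f, hd, hf, hmem⟩ := exists_basicOpen (GradedRingHom.id (𝒜.deg U.1 U.2)) 0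
    (fun k _ y hy => ⟨y, hy, rfl⟩) ((chartA U.1 U.2).hom.base ⟨y, hy⟩)
  rw [GradedRingHom.id_apply, ← Proj.opensRange_awayι _ _ hf hd] at hmem
  obtain ⟨w, hw⟩ := hmem
  refine ⟨⟨U.1, U.2, d, hd, f, hf⟩, w, ?_⟩
  change (RelProj.emb pA chartA U.1 U.2).base ((Proj.awayι _ _ _ _).base w) = y
  rw [hw]
  change ((chartA U.1 U.2).hom ≫ RelProj.emb pA chartA U.1 U.2).base ⟨y, hy⟩ = y
  rw [RelProj.emb, Iso.hom_inv_id_assoc]
  rfl

theorem preimage_chart (hA : RelProj.IsRelProj 𝒜 pA chartA) (hB : RelProj.IsRelProj ℬ pB chartB)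
    (hTN : ∀ (U : Y.Opens) (hU : IsAffineOpen U), ∃ n : ℕ, ∀ k, n ≤ k →
      ∀ y ∈ ℬ.deg U hU k, ∃ x ∈ 𝒜.deg U hU k, psi φ hφ U hU x = y)
    (h : PB ⟶ PA)
    (hh : RelProj.IsProjQMap (RelProj.QGrHom.ofHom φ hφ) pA chartA pB chartB h) (i : Idx 𝒜) :
    h ⁻¹ᵁ (cA pA chartA i).opensRange = (aB φ hφ pB chartB i).opensRange := by
  obtain ⟨U, hU, d, hd, f, hf⟩ := i
  ext x
  constructor
  · rintro ⟨v, hv⟩
    have hv' : (cA pA chartA ⟨U, hU, d, hd, f, hf⟩).base v = h.base x := hv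
    have e : cA pA chartA ⟨U, hU, d, hd, f, hf⟩ ≫ pA =
        Spec.map (𝒜.strZero U hU ≫ CommRingCat.ofHom
          (HomogeneousLocalization.fromZeroRingHom (𝒜.deg U hU) (Submonoid.powers f))) ≫
          hU.fromSpec := by
      rw [cA, Category.assoc]
      exact awayι_emb_comp hA ⟨U, hU, d, hd, f, hf⟩
    have h1 : x ∈ pB ⁻¹ᵁ U := by
      change pB.base x ∈ U
      rw [← pA_h_eq hA hB hTN h hh x, ← hv']
      change (cA pA chartA ⟨U, hU, d, hd, f, hf⟩ ≫ pA).base v ∈ U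
      rw [e]
      have : (Spec.map (𝒜.strZero U hU ≫ CommRingCat.ofHom
          (HomogeneousLocalization.fromZeroRingHom (𝒜.deg U hU) (Submonoid.powers f))) ≫
          hU.fromSpec).base v ∈ Set.range hU.fromSpec.base := ⟨_, rfl⟩
      rw [hU.range_fromSpec] at this
      exact this
    obtain ⟨d₂, hd₂, f₂, hf₂, w, hw⟩ := exists_chart_B (chartB := chartB) hTN U hU x h1
    have e2 := congrArg (fun m => m.base w) (aB_comp_h h hh ⟨U, hU, d₂, hd₂, f₂, hf₂⟩)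
    have e3 : h.base x = (RelProj.emb pA chartA U hU).base
        ((Proj.awayι (𝒜.deg U hU) f₂ hf₂ hd₂).base
          ((gAB φ hφ ⟨U, hU, d₂, hd₂, f₂, hf₂⟩).base w)) := by
      rw [← hw]
      exact e2
    have e4 : (Proj.awayι (𝒜.deg U hU) f hf hd).base v =
        (Proj.awayι (𝒜.deg U hU) f₂ hf₂ hd₂).base
          ((gAB φ hφ ⟨U, hU, d₂, hd₂, f₂, hf₂⟩).base w) := by
      apply (RelProj.emb pA chartA U hU).isOpenEmbedding.injective
      rw [← e3, ← hv']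
      rfl
    have e5 : (Proj.awayι (𝒜.deg U hU) f₂ hf₂ hd₂).base
          ((gAB φ hφ ⟨U, hU, d₂, hd₂, f₂, hf₂⟩).base w) ∈ Proj.basicOpen (𝒜.deg U hU) f := by
      rw [← e4, ← Proj.opensRange_awayι _ _ hf hd]
      exact ⟨v, rfl⟩
    have e6 := (mem_basicOpen_iff (psi φ hφ U hU) hd hd₂ f f₂ hf hf₂ w).mp e5
    rw [← Proj.opensRange_awayι _ _ (GradedFunLike.map_mem (psi φ hφ U hU) hf) hd] at e6
    obtain ⟨w', hw'⟩ := e6
    refine ⟨w', ?_⟩
    rw [← hw]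
    change (RelProj.emb pB chartB U hU).base ((Proj.awayι _ _ _ _).base w') =
      (RelProj.emb pB chartB U hU).base ((Proj.awayι _ _ _ _).base w)
    rw [hw']
  · rintro ⟨w, rfl⟩
    have e2 := congrArg (fun m => m.base w) (aB_comp_h h hh ⟨U, hU, d, hd, f, hf⟩)
    exact ⟨(gAB φ hφ ⟨U, hU, d, hd, f, hf⟩).base w, e2.symm⟩

/-- Main reduction: a property local at the target holds for `Proj(φ)` if it holds for all the
`Spec` of the maps of homogeneous localizations. -/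
theorem projQMap_of_local (P : MorphismProperty Scheme.{u}) [IsZariskiLocalAtTarget P]
    (hA : RelProj.IsRelProj 𝒜 pA chartA) (hB : RelProj.IsRelProj ℬ pB chartB)
    (hTN : ∀ (U : Y.Opens) (hU : IsAffineOpen U), ∃ n : ℕ, ∀ k, n ≤ k →
      ∀ y ∈ ℬ.deg U hU k, ∃ x ∈ 𝒜.deg U hU k, psi φ hφ U hU x = y)
    (h : PB ⟶ PA)
    (hh : RelProj.IsProjQMap (RelProj.QGrHom.ofHom φ hφ) pA chartA pB chartB h)
    (HP : ∀ i : Idx 𝒜, P (gAB φ hφ i)) : P h :=
  of_charts P h _ _ (fun i => cA pA chartA i) (fun _ => inferInstance)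
    (fun i => aB φ hφ pB chartB i) (fun _ => inferInstance) (fun i => gAB φ hφ i)
    (cover_A (pA := pA) (chartA := chartA)) (fun i => aB_comp_h h hh i)
    (fun i => preimage_chart hA hB hTN h hh i) HP

end rel

end Groth.Agent.Lib.helper27.ProjQMap
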