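import Mathlib
import Groth.Prelude.Def_RelSpec2
import Groth.Agent.Lib.helper27.PolyGr
import Groth.Agent.Lib.helper27.ProjQMap

set_option autoImplicit false
universe u

namespace Groth.Agent.Lib.helper27.ProjCone
open CategoryTheory CategoryTheory.Limits AlgebraicGeometry Opposite TopologicalSpace
open scoped HomogeneousIdeal

variable {Y PC : Scheme.{u}} {𝒮 𝒮h : RelProj.QCGrAlg Y}
    {ι : 𝒮.toQCAlg ⟶ 𝒮h.toQCAlg} {z : 𝒮h.presheaf.obj (op ⊤)} (hz : RelCone.IsPolyOver 𝒮 𝒮h ι z)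
    (U : Y.Opens) (hU : IsAffineOpen U)

theorem awayZ_mk (k : ℕ) (x : 𝒮h.presheaf.obj (op U)) (hx : x ∈ 𝒮h.deg U hU (k • 1)) :
    hz.awayZToBase U hU (HomogeneousLocalization.Away.mk _ (hz.deg_z U hU) k x hx) =
      hz.evalOne U hU x :=
  hz.awayZToBase_of_val U hU _ x k (HomogeneousLocalization.Away.val_mk _ _ _ _ _)

theorem awayZ_injective : Function.Injective (hz.awayZToBase U hU) := by
  rw [injective_iff_map_eq_zero]
  intro t ht
  obtain ⟨k, x, hx, rfl⟩ := t.mk_surjective _ (hz.deg_z U hU)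
  rw [awayZ_mk] at ht
  have hx' : x ∈ 𝒮h.deg U hU k := by simpa using hx
  have h0 : x = 0 := PolyGr.eq_zero_of_mem_of_eval_one (𝒮.deg U hU) (𝒮h.deg U hU)
    (ι.hom.app (op U)).hom (RelCone.restrictTop 𝒮h z U) (hz.graded U hU) (hz.deg_z U hU)
    (hz.bij U hU) hx' ((hz.polyEquiv U hU).symm x) ((hz.polyEquiv U hU).apply_symm_apply x) ht
  subst h0
  apply HomogeneousLocalization.val_injective
  rw [HomogeneousLocalization.Away.val_mk, HomogeneousLocalization.val_zero, Localization.mk_zero]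

theorem awayZ_surjective : Function.Surjective (hz.awayZToBase U hU) := by
  intro a
  refine DirectSum.Decomposition.inductionOn (𝒮.deg U hU)
    (motive := fun a => ∃ t, hz.awayZToBase U hU t = a) ?_ ?_ ?_ a
  · exact ⟨0, map_zero _⟩
  · intro i m
    refine ⟨HomogeneousLocalization.Away.mk _ (hz.deg_z U hU) i ((ι.hom.app (op U)).hom m)
      (by simpa using hz.graded U hU i _ m.2), ?_⟩
    rw [awayZ_mk, hz.evalOne_ι]
  · rintro a a' ⟨t, rfl⟩ ⟨t', rfl⟩
    exact ⟨t + t', map_add _ _ _⟩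

theorem awayZ_bijective : Function.Bijective (hz.awayZToBase U hU) :=
  ⟨awayZ_injective hz U hU, awayZ_surjective hz U hU⟩

instance isIso_awayZ : IsIso (CommRingCat.ofHom (hz.awayZToBase U hU)) :=
  (ConcreteCategory.isIso_iff_bijective _).mpr (awayZ_bijective hz U hU)

/-- the chart `Spec 𝒮(U) ⟶ Proj 𝒮h(U)`. -/
noncomputable def j : Spec (𝒮.presheaf.obj (op U)) ⟶ Proj (𝒮h.deg U hU) :=
  Spec.map (CommRingCat.ofHom (hz.awayZToBase U hU)) ≫
    Proj.awayι (𝒮h.deg U hU) (RelCone.restrictTop 𝒮h z U) (hz.deg_z U hU) one_pos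

/-- KEY: `D₊(ι f)` pulls back to `D(f)`. -/
theorem j_mem_basicOpen_iff {d : ℕ} (hd : 0 < d) (f : 𝒮.presheaf.obj (op U)) (hf : f ∈ 𝒮.deg U hU d)
    (w : Spec (𝒮.presheaf.obj (op U))) :
    (j hz U hU).base w ∈ Proj.basicOpen (𝒮h.deg U hU) ((ι.hom.app (op U)).hom f) ↔
      f ∉ w.asIdeal := by
  have hιf := hz.graded U hU d f hf
  have h1 := Proj.awayι_preimage_basicOpen (𝒮h.deg U hU) (hz.deg_z U hU) one_pos hιf hd
  have e1 : (j hz U hU).base w ∈ Proj.basicOpen (𝒮h.deg U hU) ((ι.hom.app (op U)).hom f) ↔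
      HomogeneousLocalization.Away.isLocalizationElem (hz.deg_z U hU) hιf ∉
        ((Spec.map (CommRingCat.ofHom (hz.awayZToBase U hU))).base w).asIdeal := by
    change ((Spec.map (CommRingCat.ofHom (hz.awayZToBase U hU))).base w) ∈
        (Proj.awayι (𝒮h.deg U hU) (RelCone.restrictTop 𝒮h z U) (hz.deg_z U hU) one_pos) ⁻¹ᵁ
          Proj.basicOpen (𝒮h.deg U hU) ((ι.hom.app (op U)).hom f) ↔ _
    exact (iff_of_eq (congrArg (fun O : (Spec (CommRingCat.of
      (HomogeneousLocalization.Away (𝒮h.deg U hU) (RelCone.restrictTop 𝒮h z U)))).Opens =>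
      ((Spec.map (CommRingCat.ofHom (hz.awayZToBase U hU))).base w) ∈ O) h1)).trans Iff.rfl
  rw [e1]
  have e2 : hz.awayZToBase U hU
      (HomogeneousLocalization.Away.isLocalizationElem (hz.deg_z U hU) hιf) = f := by
    rw [HomogeneousLocalization.Away.isLocalizationElem, awayZ_mk, pow_one, hz.evalOne_ι]
  have e3 : HomogeneousLocalization.Away.isLocalizationElem (hz.deg_z U hU) hιf ∈
        ((Spec.map (CommRingCat.ofHom (hz.awayZToBase U hU))).base w).asIdeal ↔
      hz.awayZToBase U hU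
        (HomogeneousLocalization.Away.isLocalizationElem (hz.deg_z U hU) hιf) ∈ w.asIdeal := Iff.rfl
  rw [e3, e2]

/-- the range of the chart is `D₊(z)`. -/
theorem mem_range_j_iff (q : Proj (𝒮h.deg U hU)) :
    q ∈ Set.range (j hz U hU).base ↔ RelCone.restrictTop 𝒮h z U ∉ q.asHomogeneousIdeal := by
  rw [← Proj.mem_basicOpen, ← Proj.opensRange_awayι _ _ (hz.deg_z U hU) one_pos]
  constructor
  · rintro ⟨w, rfl⟩
    exact ⟨_, rfl⟩
  · rintro ⟨q', rfl⟩
    refine ⟨(inv (Spec.map (CommRingCat.ofHom (hz.awayZToBase U hU)))).base q', ?_⟩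
    change ((inv (Spec.map (CommRingCat.ofHom (hz.awayZToBase U hU)))) ≫ j hz U hU).base q' = _
    rw [j, IsIso.inv_hom_id_assoc]

/-- `G(ι)` pulls back to the pointed cone. -/
theorem j_mem_domOpen_iff (w : Spec (𝒮.presheaf.obj (op U))) :
    (j hz U hU).base w ∈ RelCone.domOpen (RelProj.gradedHomAt ι hz.graded U hU) ↔
      ¬ (HomogeneousIdeal.irrelevant (𝒮.deg U hU)).toIdeal ≤ w.asIdeal := by
  rw [RelCone.mem_domOpen]
  constructor
  · rintro ⟨f, hf, hfq⟩ hle
    -- reduce to homogeneous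
    have hnot : ¬ (HomogeneousIdeal.irrelevant (𝒮.deg U hU)).toIdeal ≤
        Ideal.comap (ι.hom.app (op U)).hom ((j hz U hU).base w).asHomogeneousIdeal.toIdeal := by
      intro h
      exact hfq (h hf)
    rw [HomogeneousIdeal.toIdeal_irrelevant_le] at hnot
    push Not at hnot
    obtain ⟨d, hd, hnle⟩ := hnot
    obtain ⟨g, hg, hgq⟩ := SetLike.not_le_iff_exists.mp hnle
    have hgq' : (j hz U hU).base w ∈
        Proj.basicOpen (𝒮h.deg U hU) ((ι.hom.app (op U)).hom g) := by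
      rw [Proj.mem_basicOpen]
      exact hgq
    rw [j_mem_basicOpen_iff hz U hU hd g hg] at hgq'
    exact hgq' (hle (HomogeneousIdeal.mem_irrelevant_of_mem _ hd hg))
  · intro hnle
    rw [HomogeneousIdeal.toIdeal_irrelevant_le] at hnle
    push Not at hnle
    obtain ⟨d, hd, hnle'⟩ := hnle
    obtain ⟨g, hg, hgw⟩ := SetLike.not_le_iff_exists.mp hnle'
    refine ⟨g, HomogeneousIdeal.mem_irrelevant_of_mem _ hd hg, ?_⟩
    have := (j_mem_basicOpen_iff hz U hU hd g hg w).mpr hgw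
    rw [Proj.mem_basicOpen] at this
    exact this

/-- a point outside `G(ι)` lies in `D₊(z)`. -/
theorem z_not_mem_of_not_mem_domOpen (q : Proj (𝒮h.deg U hU))
    (hq : q ∉ RelCone.domOpen (RelProj.gradedHomAt ι hz.graded U hU)) :
    RelCone.restrictTop 𝒮h z U ∉ q.asHomogeneousIdeal := by
  intro hzq
  rw [RelCone.mem_domOpen] at hq
  push Not at hq
  apply q.not_irrelevant_le
  have := PolyGr.irrelevant_le (𝒮.deg U hU) (𝒮h.deg U hU)
    (ι.hom.app (op U)).hom (RelCone.restrictTop 𝒮h z U) (hz.graded U hU) (hz.deg_z U hU)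
    (hz.bij U hU) q.asHomogeneousIdeal.toIdeal (fun f hf => hq f hf) hzq
  exact this

variable (pC : PC ⟶ Y)
    (chartC : ∀ (U : Y.Opens) (hU : IsAffineOpen U),
      (((pC ⁻¹ᵁ U : PC.Opens) : Scheme.{u}) ≅ Proj (𝒮h.deg U hU)))
    (i : 𝒮.toQCAlg.spec ⟶ PC) (hi : RelCone.IsConeImm 𝒮 hz pC chartC i)

include hi in
theorem i_ι (w : Spec (𝒮.presheaf.obj (op U))) :
    i.base ((𝒮.toQCAlg.ι U hU).base w) =
      (RelProj.emb pC chartC U hU).base ((j hz U hU).base w) := by
  have := congrArg (fun g => g.base w) (hi U hU)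
  simp only [Scheme.Hom.comp_base, TopCat.hom_comp, ContinuousMap.comp_apply] at this
  rw [this]
  rfl

theorem ring_id :
    𝒮h.strZero U hU ≫ CommRingCat.ofHom (HomogeneousLocalization.fromZeroRingHom (𝒮h.deg U hU)
      (Submonoid.powers (RelCone.restrictTop 𝒮h z U))) ≫
      CommRingCat.ofHom (hz.awayZToBase U hU) = 𝒮.str.app (op U) := by
  ext r
  change hz.awayZToBase U hU (HomogeneousLocalization.fromZeroRingHom (𝒮h.deg U hU)
      (Submonoid.powers (RelCone.restrictTop 𝒮h z U)) ((𝒮h.strZero U hU).hom r)) = _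
  have hcomm : (𝒮h.str.app (op U)).hom r = (ι.hom.app (op U)).hom ((𝒮.str.app (op U)).hom r) := by
    have := congrArg (fun t => (t.app (op U)).hom r) ι.comm
    exact this.symm
  rw [hz.awayZToBase_of_val U hU _ ((𝒮h.str.app (op U)).hom r) 0, hcomm, hz.evalOne_ι]
  change Localization.mk _ _ = Localization.mk _ _
  congr 1
  exact Subtype.ext (pow_zero _).symm

include hi in
theorem pC_i (hPC : RelProj.IsRelProj 𝒮h pC chartC) (w : Spec (𝒮.presheaf.obj (op U))) :
    pC.base (i.base ((𝒮.toQCAlg.ι U hU).base w)) =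
      𝒮.toQCAlg.π.base ((𝒮.toQCAlg.ι U hU).base w) := by
  have h1 : 𝒮.toQCAlg.ι U hU ≫ i ≫ pC = 𝒮.toQCAlg.ι U hU ≫ 𝒮.toQCAlg.π := by
    rw [← Category.assoc, hi U hU, Category.assoc, Category.assoc, ProjQMap.emb_comp hPC,
      Proj.awayι_toSpecZero_assoc, ← Spec.map_comp_assoc, ← Spec.map_comp_assoc,
      ring_id hz U hU, 𝒮.toQCAlg.ι_π U hU]
  have := congrArg (fun g => g.base w) h1
  simpa using this

end Groth.Agent.Lib.helper27.ProjCone
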