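import Mathlib
import Groth.Prelude.Def_RelSpec2
import Groth.Agent.Lib.helper27.PolyGr
import Groth.Agent.Lib.helper27.ProjQMap
import Groth.Agent.Lib.helper27.ProjCone

set_option autoImplicit false
universe u

namespace Groth.Agent.Lib.helper27.ProjCone
open CategoryTheory CategoryTheory.Limits AlgebraicGeometry Opposite TopologicalSpace
open scoped HomogeneousIdeal

variable {Y PC : Scheme.{u}} {𝒮 𝒮h : RelProj.QCGrAlg Y}
    {ι : 𝒮.toQCAlg ⟶ 𝒮h.toQCAlg} {z : 𝒮h.presheaf.obj (op ⊤)} (hz : RelCone.IsPolyOver 𝒮 𝒮h ι z)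

section evalOne
variable {U V : Y.Opens} (hU : IsAffineOpen U) (hV : IsAffineOpen V) (hVU : V ≤ U)

theorem restrictTop_res :
    (𝒮h.presheaf.map (homOfLE hVU).op).hom (RelCone.restrictTop 𝒮h z U) = RelCone.restrictTop 𝒮h z V := by
  change (𝒮h.presheaf.map _).hom ((𝒮h.presheaf.map _).hom z) = (𝒮h.presheaf.map _).hom z
  rw [← CommRingCat.comp_apply, ← Functor.map_comp]
  rfl

theorem polyEquiv_res (p : Polynomial (𝒮.presheaf.obj (op U))) :
    (𝒮h.presheaf.map (homOfLE hVU).op).hom (hz.polyEquiv U hU p) =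
      hz.polyEquiv V hV (p.map (𝒮.presheaf.map (homOfLE hVU).op).hom) := by
  rw [RelCone.IsPolyOver.polyEquiv_apply, RelCone.IsPolyOver.polyEquiv_apply, Polynomial.hom_eval₂,
    Polynomial.eval₂_map, restrictTop_res]
  congr 1
  ext a
  have := congrArg (fun t => t.hom a) (ι.hom.naturality (homOfLE hVU).op)
  exact this.symm

theorem evalOne_res (y : 𝒮h.presheaf.obj (op U)) :
    hz.evalOne V hV ((𝒮h.presheaf.map (homOfLE hVU).op).hom y) =
      (𝒮.presheaf.map (homOfLE hVU).op).hom (hz.evalOne U hU y) := by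
  obtain ⟨p, rfl⟩ := (hz.polyEquiv U hU).surjective y
  rw [polyEquiv_res hz hU hV hVU]
  simp only [RelCone.IsPolyOver.evalOne, RingHom.comp_apply, RingEquiv.toRingHom_eq_coe,
    RingHom.coe_coe, RingEquiv.symm_apply_apply, Polynomial.coe_evalRingHom]
  rw [Polynomial.eval_map, Polynomial.eval₂_at_one]

end evalOne

variable (pC : PC ⟶ Y)
    (chartC : ∀ (U : Y.Opens) (hU : IsAffineOpen U),
      (((pC ⁻¹ᵁ U : PC.Opens) : Scheme.{u}) ≅ Proj (𝒮h.deg U hU)))
    (hPC : RelProj.IsRelProj 𝒮h pC chartC)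

include hPC in
theorem emb_res (U : Y.Opens) (hU : IsAffineOpen U) (r : Γ(Y, U)) :
    Proj.map (𝒮h.res hU (hU.basicOpen r) (Y.basicOpen_le r)) (𝒮h.irrelevant_le_map U hU r) ≫
        RelProj.emb pC chartC U hU =
      RelProj.emb pC chartC (Y.basicOpen r) (hU.basicOpen r) := by
  have h := hPC.chart_res U hU r
  have h' : Proj.map (𝒮h.res hU (hU.basicOpen r) (Y.basicOpen_le r)) (𝒮h.irrelevant_le_map U hU r) ≫
      (chartC U hU).inv =
      (chartC (Y.basicOpen r) (hU.basicOpen r)).inv ≫ PC.homOfLE (pC.preimage_mono (Y.basicOpen_le r)) := by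
    rw [Iso.eq_inv_comp, ← Category.assoc, ← h, Category.assoc, Iso.hom_inv_id, Category.comp_id]
  unfold RelProj.emb
  rw [← Category.assoc, h', Category.assoc, Scheme.homOfLE_ι]

include hPC in
theorem nat_gen (U : Y.Opens) (hU : IsAffineOpen U) (r : Γ(Y, U))
    (zU : 𝒮h.presheaf.obj (op U)) (hzU : zU ∈ 𝒮h.deg U hU 1)
    (θU : HomogeneousLocalization.Away (𝒮h.deg U hU) zU →+* 𝒮.presheaf.obj (op U))
    (EU : 𝒮h.presheaf.obj (op U) → 𝒮.presheaf.obj (op U))
    (hθU : ∀ (k : ℕ) (y : 𝒮h.presheaf.obj (op U)) (hy : y ∈ 𝒮h.deg U hU (k • 1)),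
      θU (HomogeneousLocalization.Away.mk _ hzU k y hy) = EU y)
    (zD : 𝒮h.presheaf.obj (op (Y.basicOpen r)))
    (e : zD = (𝒮h.res hU (hU.basicOpen r) (Y.basicOpen_le r)) zU)
    (hzD : zD ∈ 𝒮h.deg (Y.basicOpen r) (hU.basicOpen r) 1)
    (θD : HomogeneousLocalization.Away (𝒮h.deg (Y.basicOpen r) (hU.basicOpen r)) zD →+*
      𝒮.presheaf.obj (op (Y.basicOpen r)))
    (ED : 𝒮h.presheaf.obj (op (Y.basicOpen r)) → 𝒮.presheaf.obj (op (Y.basicOpen r)))
    (hθD : ∀ (k : ℕ) (y : 𝒮h.presheaf.obj (op (Y.basicOpen r)))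
      (hy : y ∈ 𝒮h.deg (Y.basicOpen r) (hU.basicOpen r) (k • 1)),
      θD (HomogeneousLocalization.Away.mk _ hzD k y hy) = ED y)
    (hE : ∀ y, ED ((𝒮h.presheaf.map (homOfLE (Y.basicOpen_le r)).op).hom y) =
      (𝒮.presheaf.map (homOfLE (Y.basicOpen_le r)).op).hom (EU y)) :
    Spec.map (𝒮.presheaf.map (homOfLE (Y.basicOpen_le r)).op) ≫ Spec.map (CommRingCat.ofHom θU) ≫
        Proj.awayι (𝒮h.deg U hU) zU hzU one_pos ≫ RelProj.emb pC chartC U hU =
      Spec.map (CommRingCat.ofHom θD) ≫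
        Proj.awayι (𝒮h.deg (Y.basicOpen r) (hU.basicOpen r)) zD hzD one_pos ≫
          RelProj.emb pC chartC (Y.basicOpen r) (hU.basicOpen r) := by
  subst e
  have hring : CommRingCat.ofHom θU ≫ 𝒮.presheaf.map (homOfLE (Y.basicOpen_le r)).op =
      CommRingCat.ofHom (HomogeneousLocalization.Away.map
        (𝒮h.res hU (hU.basicOpen r) (Y.basicOpen_le r)) zU) ≫ CommRingCat.ofHom θD := by
    ext t
    obtain ⟨k, y, hy, rfl⟩ := t.mk_surjective _ hzU
    change (𝒮.presheaf.map (homOfLE (Y.basicOpen_le r)).op).hom (θU _) =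
      θD (HomogeneousLocalization.Away.map (𝒮h.res hU (hU.basicOpen r) (Y.basicOpen_le r)) zU _)
    rw [hθU, HomogeneousLocalization.Away.map_mk, hθD]
    exact (hE y).symm
  rw [← Spec.map_comp_assoc, hring, Spec.map_comp_assoc, ← emb_res pC chartC hPC U hU r,
    ← Proj.awayι_comp_map_assoc (𝒮h.res hU (hU.basicOpen r) (Y.basicOpen_le r))
      (𝒮h.irrelevant_le_map U hU r) one_pos zU hzU]

/-- the chart of the cone immersion. -/
noncomputable def cU (U : Y.Opens) (hU : IsAffineOpen U) : Spec (𝒮.presheaf.obj (op U)) ⟶ PC :=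
  Spec.map (CommRingCat.ofHom (hz.awayZToBase U hU)) ≫
    Proj.awayι (𝒮h.deg U hU) (RelCone.restrictTop 𝒮h z U) (hz.deg_z U hU) one_pos ≫
      RelProj.emb pC chartC U hU

include hPC in
theorem cU_res (U : Y.Opens) (hU : IsAffineOpen U) (r : Γ(Y, U)) :
    Spec.map (𝒮.presheaf.map (homOfLE (Y.basicOpen_le r)).op) ≫ cU hz pC chartC U hU =
      cU hz pC chartC (Y.basicOpen r) (hU.basicOpen r) := by
  unfold cU
  refine nat_gen pC chartC hPC U hU r _ (hz.deg_z U hU) (hz.awayZToBase U hU) (hz.evalOne U hU)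
    (fun k y hy => awayZ_mk hz U hU k y hy) _ ?_ (hz.deg_z _ (hU.basicOpen r))
    (hz.awayZToBase _ (hU.basicOpen r)) (hz.evalOne _ (hU.basicOpen r))
    (fun k y hy => awayZ_mk hz _ (hU.basicOpen r) k y hy)
    (fun y => evalOne_res hz hU (hU.basicOpen r) (Y.basicOpen_le r) y)
  exact (restrictTop_res (Y.basicOpen_le r)).symm

include hPC in
theorem cU_site {U V : Y.AffineZariskiSite} (f : V ⟶ U) :
    Spec.map (𝒮.presheaf.map (homOfLE (Scheme.AffineZariskiSite.toOpens_mono f.le)).op) ≫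
        cU hz pC chartC U.1 U.2 = cU hz pC chartC V.1 V.2 := by
  obtain ⟨U, hU⟩ := U
  obtain ⟨V, hV⟩ := V
  obtain ⟨r, hr⟩ := f.le
  change Y.basicOpen r = V at hr
  subst hr
  exact cU_res hz pC chartC hPC U hU r

/-- the cocone defining the cone immersion. -/
noncomputable def cocone (hPC' : RelProj.IsRelProj 𝒮h pC chartC) :
    Cocone 𝒮.toQCAlg.glueData.functor where
  pt := PC
  ι :=
    { app := fun U => cU hz pC chartC U.1 U.2
      naturality := fun V U f => by
        change Spec.map (𝒮.presheaf.map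
          (homOfLE (Scheme.AffineZariskiSite.toOpens_mono f.le)).op) ≫
          cU hz pC chartC U.1 U.2 = cU hz pC chartC V.1 V.2 ≫ 𝟙 PC
        rw [Category.comp_id]
        exact cU_site hz pC chartC hPC' f }

include hPC in
theorem existsUnique_coneImm : ∃! i : 𝒮.toQCAlg.spec ⟶ PC, RelCone.IsConeImm 𝒮 hz pC chartC i := by
  refine ⟨colimit.desc 𝒮.toQCAlg.glueData.functor (cocone hz pC chartC hPC), ?_, ?_⟩
  · intro U hU
    exact colimit.ι_desc (cocone hz pC chartC hPC) ⟨U, hU⟩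
  · intro i' hi'
    apply colimit.hom_ext
    intro U
    change 𝒮.toQCAlg.ι U.1 U.2 ≫ i' = 𝒮.toQCAlg.ι U.1 U.2 ≫ _
    rw [hi' U.1 U.2]
    exact (colimit.ι_desc (cocone hz pC chartC hPC) U).symm

variable (i : 𝒮.toQCAlg.spec ⟶ PC) (hi : RelCone.IsConeImm 𝒮 hz pC chartC i)

include hi hPC in
theorem i_comp_pC : i ≫ pC = 𝒮.toQCAlg.π := by
  apply colimit.hom_ext
  intro U
  change 𝒮.toQCAlg.ι U.1 U.2 ≫ i ≫ pC = 𝒮.toQCAlg.ι U.1 U.2 ≫ 𝒮.toQCAlg.π
  rw [← Category.assoc, hi U.1 U.2, Category.assoc, Category.assoc, ProjQMap.emb_comp hPC,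
    Proj.awayι_toSpecZero_assoc, ← Spec.map_comp_assoc, ← Spec.map_comp_assoc,
    ring_id hz U.1 U.2, 𝒮.toQCAlg.ι_π U.1 U.2]

section props

instance isOpenImmersion_j (U : Y.Opens) (hU : IsAffineOpen U) : IsOpenImmersion (j hz U hU) := by
  unfold j
  infer_instance

instance isAffineHom_j (U : Y.Opens) (hU : IsAffineOpen U) : IsAffineHom (j hz U hU) :=
  IsAffineHom.of_comp (f := j hz U hU) (g := Proj.toSpecZero (𝒮h.deg U hU))

omit hz in
theorem range_emb (U : Y.Opens) (hU : IsAffineOpen U) :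
    (RelProj.emb pC chartC U hU).opensRange = pC ⁻¹ᵁ U := by
  unfold RelProj.emb
  rw [Scheme.Hom.opensRange_comp_of_isIso, Scheme.Opens.opensRange_ι]

omit hz in
theorem cover_emb (x : PC) : ∃ U : Y.affineOpens, x ∈ Set.range (RelProj.emb pC chartC U.1 U.2).base := by
  obtain ⟨U, hxU⟩ := ProjQMap.exists_affine_mem PC pC x
  refine ⟨U, ?_⟩
  have : x ∈ (RelProj.emb pC chartC U.1 U.2).opensRange := by
    rw [range_emb]; exact hxU
  exact this

include hi hPC in
theorem of_charts_i (P : MorphismProperty Scheme.{u}) [IsZariskiLocalAtTarget P]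
    (H : ∀ (U : Y.Opens) (hU : IsAffineOpen U), P (j hz U hU)) : P i := by
  refine ProjQMap.of_charts P i (ι := Y.affineOpens)
    (fun U => Proj (𝒮h.deg U.1 U.2)) (fun U => Spec (𝒮.presheaf.obj (op U.1)))
    (fun U => RelProj.emb pC chartC U.1 U.2) (fun U => by unfold RelProj.emb; infer_instance)
    (fun U => 𝒮.toQCAlg.ι U.1 U.2) (fun U => inferInstance) (fun U => j hz U.1 U.2)
    (cover_emb pC chartC) ?_ ?_ (fun U => H U.1 U.2)
  · intro U
    rw [hi U.1 U.2, j, Category.assoc]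
  · intro U
    rw [range_emb, ← Scheme.Hom.comp_preimage, i_comp_pC hz pC chartC hPC i hi,
      𝒮.toQCAlg.π_preimage U.1 U.2]

include hi hPC in
theorem isOpenImmersion_i : IsOpenImmersion i :=
  of_charts_i hz pC chartC hPC i hi @IsOpenImmersion (fun U hU => inferInstance)

include hi hPC in
theorem isAffineHom_i : IsAffineHom i :=
  of_charts_i hz pC chartC hPC i hi @IsAffineHom (fun U hU => inferInstance)

include hi hPC in
/-- chartwise description of the range of the cone immersion. -/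
theorem emb_mem_range_i_iff (U : Y.Opens) (hU : IsAffineOpen U) (q : Proj (𝒮h.deg U hU)) :
    (RelProj.emb pC chartC U hU).base q ∈ Set.range i.base ↔
      RelCone.restrictTop 𝒮h z U ∉ q.asHomogeneousIdeal := by
  have hinj : Function.Injective (RelProj.emb pC chartC U hU).base := by
    unfold RelProj.emb
    exact ((chartC U hU).inv ≫ (pC ⁻¹ᵁ U).ι).isOpenEmbedding.injective
  constructor
  · rintro ⟨c, hc⟩
    have hcU : c ∈ 𝒮.toQCAlg.π ⁻¹ᵁ U := by
      rw [← i_comp_pC hz pC chartC hPC i hi]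
      change pC.base (i.base c) ∈ U
      rw [hc]
      have : (RelProj.emb pC chartC U hU).base q ∈ (RelProj.emb pC chartC U hU).opensRange := ⟨q, rfl⟩
      rw [range_emb] at this
      exact this
    rw [𝒮.toQCAlg.π_preimage U hU] at hcU
    obtain ⟨w, rfl⟩ := hcU
    rw [i_ι hz U hU pC chartC i hi] at hc
    exact (mem_range_j_iff hz U hU q).mp ⟨w, hinj hc⟩
  · intro hzq
    obtain ⟨w, rfl⟩ := (mem_range_j_iff hz U hU q).mpr hzq
    exact ⟨(𝒮.toQCAlg.ι U hU).base w, i_ι hz U hU pC chartC i hi w⟩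

end props

end Groth.Agent.Lib.helper27.ProjCone
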