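import Mathlib
import Groth.Prelude.Def_RelProj4
import Groth.Prelude.Def_RelSpec2
import Groth.Agent.Lib.helper27.ProjQMap
import Groth.Agent.Lib.helper27.ProjCone2

set_option autoImplicit false
universe u

namespace Groth.Agent.Lib.helper27.DomQ
open CategoryTheory CategoryTheory.Limits AlgebraicGeometry Opposite TopologicalSpace
open scoped HomogeneousIdeal

variable {Y Y' P' : Scheme.{u}} {q : Y' ⟶ Y} {𝒮 : RelProj.QCGrAlg Y} {𝒮' : RelProj.QCGrAlg Y'}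
  (u : RelProj.QGrHom q 𝒮 𝒮')

/-- ideal form of membership in the open of definition. -/
def Pd (U : Y.Opens) (hU : IsAffineOpen U) (U' : Y'.Opens) (hU' : IsAffineOpen U') (hle : U' ≤ q ⁻¹ᵁ U)
    (pt : Proj (𝒮'.deg U' hU')) : Prop :=
  ¬ (HomogeneousIdeal.irrelevant (𝒮.deg U hU)).toIdeal ≤
    Ideal.comap (u.appLE U U' hle).hom pt.asHomogeneousIdeal.toIdeal

theorem mem_domOpen_iff (U : Y.Opens) (hU : IsAffineOpen U) (U' : Y'.Opens) (hU' : IsAffineOpen U')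
    (hle : U' ≤ q ⁻¹ᵁ U) (pt : Proj (𝒮'.deg U' hU')) :
    pt ∈ RelCone.domOpen (u.gradedAt U hU U' hU' hle) ↔ Pd u U hU U' hU' hle pt := by
  rw [RelCone.mem_domOpen]
  constructor
  · rintro ⟨f, hf, hfq⟩ h
    exact hfq (h hf)
  · intro h
    obtain ⟨f, hf, hfq⟩ := SetLike.not_le_iff_exists.mp h
    exact ⟨f, hf, hfq⟩

theorem pd_src_basic (U : Y.Opens) (hU : IsAffineOpen U) (r : Γ(Y, U)) (U' : Y'.Opens)
    (hU' : IsAffineOpen U') (hle : U' ≤ q ⁻¹ᵁ (Y.basicOpen r)) (pt : Proj (𝒮'.deg U' hU')) :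
    Pd u U hU U' hU' (hle.trans (q.preimage_mono (Y.basicOpen_le r))) pt ↔
      Pd u (Y.basicOpen r) (hU.basicOpen r) U' hU' hle pt := by
  unfold Pd
  set ψ := 𝒮.res hU (hU.basicOpen r) (Y.basicOpen_le r) with hψ
  set K := Ideal.comap (u.appLE (Y.basicOpen r) U' hle).hom pt.asHomogeneousIdeal.toIdeal with hK
  have hc : Ideal.comap (u.appLE U U' (hle.trans (q.preimage_mono (Y.basicOpen_le r)))).hom
      pt.asHomogeneousIdeal.toIdeal = Ideal.comap ψ K := by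
    rw [← u.toQHom.map_appLE (Y.basicOpen_le r) hle]
    rfl
  rw [hc]
  apply not_congr
  constructor
  · intro h
    have h1 : (HomogeneousIdeal.irrelevant (𝒮.deg (Y.basicOpen r) (hU.basicOpen r))).toIdeal ≤
        Ideal.map ψ (HomogeneousIdeal.irrelevant (𝒮.deg U hU)).toIdeal :=
      𝒮.irrelevant_le_map U hU r
    exact h1.trans ((Ideal.map_mono h).trans Ideal.map_comap_le)
  · intro h
    rw [HomogeneousIdeal.toIdeal_irrelevant_le]
    intro i hi x hx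
    have hx' : ψ x ∈ 𝒮.deg (Y.basicOpen r) (hU.basicOpen r) i := GradedFunLike.map_mem ψ hx
    exact h (HomogeneousIdeal.mem_irrelevant_of_mem _ hi hx')

theorem pd_src_site {U W : Y.AffineZariskiSite} (h : W ≤ U) (U' : Y'.Opens)
    (hU' : IsAffineOpen U') (hle : U' ≤ q ⁻¹ᵁ W.1) (pt : Proj (𝒮'.deg U' hU')) :
    Pd u U.1 U.2 U' hU' (hle.trans (q.preimage_mono (Scheme.AffineZariskiSite.toOpens_mono h))) pt ↔
      Pd u W.1 W.2 U' hU' hle pt := by
  obtain ⟨U, hU⟩ := U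
  obtain ⟨W, hW⟩ := W
  obtain ⟨r, hr⟩ := h
  change Y.basicOpen r = W at hr
  subst hr
  exact pd_src_basic u U hU r U' hU' hle pt

theorem pd_tgt_basic (U : Y.Opens) (hU : IsAffineOpen U) (U' : Y'.Opens) (hU' : IsAffineOpen U')
    (hle : U' ≤ q ⁻¹ᵁ U) (ρ : Γ(Y', U'))
    (pt'' : Proj (𝒮'.deg (Y'.basicOpen ρ) (hU'.basicOpen ρ))) :
    Pd u U hU U' hU' hle ((Proj.map (𝒮'.res hU' (hU'.basicOpen ρ) (Y'.basicOpen_le ρ))
        (𝒮'.irrelevant_le_map U' hU' ρ)).base pt'') ↔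
      Pd u U hU (Y'.basicOpen ρ) (hU'.basicOpen ρ) ((Y'.basicOpen_le ρ).trans hle) pt'' := by
  unfold Pd
  have hc : Ideal.comap (u.appLE U U' hle).hom
      ((Proj.map (𝒮'.res hU' (hU'.basicOpen ρ) (Y'.basicOpen_le ρ))
        (𝒮'.irrelevant_le_map U' hU' ρ)).base pt'').asHomogeneousIdeal.toIdeal =
      Ideal.comap (u.appLE U (Y'.basicOpen ρ) ((Y'.basicOpen_le ρ).trans hle)).hom
        pt''.asHomogeneousIdeal.toIdeal := by
    rw [← u.toQHom.appLE_map hle (Y'.basicOpen_le ρ)]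
    rfl
  rw [hc]

variable (p' : P' ⟶ Y')
  (chart' : ∀ (U' : Y'.Opens) (hU' : IsAffineOpen U'), (((p' ⁻¹ᵁ U' : P'.Opens) : Scheme.{u}) ≅ Proj (𝒮'.deg U' hU')))
  (hP' : RelProj.IsRelProj 𝒮' p' chart')

theorem emb_injective (U' : Y'.Opens) (hU' : IsAffineOpen U') :
    Function.Injective (RelProj.emb p' chart' U' hU').base := by
  unfold RelProj.emb
  exact ((chart' U' hU').inv ≫ (p' ⁻¹ᵁ U').ι).isOpenEmbedding.injective

include hP' in
theorem pd_tgt_site {U'' D : Y'.AffineZariskiSite} (h : D ≤ U'') (U : Y.Opens) (hU : IsAffineOpen U)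
    (hle : U''.1 ≤ q ⁻¹ᵁ U) (pt : Proj (𝒮'.deg U''.1 U''.2)) (pt'' : Proj (𝒮'.deg D.1 D.2))
    (heq : (RelProj.emb p' chart' D.1 D.2).base pt'' = (RelProj.emb p' chart' U''.1 U''.2).base pt) :
    Pd u U hU U''.1 U''.2 hle pt ↔
      Pd u U hU D.1 D.2 ((Scheme.AffineZariskiSite.toOpens_mono h).trans hle) pt'' := by
  obtain ⟨U', hU'⟩ := U''
  obtain ⟨D, hD⟩ := D
  obtain ⟨ρ, hρ⟩ := h
  change Y'.basicOpen ρ = D at hρ
  subst hρ
  have h1 : pt = (Proj.map (𝒮'.res hU' (hU'.basicOpen ρ) (Y'.basicOpen_le ρ))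
      (𝒮'.irrelevant_le_map U' hU' ρ)).base pt'' := by
    apply emb_injective p' chart' U' hU'
    have := congrArg (fun k => k.base pt'') (ProjCone.emb_res p' chart' hP' U' hU' ρ)
    simp only [Scheme.Hom.comp_base, TopCat.hom_comp, ContinuousMap.comp_apply] at this
    rw [this]
    exact heq.symm
  subst h1
  exact pd_tgt_basic u U hU U' hU' hle ρ pt''

include hP' in
/-- chart compatibility of the open of definition: a point of the chart over `U'` lying in `G(u)`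
lies in the open of definition of `u` over every pair `(U, U')`. -/
theorem cc (U : Y.Opens) (hU : IsAffineOpen U) (U' : Y'.Opens) (hU' : IsAffineOpen U')
    (hle : U' ≤ q ⁻¹ᵁ U) (pt : Proj (𝒮'.deg U' hU'))
    (hx : (RelProj.emb p' chart' U' hU').base pt ∈ RelProj.domQ u p' chart') :
    pt ∈ RelCone.domOpen (u.gradedAt U hU U' hU' hle) := by
  rw [mem_domOpen_iff]
  unfold RelProj.domQ at hx
  rw [Opens.mem_iSup] at hx
  obtain ⟨⟨⟨⟨V, hV0⟩, ⟨V', hV'0⟩⟩, hle₁⟩, pt0, hpt0, heq0⟩ := hx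
  have hV : IsAffineOpen V := hV0
  have hV' : IsAffineOpen V' := hV'0
  have hle₁' : V' ≤ q ⁻¹ᵁ V := hle₁
  obtain ⟨pt₁, hpt₁, heq⟩ : ∃ pt₁ : Proj (𝒮'.deg V' hV'),
      pt₁ ∈ RelCone.domOpen (u.gradedAt V hV V' hV' hle₁') ∧
      (RelProj.emb p' chart' V' hV').base pt₁ = (RelProj.emb p' chart' U' hU').base pt :=
    ⟨pt0, hpt0, heq0⟩
  rw [mem_domOpen_iff] at hpt₁
  have hxU' : p'.base ((RelProj.emb p' chart' U' hU').base pt) ∈ U' := by
    have : (RelProj.emb p' chart' U' hU').base pt ∈ (RelProj.emb p' chart' U' hU').opensRange :=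
      ⟨pt, rfl⟩
    rw [ProjCone.range_emb] at this
    exact this
  have hxV' : p'.base ((RelProj.emb p' chart' U' hU').base pt) ∈ V' := by
    rw [← heq]
    have : (RelProj.emb p' chart' V' hV').base pt₁ ∈ (RelProj.emb p' chart' V' hV').opensRange :=
      ⟨pt₁, rfl⟩
    rw [ProjCone.range_emb] at this
    exact this
  have hqU : q.base (p'.base ((RelProj.emb p' chart' U' hU').base pt)) ∈ U := hle hxU'
  have hqV : q.base (p'.base ((RelProj.emb p' chart' U' hU').base pt)) ∈ V := hle₁' hxV'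
  obtain ⟨r, s, hrs, hyW⟩ := exists_basicOpen_le_affine_inter hU hV _ ⟨hqU, hqV⟩
  obtain ⟨ρ₀, σ₀, hρσ, hy'⟩ := exists_basicOpen_le_affine_inter hU' hV' _ ⟨hxU', hxV'⟩
  obtain ⟨τ, hτle, hτmem⟩ := (hU'.basicOpen ρ₀).exists_basicOpen_le
    (V := q ⁻¹ᵁ (Y.basicOpen r)) ⟨p'.base ((RelProj.emb p' chart' U' hU').base pt), hyW⟩ hy'
  let sU : Y.AffineZariskiSite := ⟨U, hU⟩
  let sV : Y.AffineZariskiSite := ⟨V, hV⟩
  let sW : Y.AffineZariskiSite := ⟨Y.basicOpen r, hU.basicOpen r⟩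
  have hWU : sW ≤ sU := ⟨r, rfl⟩
  have hWV : sW ≤ sV := ⟨s, hrs.symm⟩
  let sU' : Y'.AffineZariskiSite := ⟨U', hU'⟩
  let sV' : Y'.AffineZariskiSite := ⟨V', hV'⟩
  let sW0 : Y'.AffineZariskiSite := ⟨Y'.basicOpen ρ₀, hU'.basicOpen ρ₀⟩
  let sW'' : Y'.AffineZariskiSite := ⟨Y'.basicOpen τ, (hU'.basicOpen ρ₀).basicOpen τ⟩
  have h0U' : sW0 ≤ sU' := ⟨ρ₀, rfl⟩
  have h0V' : sW0 ≤ sV' := ⟨σ₀, hρσ.symm⟩
  have h''0 : sW'' ≤ sW0 := ⟨τ, rfl⟩
  have h''U' : sW'' ≤ sU' := h''0.trans h0U'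
  have h''V' : sW'' ≤ sV' := h''0.trans h0V'
  obtain ⟨pt'', hpt''⟩ : ∃ pt'' : Proj (𝒮'.deg sW''.1 sW''.2),
      (RelProj.emb p' chart' sW''.1 sW''.2).base pt'' = (RelProj.emb p' chart' U' hU').base pt := by
    have : (RelProj.emb p' chart' U' hU').base pt ∈
        (RelProj.emb p' chart' sW''.1 sW''.2).opensRange := by
      rw [ProjCone.range_emb]; exact hτmem
    exact this
  have hτle' : sW''.1 ≤ q ⁻¹ᵁ sW.1 := hτle
  have c1 := pd_tgt_site u p' chart' hP' h''V' V hV hle₁' pt₁ pt'' (hpt''.trans heq.symm)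
  have c2 := pd_src_site u hWV sW''.1 sW''.2 hτle' pt''
  have c3 := pd_src_site u hWU sW''.1 sW''.2 hτle' pt''
  have c4 := pd_tgt_site u p' chart' hP' h''U' U hU hle pt pt'' hpt''
  exact c4.mpr (c3.mpr (c2.mp (c1.mp hpt₁)))

include hP' in
/-- if `G(u)` is everything then `u` is everywhere defined over every pair. -/
theorem domOpen_eq_top_of_domQ_eq_top (h : RelProj.domQ u p' chart' = ⊤)
    (U : Y.Opens) (hU : IsAffineOpen U) (U' : Y'.Opens) (hU' : IsAffineOpen U')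
    (hle : U' ≤ q ⁻¹ᵁ U) : RelCone.domOpen (u.gradedAt U hU U' hU' hle) = ⊤ := by
  rw [eq_top_iff]
  intro pt _
  exact cc u p' chart' hP' U hU U' hU' hle pt (by rw [h]; trivial)

end Groth.Agent.Lib.helper27.DomQ
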