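import Mathlib

/-!
# Locally essentially of finite type morphisms (affine-cover form): basic tools
-/

set_option autoImplicit false
universe u

namespace Groth.Agent.Lib.helper27.EssFT

open CategoryTheory CategoryTheory.Limits AlgebraicGeometry TopologicalSpace

lemma holdsAway : RingHom.HoldsForLocalizationAway RingHom.EssFiniteType :=
  RingHom.EssFiniteType.holdsForLocalization.holdsForLocalizationAway

lemma stableAway : RingHom.StableUnderCompositionWithLocalizationAway RingHom.EssFiniteType :=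
  RingHom.EssFiniteType.stableUnderComposition.stableUnderCompositionWithLocalizationAway holdsAway

lemma locAwayPreserves : RingHom.LocalizationAwayPreserves RingHom.EssFiniteType :=
  RingHom.EssFiniteType.isStableUnderBaseChange.localizationPreserves.away

/-- If `f` is essentially of finite type over affine opens `U₂`, `V₂ ∋ x`, then for any affine
open `U ∋ f x` there is an affine open `V ∋ x` inside `V₂` with `Γ(U) → Γ(V)` essentially of finite type. -/
lemma exists_affine_nhd {X Y : Scheme.{u}} (f : X ⟶ Y) (x : X) (U : Y.affineOpens)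
    (hfx : f x ∈ U.1) (U₂ : Y.affineOpens) (V₂ : X.affineOpens) (hx₂ : x ∈ V₂.1)
    (e₂ : V₂.1 ≤ f ⁻¹ᵁ U₂.1) (h₂ : (f.appLE U₂ V₂ e₂).hom.EssFiniteType) :
    ∃ (V : X.affineOpens) (_ : x ∈ V.1) (_ : V.1 ≤ V₂.1) (e : V.1 ≤ f ⁻¹ᵁ U.1),
      (f.appLE U V e).hom.EssFiniteType := by
  obtain ⟨r, s, hxs, e, h⟩ := exists_basicOpen_le_appLE_of_appLE_of_isAffine
    (P := RingHom.EssFiniteType) stableAway.right locAwayPreserves x U U₂ V₂ V₂ hx₂ hx₂ e₂ h₂ hfx
  have e' : X.basicOpen s ≤ f ⁻¹ᵁ U.1 :=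
    e.trans ((Opens.map f.base).map (homOfLE (Y.basicOpen_le r))).le
  refine ⟨⟨X.basicOpen s, V₂.2.basicOpen s⟩, hxs, X.basicOpen_le s, e', ?_⟩
  have := f.map_appLE e (homOfLE (Y.basicOpen_le r)).op
  dsimp only
  rw [← this]
  have : IsLocalization.Away r Γ(Y, Y.basicOpen r) := U.2.isLocalization_basicOpen r
  exact RingHom.EssFiniteType.stableUnderComposition _ _ (holdsAway _ r) h


lemma resLE_appTop_iff {X Y : Scheme.{u}} (f : X ⟶ Y) (U : Y.Opens) (V : X.Opens)
    (e : V ≤ f ⁻¹ᵁ U) :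
    (f.resLE U V e).appTop.hom.EssFiniteType ↔ (f.appLE U V e).hom.EssFiniteType :=
  RingHom.EssFiniteType.respectsIso.arrow_mk_iso_iff (arrowResLEAppIso f U V e)

/-- Base change for affine pullback squares. -/
lemma of_isPullback_affine {P X Y S : Scheme.{u}} [IsAffine X] [IsAffine Y] [IsAffine S]
    {fst : P ⟶ X} {snd : P ⟶ Y} {f : X ⟶ S} {g : Y ⟶ S} (H : IsPullback fst snd f g)
    (hf : f.appTop.hom.EssFiniteType) : IsAffine P ∧ snd.appTop.hom.EssFiniteType := by
  have hiso : H.flip.isoPullback.hom ≫ pullback.fst g f = snd := H.flip.isoPullback_hom_fst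
  have hP : IsAffine P := .of_isIso H.flip.isoPullback.hom
  refine ⟨hP, ?_⟩
  have h0 : IsIso H.flip.isoPullback.hom := inferInstance
  have : IsIso (H.flip.isoPullback.hom.app ⊤) := inferInstance
  have : IsIso H.flip.isoPullback.hom.appTop := this
  rw [← hiso, Scheme.Hom.comp_appTop, CommRingCat.hom_comp,
    RingHom.EssFiniteType.respectsIso.cancel_right_isIso]
  exact RingHom.IsStableUnderBaseChange.pullback_fst_appTop (P := @RingHom.EssFiniteType)
    RingHom.EssFiniteType.isStableUnderBaseChange RingHom.EssFiniteType.respectsIso g f hf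

/-- Base change of the affine-cover form of "locally essentially of finite type": local version. -/
lemma exists_affine_nhd_pullback {X Y Y' : Scheme.{u}} (f : X ⟶ Y) (g : Y' ⟶ Y)
    (z : ↥(pullback f g)) (W : Y.affineOpens) (V₀ : X.affineOpens) (e₀ : V₀.1 ≤ f ⁻¹ᵁ W.1)
    (h₀ : (f.appLE W V₀ e₀).hom.EssFiniteType) (hz : pullback.fst f g z ∈ V₀.1)
    (U : Y'.affineOpens) (hzU : pullback.snd f g z ∈ U.1) :
    ∃ (V : (pullback f g).affineOpens) (_ : z ∈ V.1) (e : V.1 ≤ pullback.snd f g ⁻¹ᵁ U.1),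
      ((pullback.snd f g).appLE U V e).hom.EssFiniteType := by
  have hyW : g (pullback.snd f g z) ∈ W.1 := by
    have : g (pullback.snd f g z) = f (pullback.fst f g z) := by
      rw [← Scheme.Hom.comp_apply, ← Scheme.Hom.comp_apply, pullback.condition]
    rw [this]
    exact e₀ hz
  obtain ⟨_, ⟨U', hU', rfl⟩, hyU', hU'W⟩ :=
    Y'.isBasis_affineOpens.exists_subset_of_mem_open (show pullback.snd f g z ∈ (g ⁻¹ᵁ W.1 : Set Y')
      from hyW) (g ⁻¹ᵁ W.1).isOpen
  have hU'W' : U' ≤ g ⁻¹ᵁ W.1 := hU'W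
  let Z₀ : (pullback f g).Opens := pullback.fst f g ⁻¹ᵁ V₀.1 ⊓ pullback.snd f g ⁻¹ᵁ U'
  have H := Scheme.Hom.isPullback_resLE (IsPullback.of_hasPullback f g) hU'W' e₀
    (UY := Z₀) rfl
  have : IsAffine W.1.toScheme := W.2
  have : IsAffine V₀.1.toScheme := V₀.2
  have : IsAffine (Scheme.Opens.toScheme (X := Y') U') := hU'
  have hf' : (f.resLE W.1 V₀.1 e₀).appTop.hom.EssFiniteType := (resLE_appTop_iff f _ _ e₀).mpr h₀
  obtain ⟨hZ₀, hsnd⟩ := of_isPullback_affine H hf'
  rw [resLE_appTop_iff] at hsnd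
  obtain ⟨V, hzV, -, e, hP⟩ := exists_affine_nhd (pullback.snd f g) z U hzU ⟨U', hU'⟩
    ⟨Z₀, hZ₀⟩ ⟨hz, hyU'⟩ _ hsnd
  exact ⟨V, hzV, e, hP⟩

end Groth.Agent.Lib.helper27.EssFT
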