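import Mathlib
import Groth.Prelude.Def_Fitting

/-!
# Fitting ideals: independence of the generating tuple and description by minors (helper27)

Main results:
* `K x r` : for a tuple `x : ι → M`, the ideal spanned by dets of `ι × ι` matrices having a set of
  `≥ card ι - r` relation rows.
* `K_indep` : `K x r = K y r` for two generating tuples.
* `ideal_eq_K` : `Fitt.ideal R M r = K x r` for any generating tuple `x : Fin n → M`.
* `ideal_eq_minors` : `Fitt.ideal R M r = minors x (n - r)` (Fitting's lemma).
-/

namespace Groth.Agent.Lib.helper27.Fitting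

open Matrix

variable {R : Type*} [CommRing R] {M : Type*} [AddCommGroup M] [Module R M]

/-- The ideal spanned by determinants of square matrices indexed by `ι` for which some set `S` of
at least `card ι - r` rows consists of relations among the tuple `x`. -/
def K {ι : Type*} [Fintype ι] [DecidableEq ι] (x : ι → M) (r : ℕ) : Ideal R :=
  Ideal.span {d | ∃ (a : Matrix ι ι R) (S : Finset ι), Fintype.card ι ≤ S.card + r ∧
    (∀ i ∈ S, ∑ j, a i j • x j = 0) ∧ d = a.det}

lemma K_mono {ι : Type*} [Fintype ι] [DecidableEq ι] (x : ι → M) {r s : ℕ} (h : r ≤ s) :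
    (K x r : Ideal R) ≤ K x s := by
  apply Ideal.span_mono
  rintro d ⟨a, S, hc, hrel, rfl⟩
  exact ⟨a, S, by omega, hrel, rfl⟩

lemma K_reindex_le {ι ι' : Type*} [Fintype ι] [DecidableEq ι] [Fintype ι'] [DecidableEq ι']
    (E : ι' ≃ ι) (x : ι → M) (r : ℕ) : (K (x ∘ E) r : Ideal R) ≤ K x r := by
  apply Ideal.span_le.2
  rintro d ⟨a, S, hc, hrel, rfl⟩
  apply Ideal.subset_span
  refine ⟨a.submatrix E.symm E.symm, S.map E.toEmbedding, ?_, ?_, ?_⟩
  · rw [Finset.card_map, ← Fintype.card_congr E]; exact hc
  · intro i hi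
    obtain ⟨i', hi', rfl⟩ := Finset.mem_map.1 hi
    rw [← hrel i' hi']
    rw [← E.sum_comp]
    simp
  · rw [Matrix.det_submatrix_equiv_self]

lemma K_reindex {ι ι' : Type*} [Fintype ι] [DecidableEq ι] [Fintype ι'] [DecidableEq ι']
    (E : ι' ≃ ι) (x : ι → M) (r : ℕ) : (K (x ∘ E) r : Ideal R) = K x r := by
  apply le_antisymm (K_reindex_le E x r)
  have h := K_reindex_le (R := R) E.symm (x ∘ E) r
  have h2 : (x ∘ E) ∘ E.symm = x := by ext i; simp
  rwa [h2] at h

lemma K_snoc_ge {n : ℕ} (x : Fin n → M) (c : Fin n → R) (r : ℕ) :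
    (K x r : Ideal R) ≤ K (Fin.snoc x (∑ i, c i • x i) : Fin (n + 1) → M) r := by
  apply Ideal.span_le.2
  rintro d ⟨a, S, hc, hrel, rfl⟩
  set a' : Matrix (Fin (n + 1)) (Fin (n + 1)) R :=
    Matrix.of (fun i j => Fin.lastCases (Fin.lastCases (-1) c j)
      (fun i' => Fin.lastCases 0 (a i') j) i) with ha'
  have h1 : a'.det = - a.det := by
    rw [Matrix.det_succ_column a' (Fin.last n), Fin.sum_univ_castSucc]
    have hz : ∀ i : Fin n, a' (Fin.castSucc i) (Fin.last n) = 0 := by
      intro i; simp [ha']
    have hl : a' (Fin.last n) (Fin.last n) = -1 := by simp [ha']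
    have hsub : a'.submatrix (Fin.last n).succAbove (Fin.last n).succAbove = a := by
      ext i j; simp [ha', Fin.succAbove_last]
    simp only [hz, mul_zero, zero_mul, Finset.sum_const_zero, zero_add, hl, hsub]
    rw [Even.neg_one_pow ⟨n, by simp⟩]; ring
  have h2 : a'.det ∈ (K (Fin.snoc x (∑ i, c i • x i) : Fin (n + 1) → M) r : Ideal R) := by
    apply Ideal.subset_span
    refine ⟨a', insert (Fin.last n) (S.map Fin.castSuccEmb), ?_, ?_, rfl⟩
    · rw [Finset.card_insert_of_notMem, Finset.card_map]
      · simp only [Fintype.card_fin] at hc ⊢; omega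
      · simp [Finset.mem_map]
    · intro i hi
      rw [Finset.mem_insert] at hi
      rcases hi with rfl | hi
      · rw [Fin.sum_univ_castSucc]
        simp [ha']
      · obtain ⟨i', hi', rfl⟩ := Finset.mem_map.1 hi
        rw [Fin.sum_univ_castSucc]
        simpa [ha'] using hrel i' hi'
  have : a.det = - a'.det := by rw [h1]; ring
  show a.det ∈ _
  rw [this]
  exact neg_mem h2



lemma K_snoc_le {n : ℕ} (x : Fin n → M) (c : Fin n → R) (r : ℕ) :
    (K (Fin.snoc x (∑ i, c i • x i) : Fin (n + 1) → M) r : Ideal R) ≤ K x r := by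
  apply Ideal.span_le.2
  rintro d ⟨A, S, hc, hrel, rfl⟩
  set v : Fin (n + 1) → R := Fin.lastCases 0 c with hv
  set B : Matrix (Fin (n + 1)) (Fin (n + 1)) R :=
    Matrix.of (fun i j => A i j + v j * A i (Fin.last n)) with hB
  have hdet : B.det = A.det := by
    rw [← Matrix.det_transpose B, ← Matrix.det_transpose A]
    apply Matrix.det_eq_of_forall_row_eq_smul_add_const v (Fin.last n) (by simp [hv])
    intro i j
    simp [hB]
  show A.det ∈ _
  rw [← hdet, Matrix.det_succ_column B (Fin.last n)]
  apply Ideal.sum_mem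
  intro i _
  apply Ideal.mul_mem_left
  apply Ideal.subset_span
  refine ⟨_, Finset.univ.filter (fun i' => i.succAbove i' ∈ S), ?_, ?_, rfl⟩
  · have hsub : S ⊆ insert i ((Finset.univ.filter (fun i' => i.succAbove i' ∈ S)).image
        i.succAbove) := by
      intro j hj
      by_cases hji : j = i
      · simp [hji]
      · obtain ⟨i', rfl⟩ := Fin.exists_succAbove_eq hji
        apply Finset.mem_insert_of_mem
        apply Finset.mem_image_of_mem
        simpa using hj
    have h1 := Finset.card_le_card hsub
    have h2 := Finset.card_insert_le i ((Finset.univ.filter (fun i' => i.succAbove i' ∈ S)).image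
        i.succAbove)
    have h3 := Finset.card_image_le (s := Finset.univ.filter (fun i' => i.succAbove i' ∈ S))
      (f := i.succAbove)
    simp only [Fintype.card_fin] at hc ⊢
    omega
  · intro i' hi'
    rw [Finset.mem_filter] at hi'
    have h := hrel _ hi'.2
    rw [Fin.sum_univ_castSucc] at h
    simp only [Fin.snoc_castSucc, Fin.snoc_last] at h
    rw [← h]
    simp only [Matrix.submatrix_apply, Fin.succAbove_last, hB, Matrix.of_apply, hv,
      Fin.lastCases_castSucc, add_smul, Finset.sum_add_distrib, Finset.smul_sum, mul_smul]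
    congr 1
    apply Finset.sum_congr rfl
    intro j _
    rw [smul_comm]






lemma K_snoc {n : ℕ} (x : Fin n → M) (y : M) (hy : y ∈ Submodule.span R (Set.range x)) (r : ℕ) :
    (K (Fin.snoc x y : Fin (n + 1) → M) r : Ideal R) = K x r := by
  obtain ⟨c, rfl⟩ := (Submodule.mem_span_range_iff_exists_fun R).1 hy
  exact le_antisymm (K_snoc_le x c r) (K_snoc_ge x c r)

lemma K_append {n : ℕ} (x : Fin n → M) (r : ℕ) : ∀ (m : ℕ) (y : Fin m → M),
    (∀ j, y j ∈ Submodule.span R (Set.range x)) →
    (K (Fin.append x y) r : Ideal R) = K x r := by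
  intro m
  induction m with
  | zero =>
    intro y _
    have : y = Fin.elim0 := by ext i; exact i.elim0
    rw [this, Fin.append_elim0]
    exact K_reindex (finCongr (Nat.add_zero n)) x r
  | succ m ih =>
    intro y hy
    have hy' : y = Fin.snoc (Fin.init y) (y (Fin.last m)) := (Fin.snoc_init_self y).symm
    rw [hy', Fin.append_snoc]
    rw [K_snoc, ih (Fin.init y) (fun j => hy _)]
    have : Set.range x ⊆ Set.range (Fin.append x (Fin.init y)) := by
      rintro _ ⟨i, rfl⟩
      exact ⟨Fin.castAdd m i, by simp⟩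
    exact Submodule.span_mono this (hy _)

lemma append_comp_flip {α : Type*} {n m : ℕ} (x : Fin n → α) (y : Fin m → α) :
    Fin.append x y ∘ (finAddFlip : Fin (m + n) ≃ Fin (n + m)) = Fin.append y x := by
  ext i
  refine Fin.addCases (fun j => ?_) (fun j => ?_) i
  · simp [finAddFlip_apply_castAdd]
  · simp [finAddFlip_apply_natAdd]

/-- `K x r` does not depend on the generating tuple. -/
lemma K_indep {n m : ℕ} (x : Fin n → M) (y : Fin m → M)
    (hx : Submodule.span R (Set.range x) = ⊤) (hy : Submodule.span R (Set.range y) = ⊤) (r : ℕ) :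
    (K x r : Ideal R) = K y r := by
  rw [← K_append x r m y (fun j => by rw [hx]; trivial),
    ← K_append y r n x (fun j => by rw [hy]; trivial),
    ← append_comp_flip x y, K_reindex]

lemma exists_perm {n p : ℕ} (S : Finset (Fin n)) (h : p ≤ S.card) :
    ∃ σ : Equiv.Perm (Fin n), ∀ i : Fin n, (i : ℕ) < p → σ i ∈ S := by
  classical
  obtain ⟨T, hTS, hT⟩ := Finset.exists_subset_card_eq h
  have hpn : p ≤ n := by
    have := Finset.card_le_univ S
    simp at this; omega
  have hcard : Fintype.card {i : Fin n // (i : ℕ) < p} = Fintype.card {i : Fin n // i ∈ T} := by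
    rw [Fintype.card_subtype, Fintype.card_coe, hT, Fin.card_filter_val_lt]
    exact min_eq_right hpn
  let e : {i : Fin n // (i : ℕ) < p} ≃ {i : Fin n // i ∈ T} := Fintype.equivOfCardEq hcard
  refine ⟨e.extendSubtype, fun i hi => hTS ?_⟩
  exact e.extendSubtype_mem i hi

theorem ideal_eq_K {n : ℕ} (x : Fin n → M) (hx : Submodule.span R (Set.range x) = ⊤) (r : ℕ) :
    Fitt.ideal R M r = K x r := by
  apply le_antisymm
  · apply Ideal.span_le.2
    rintro d ⟨m, y, a, hy, hrel, rfl⟩
    rw [K_indep x y hx hy r]
    apply Ideal.subset_span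
    refine ⟨a, Finset.univ.filter (fun i : Fin m => (i : ℕ) < m - r), ?_, ?_, rfl⟩
    · rw [Fin.card_filter_val_lt, Fintype.card_fin]; omega
    · intro i hi
      exact hrel i (Finset.mem_filter.1 hi).2
  · apply Ideal.span_le.2
    rintro d ⟨a, S, hc, hrel, rfl⟩
    rw [Fintype.card_fin] at hc
    obtain ⟨σ, hσ⟩ := exists_perm (p := n - r) S (by omega)
    apply Ideal.subset_span
    refine ⟨n, x ∘ σ, a.submatrix σ σ, ?_, ?_, ?_⟩
    · rw [σ.surjective.range_comp]; exact hx
    · intro i hi
      have := hrel _ (hσ i hi)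
      rw [← this]
      exact Equiv.sum_comp σ (fun j => a (σ i) j • x j)
    · rw [Matrix.det_submatrix_equiv_self]





/-- The ideal of `p × p` minors of relation rows among the tuple `x`. -/
def minors {n : ℕ} (x : Fin n → M) (p : ℕ) : Ideal R :=
  Ideal.span {d | ∃ (z : Fin p → (Fin n → R)) (e : Fin p → Fin n),
      (∀ j, ∑ i, z j i • x i = 0) ∧ d = (Matrix.of fun a b => z b (e a)).det}

lemma det_mem_minors {n : ℕ} (x : Fin n → M) (p : ℕ) : ∀ (m : ℕ) (a : Matrix (Fin m) (Fin m) R)
    (f : Fin m → Fin n) (z : Fin m → Fin n → R), p ≤ m →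
    (∀ i : Fin m, (i : ℕ) < p → (∑ j, z i j • x j = 0) ∧ ∀ j, a i j = z i (f j)) →
    a.det ∈ (minors x p : Ideal R) := by
  intro m
  induction m with
  | zero =>
    intro a f z hp _
    obtain rfl : p = 0 := by omega
    apply Ideal.subset_span
    refine ⟨z, f, fun j => j.elim0, ?_⟩
    simp
  | succ m ih =>
    intro a f z hp h
    rcases Nat.lt_or_ge m p with hlt | hge
    · obtain rfl : p = m + 1 := by omega
      apply Ideal.subset_span
      refine ⟨z, f, fun j => (h j j.2).1, ?_⟩
      rw [← Matrix.det_transpose]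
      congr 1
      ext i j
      simp [(h j j.2).2 i]
    · rw [Matrix.det_succ_row a (Fin.last m)]
      apply Ideal.sum_mem
      intro j _
      apply Ideal.mul_mem_left
      apply ih _ (f ∘ j.succAbove) (z ∘ Fin.castSucc) hge
      intro i hi
      refine ⟨(h (Fin.castSucc i) (by simpa using hi)).1, fun j' => ?_⟩
      simp [Fin.succAbove_last, (h (Fin.castSucc i) (by simpa using hi)).2]

lemma K_le_minors {n : ℕ} (x : Fin n → M) (r : ℕ) : (K x r : Ideal R) ≤ minors x (n - r) := by
  apply Ideal.span_le.2
  rintro d ⟨a, S, hc, hrel, rfl⟩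
  rw [Fintype.card_fin] at hc
  obtain ⟨σ, hσ⟩ := exists_perm (p := n - r) S (by omega)
  have h1 : (a.submatrix σ id).det ∈ (minors x (n - r) : Ideal R) := by
    apply det_mem_minors x (n - r) n _ id (fun i => a (σ i)) (by omega)
    intro i hi
    exact ⟨hrel _ (hσ i hi), fun j => rfl⟩
  rw [Matrix.det_permute] at h1
  have h2 := Ideal.mul_mem_left _ ((Equiv.Perm.sign σ : ℤˣ) : R) h1
  rw [← mul_assoc] at h2
  have h3 : (((Equiv.Perm.sign σ : ℤˣ) : ℤ) : R) * (((Equiv.Perm.sign σ : ℤˣ) : ℤ) : R) = 1 := by
    rw [← Int.cast_mul, Int.units_coe_mul_self]; simp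
  simpa [h3] using h2

lemma minors_le_K {n : ℕ} (x : Fin n → M) (r : ℕ) : (minors x (n - r) : Ideal R) ≤ K x r := by
  classical
  apply Ideal.span_le.2
  rintro d ⟨z, e, hz, rfl⟩
  by_cases he : Function.Injective e
  · let C := {j : Fin n // j ∉ Set.range e}
    let E : (Fin (n - r)) ⊕ ((Set.range e)ᶜ : Set (Fin n)) ≃ Fin n :=
      (Equiv.sumCongr (Equiv.ofInjective e he) (Equiv.refl _)).trans
        (Equiv.Set.sumCompl (Set.range e))
    have hEl : ∀ a, E (Sum.inl a) = e a := fun a => by simp [E]
    have hEr : ∀ c, E (Sum.inr c) = c := fun c => by simp [E]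
    rw [← K_reindex E x r]
    let Z1 : Matrix (Fin (n - r)) (Fin (n - r)) R := Matrix.of fun b a => z b (e a)
    let Z2 : Matrix (Fin (n - r)) ((Set.range e)ᶜ : Set (Fin n)) R := Matrix.of fun b c => z b c
    have hdet : (Matrix.fromBlocks Z1 Z2 0 1).det = (Matrix.of fun a b => z b (e a)).det := by
      rw [Matrix.det_fromBlocks_zero₂₁, Matrix.det_one, mul_one, ← Matrix.det_transpose]
      rfl
    apply Ideal.subset_span
    refine ⟨Matrix.fromBlocks Z1 Z2 0 1, Finset.univ.map Function.Embedding.inl, ?_, ?_, hdet.symm⟩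
    · rw [Finset.card_map, Finset.card_univ, Fintype.card_fin, Fintype.card_congr E,
        Fintype.card_fin]
      omega
    · intro i hi
      obtain ⟨b, -, rfl⟩ := Finset.mem_map.1 hi
      rw [← hz b, ← E.sum_comp]
      apply Finset.sum_congr rfl
      intro j _
      rcases j with a | c
      · simp [Z1, hEl]
      · simp [Z2, hEr]
  · obtain ⟨a, b, hab, hne⟩ : ∃ a b, e a = e b ∧ a ≠ b := by
      simpa [Function.Injective] using he
    rw [Matrix.det_zero_of_row_eq hne]
    · exact Ideal.zero_mem _
    · ext j; simp [hab]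


theorem K_eq_minors {n : ℕ} (x : Fin n → M) (r : ℕ) : (K x r : Ideal R) = minors x (n - r) :=
  le_antisymm (K_le_minors x r) (minors_le_K x r)

/-- Fitting's lemma: the `k`-th Fitting ideal is spanned by the `(n-k)`-minors of relation rows of
any fixed generating `n`-tuple. -/
theorem ideal_eq_minors {n : ℕ} (x : Fin n → M) (hx : Submodule.span R (Set.range x) = ⊤)
    (k : ℕ) : Fitt.ideal R M k = minors x (n - k) := by
  rw [ideal_eq_K x hx k, K_eq_minors]

/-- A multilinear form evaluated on vectors from `span G` lies in the ideal generated by its values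
on tuples from `G`. -/
lemma multilinear_mem_span {N : Type*} [AddCommGroup N] [Module R N] {p : ℕ}
    (f : MultilinearMap R (fun _ : Fin p => N) R) (G : Set N) (z : Fin p → N)
    (hz : ∀ b, z b ∈ Submodule.span R G) :
    f z ∈ Ideal.span {d | ∃ g : Fin p → N, (∀ b, g b ∈ G) ∧ d = f g} := by
  classical
  suffices h : ∀ (T : Finset (Fin p)) (z : Fin p → N), (∀ b ∈ T, z b ∈ Submodule.span R G) →
      (∀ b, b ∉ T → z b ∈ G) → f z ∈ Ideal.span {d | ∃ g : Fin p → N, (∀ b, g b ∈ G) ∧ d = f g} from
    h Finset.univ z (fun b _ => hz b) (fun b hb => absurd (Finset.mem_univ b) hb)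
  intro T
  induction T using Finset.induction_on with
  | empty =>
    intro z _ h2
    exact Ideal.subset_span ⟨z, fun b => h2 b (by simp), rfl⟩
  | insert b₀ T hb₀ ih =>
    intro z h1 h2
    have key : ∀ w ∈ Submodule.span R G, f (Function.update z b₀ w) ∈
        Ideal.span {d | ∃ g : Fin p → N, (∀ b, g b ∈ G) ∧ d = f g} := by
      intro w hw
      induction hw using Submodule.span_induction with
      | mem w hw =>
        apply ih
        · intro b hb
          have : b ≠ b₀ := fun h => hb₀ (h ▸ hb)
          rw [Function.update_of_ne this]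
          exact h1 b (Finset.mem_insert_of_mem hb)
        · intro b hb
          by_cases hbb : b = b₀
          · subst hbb; simpa using hw
          · rw [Function.update_of_ne hbb]
            exact h2 b (by simp [hbb, hb])
      | zero => rw [f.map_update_zero]; exact Ideal.zero_mem _
      | add u v _ _ hu hv => rw [f.map_update_add]; exact Ideal.add_mem _ hu hv
      | smul c u _ hu => rw [f.map_update_smul]; exact Ideal.mul_mem_left _ _ hu
    have := key (z b₀) (h1 b₀ (Finset.mem_insert_self _ _))
    rwa [Function.update_eq_self] at this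

/-- The multilinear form `z ↦ det (z b (e a))_{a,b}`. -/
noncomputable def minorForm {n p : ℕ} (e : Fin p → Fin n) :
    MultilinearMap R (fun _ : Fin p => Fin n → R) R :=
  (Matrix.detRowAlternating (R := R) (n := Fin p)).toMultilinearMap.compLinearMap
    (fun _ => LinearMap.funLeft R R e)

lemma minorForm_apply {n p : ℕ} (e : Fin p → Fin n) (z : Fin p → Fin n → R) :
    minorForm e z = (Matrix.of fun a b => z b (e a)).det := by
  rw [← Matrix.det_transpose]
  rfl

lemma minors_eq_span_of_span_eq {n : ℕ} (x : Fin n → M) (p : ℕ) (G : Set (Fin n → R))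
    (hG : Submodule.span R G = LinearMap.ker (Fintype.linearCombination R x)) :
    (minors x p : Ideal R) = Ideal.span {d | ∃ (z : Fin p → (Fin n → R)) (e : Fin p → Fin n),
      (∀ j, z j ∈ G) ∧ d = (Matrix.of fun a b => z b (e a)).det} := by
  have hmem : ∀ z : Fin n → R, z ∈ Submodule.span R G ↔ ∑ i, z i • x i = 0 := by
    intro z
    rw [hG, LinearMap.mem_ker, Fintype.linearCombination_apply]
  apply le_antisymm
  · apply Ideal.span_le.2
    rintro d ⟨z, e, hz, rfl⟩
    rw [← minorForm_apply]
    have := multilinear_mem_span (minorForm (R := R) e) G z (fun b => (hmem _).2 (hz b))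
    refine Ideal.span_mono ?_ this
    rintro d ⟨g, hg, rfl⟩
    exact ⟨g, e, hg, minorForm_apply e g⟩
  · apply Ideal.span_mono
    rintro d ⟨z, e, hz, rfl⟩
    exact ⟨z, e, fun j => (hmem _).1 (Submodule.subset_span (hz j)), rfl⟩

lemma minors_fg_of_fg_ker {n : ℕ} (x : Fin n → M) (p : ℕ)
    (h : (LinearMap.ker (Fintype.linearCombination R x)).FG) : (minors x p : Ideal R).FG := by
  obtain ⟨G, hG⟩ := h
  rw [minors_eq_span_of_span_eq x p (G : Set (Fin n → R)) hG]
  have hfin : Set.Finite {d | ∃ (z : Fin p → (Fin n → R)) (e : Fin p → Fin n),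
      (∀ j, z j ∈ (G : Set (Fin n → R))) ∧ d = (Matrix.of fun a b => z b (e a)).det} := by
    have : {d | ∃ (z : Fin p → (Fin n → R)) (e : Fin p → Fin n),
      (∀ j, z j ∈ (G : Set (Fin n → R))) ∧ d = (Matrix.of fun a b => z b (e a)).det} =
      Set.range (fun q : (Fin p → G) × (Fin p → Fin n) =>
        (Matrix.of fun a b => (q.1 b : Fin n → R) (q.2 a)).det) := by
      ext d
      constructor
      · rintro ⟨z, e, hz, rfl⟩
        exact ⟨(fun b => ⟨z b, hz b⟩, e), rfl⟩
      · rintro ⟨q, rfl⟩
        exact ⟨fun b => q.1 b, q.2, fun b => (q.1 b).2, rfl⟩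
    rw [this]
    exact Set.finite_range _
  exact ⟨hfin.toFinset, by simp⟩

section BaseChange

open TensorProduct

variable {R : Type*} [CommRing R] {R' : Type*} [CommRing R'] [Algebra R R']
  {M : Type*} [AddCommGroup M] [Module R M]

lemma span_one_tmul_eq_top {n : ℕ} (x : Fin n → M) (hx : Submodule.span R (Set.range x) = ⊤) :
    Submodule.span R' (Set.range fun i => (1 : R') ⊗ₜ[R] x i) = ⊤ := by
  rw [eq_top_iff]
  rintro t -
  induction t using TensorProduct.induction_on with
  | zero => exact Submodule.zero_mem _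
  | add a b ha hb => exact Submodule.add_mem _ ha hb
  | tmul r m =>
    have hm : m ∈ Submodule.span R (Set.range x) := by rw [hx]; trivial
    obtain ⟨c, rfl⟩ := (Submodule.mem_span_range_iff_exists_fun R).1 hm
    rw [TensorProduct.tmul_sum]
    apply Submodule.sum_mem
    intro i _
    have : r ⊗ₜ[R] (c i • x i) = (c i • r) • ((1 : R') ⊗ₜ[R] x i) := by
      rw [TensorProduct.smul_tmul', smul_eq_mul, mul_one, TensorProduct.tmul_smul,
        TensorProduct.smul_tmul']
    rw [this]
    exact Submodule.smul_mem _ _ (Submodule.subset_span ⟨i, rfl⟩)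

lemma ker_baseChange {n : ℕ} (x : Fin n → M) (hx : Submodule.span R (Set.range x) = ⊤) :
    Submodule.span R' {w : Fin n → R' | ∃ z : Fin n → R, ∑ i, z i • x i = 0 ∧
      w = fun i => algebraMap R R' (z i)} =
    LinearMap.ker (Fintype.linearCombination R' (fun i => (1 : R') ⊗ₜ[R] x i)) := by
  classical
  set φ : (Fin n → R) →ₗ[R] M := Fintype.linearCombination R x with hφ
  have hφs : Function.Surjective φ := by
    rw [← LinearMap.range_eq_top, Fintype.range_linearCombination, hx]
  have hex : Function.Exact (LinearMap.ker φ).subtype φ := by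
    intro z; simp [LinearMap.mem_ker]
  have hex' := lTensor_exact R' hex hφs
  let ψ := TensorProduct.piScalarRight R R' R' (Fin n)
  have hcomp : ∀ t : R' ⊗[R] (Fin n → R),
      Fintype.linearCombination R' (fun i => (1 : R') ⊗ₜ[R] x i) (ψ t) = LinearMap.lTensor R' φ t := by
    intro t
    induction t using TensorProduct.induction_on with
    | zero => simp
    | add a b ha hb => rw [map_add, map_add, map_add, ha, hb]
    | tmul r z =>
      simp only [ψ, TensorProduct.piScalarRight_apply, TensorProduct.piScalarRightHom_tmul,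
        Fintype.linearCombination_apply, LinearMap.lTensor_tmul, hφ, TensorProduct.tmul_sum]
      apply Finset.sum_congr rfl
      intro i _
      rw [TensorProduct.smul_tmul', smul_eq_mul, mul_one, TensorProduct.tmul_smul,
        TensorProduct.smul_tmul']
  apply le_antisymm
  · apply Submodule.span_le.2
    rintro w ⟨z, hz, rfl⟩
    rw [SetLike.mem_coe, LinearMap.mem_ker, Fintype.linearCombination_apply]
    have : ∀ i, algebraMap R R' (z i) • ((1 : R') ⊗ₜ[R] x i) = (1 : R') ⊗ₜ[R] (z i • x i) := by
      intro i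
      rw [TensorProduct.smul_tmul', smul_eq_mul, mul_one, TensorProduct.tmul_smul,
        TensorProduct.smul_tmul', Algebra.algebraMap_eq_smul_one]
    simp only [this, ← TensorProduct.tmul_sum, hz, TensorProduct.tmul_zero]
  · intro w hw
    rw [LinearMap.mem_ker] at hw
    obtain ⟨t, rfl⟩ := ψ.surjective w
    rw [hcomp] at hw
    obtain ⟨s, rfl⟩ := (hex' t).1 hw
    induction s using TensorProduct.induction_on with
    | zero => simp
    | add a b ha hb =>
      rw [map_add, map_add]
      exact Submodule.add_mem _ (ha (by rw [hex'.apply_apply_eq_zero]))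
        (hb (by rw [hex'.apply_apply_eq_zero]))
    | tmul r z =>
      have : ψ (LinearMap.lTensor R' (LinearMap.ker φ).subtype (r ⊗ₜ[R] z)) =
          r • (fun i => algebraMap R R' ((z : Fin n → R) i)) := by
        ext i
        simp [ψ, Algebra.smul_def, mul_comm]
      rw [this]
      apply Submodule.smul_mem
      apply Submodule.subset_span
      refine ⟨z, ?_, rfl⟩
      have := z.2
      rw [LinearMap.mem_ker] at this
      rw [← Fintype.linearCombination_apply R x]
      exact this

theorem minors_baseChange {n : ℕ} (x : Fin n → M) (hx : Submodule.span R (Set.range x) = ⊤)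
    (p : ℕ) : (minors (fun i => (1 : R') ⊗ₜ[R] x i) p : Ideal R') =
      (minors x p : Ideal R).map (algebraMap R R') := by
  rw [minors_eq_span_of_span_eq _ p _ (ker_baseChange (R' := R') x hx), minors, Ideal.map_span]
  congr 1
  ext d
  constructor
  · rintro ⟨w, e, hw, rfl⟩
    choose z hz hwz using hw
    refine ⟨(Matrix.of fun a b => z b (e a)).det, ⟨z, e, hz, rfl⟩, ?_⟩
    rw [RingHom.map_det]
    congr 1
    ext a b
    simp [hwz b]
  · rintro ⟨_, ⟨z, e, hz, rfl⟩, rfl⟩
    refine ⟨fun b i => algebraMap R R' (z b i), e, fun b => ⟨z b, hz b, rfl⟩, ?_⟩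
    rw [RingHom.map_det]
    congr 1

theorem ideal_baseChange [Module.Finite R M] (k : ℕ) :
    Fitt.ideal R' (R' ⊗[R] M) k = (Fitt.ideal R M k).map (algebraMap R R') := by
  obtain ⟨n, x, hx⟩ := Module.Finite.exists_fin (R := R) (M := M)
  rw [ideal_eq_minors x hx k, ideal_eq_minors _ (span_one_tmul_eq_top (R' := R') x hx) k,
    minors_baseChange x hx]

end BaseChange

section More

variable {R : Type*} [CommRing R] {M : Type*} [AddCommGroup M] [Module R M]

lemma ideal_mono {r s : ℕ} (h : r ≤ s) : Fitt.ideal R M r ≤ Fitt.ideal R M s := by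
  apply Ideal.span_mono
  rintro d ⟨n, x, a, hx, hrel, rfl⟩
  exact ⟨n, x, a, hx, fun i hi => hrel i (by omega), rfl⟩

lemma ideal_le_of_surjective {M' : Type*} [AddCommGroup M'] [Module R M'] (f : M →ₗ[R] M')
    (hf : Function.Surjective f) (k : ℕ) : Fitt.ideal R M k ≤ Fitt.ideal R M' k := by
  apply Ideal.span_mono
  rintro d ⟨n, x, a, hx, hrel, rfl⟩
  refine ⟨n, f ∘ x, a, ?_, ?_, rfl⟩
  · rw [Set.range_comp, ← Submodule.map_span, hx, Submodule.map_top, LinearMap.range_eq_top]
    exact hf
  · intro i hi
    have := congrArg f (hrel i hi)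
    simpa using this

lemma ideal_congr {M' : Type*} [AddCommGroup M'] [Module R M'] (e : M ≃ₗ[R] M') (k : ℕ) :
    Fitt.ideal R M k = Fitt.ideal R M' k :=
  le_antisymm (ideal_le_of_surjective e.toLinearMap e.surjective k)
    (ideal_le_of_surjective e.symm.toLinearMap e.symm.surjective k)

lemma ideal_eq_top_of_span {n : ℕ} (x : Fin n → M) (hx : Submodule.span R (Set.range x) = ⊤)
    {k : ℕ} (hk : n ≤ k) : Fitt.ideal R M k = ⊤ := by
  rw [eq_top_iff]
  refine le_trans ?_ (ideal_mono hk)
  rw [top_le_iff, Ideal.eq_top_iff_one]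
  apply Ideal.subset_span
  refine ⟨n, x, 1, hx, fun i hi => ?_, by simp⟩
  omega

lemma ideal_eq_bot_of_basis {k : ℕ} (b : Module.Basis (Fin k) R M) {j : ℕ} (hj : j < k) :
    Fitt.ideal R M j = ⊥ := by
  rw [ideal_eq_minors b b.span_eq j, eq_bot_iff]
  apply Ideal.span_le.2
  rintro d ⟨z, e, hz, rfl⟩
  have hz0 : ∀ a, z a = 0 := by
    intro a
    ext i
    exact Fintype.linearIndependent_iff.1 b.linearIndependent (z a) (hz a) i
  have : Nonempty (Fin (k - j)) := ⟨⟨0, by omega⟩⟩
  have h0 : (Matrix.of fun a b => z b (e a)) = (0 : Matrix (Fin (k - j)) (Fin (k - j)) R) := by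
    ext a b; simp [hz0 b]
  rw [h0, Matrix.det_zero]
  simp

lemma ideal_eq_top_of_basis {k : ℕ} (b : Module.Basis (Fin k) R M) {j : ℕ} (hj : k ≤ j) :
    Fitt.ideal R M j = ⊤ :=
  ideal_eq_top_of_span b b.span_eq hj

/-- If `Fit_{r-1} = 0` and `r` elements generate, they form a basis. -/
lemma linearIndependent_of_ideal_eq_bot {r : ℕ} (g : Fin r → M)
    (hg : Submodule.span R (Set.range g) = ⊤) (h : ∀ j, j < r → Fitt.ideal R M j = ⊥) :
    LinearIndependent R g := by
  rw [Fintype.linearIndependent_iff]
  intro c hc i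
  have hr : 0 < r := i.pos
  have h1 := h (r - 1) (by omega)
  rw [ideal_eq_minors g hg (r - 1), eq_bot_iff] at h1
  have : c i ∈ (minors g (r - (r - 1)) : Ideal R) := by
    apply Ideal.subset_span
    refine ⟨fun _ => c, fun _ => i, fun _ => hc, ?_⟩
    have h1 : r - (r - 1) = 1 := by omega
    rw [h1, Matrix.det_fin_one]
    simp
  simpa using h1 this

lemma ideal_localizedModule (S : Submonoid R) [Module.Finite R M] (k : ℕ) :
    Fitt.ideal (Localization S) (LocalizedModule S M) k =
      (Fitt.ideal R M k).map (algebraMap R (Localization S)) := by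
  rw [ideal_congr (LocalizedModule.equivTensorProduct S M) k, ideal_baseChange]

end More

section Cramer

variable {R : Type*} [CommRing R] {M : Type*} [AddCommGroup M] [Module R M]

/-- Cramer-type identity: replacing row `a₀` of the minor by the `j`-th column of the relation
matrix and summing against `x j` gives zero. -/
lemma cramer_identity {n p : ℕ} (x : Fin n → M) (z : Fin p → Fin n → R) (e : Fin p → Fin n)
    (hz : ∀ b, ∑ i, z b i • x i = 0) (a₀ : Fin p) :
    ∑ j, (Matrix.of fun a b => z b (Function.update e a₀ j a)).det • x j = 0 := by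
  classical
  let Z1 : Fin p → Fin p → R := fun a b => z b (e a)
  let L : (Fin p → R) →ₗ[R] R :=
    (Matrix.detRowAlternating (R := R) (n := Fin p)).toMultilinearMap.toLinearMap Z1 a₀
  have hL : ∀ j, (Matrix.of fun a b => z b (Function.update e a₀ j a)).det = L (fun b => z b j) := by
    intro j
    simp only [L, MultilinearMap.toLinearMap_apply]
    show _ = Matrix.det (Matrix.of (Function.update Z1 a₀ fun b => z b j))
    congr 1
    ext a b
    by_cases h : a = a₀
    · subst h; simp
    · simp [Function.update_of_ne h, Z1]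
  have hlin : ∀ v : Fin p → R, L v = ∑ b, v b * L (Pi.single b 1) := by
    intro v
    conv_lhs => rw [← Finset.univ_sum_single v]
    rw [map_sum]
    apply Finset.sum_congr rfl
    intro b _
    have : (Pi.single b (v b) : Fin p → R) = v b • Pi.single b 1 := by
      ext c; simp [Pi.single_apply]
    rw [this, map_smul, smul_eq_mul]
  simp only [hL]
  calc ∑ j, L (fun b => z b j) • x j = ∑ j, ∑ b, (z b j * L (Pi.single b 1)) • x j := by
        apply Finset.sum_congr rfl; intro j _; rw [hlin, Finset.sum_smul]
    _ = ∑ b, L (Pi.single b 1) • ∑ j, z b j • x j := by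
        rw [Finset.sum_comm]
        apply Finset.sum_congr rfl; intro b _
        rw [Finset.smul_sum]
        apply Finset.sum_congr rfl; intro j _
        rw [mul_comm, mul_smul]
    _ = 0 := by simp [hz]

/-- A minor of the relation matrix multiplies the generators it involves into the span of the
remaining generators. -/
lemma det_smul_mem_span {n p : ℕ} (x : Fin n → M) (z : Fin p → Fin n → R) (e : Fin p → Fin n)
    (hz : ∀ b, ∑ i, z b i • x i = 0) (a₀ : Fin p) :
    (Matrix.of fun a b => z b (e a)).det • x (e a₀) ∈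
      Submodule.span R (x '' {j | j ∉ Set.range e}) := by
  classical
  by_cases he : Function.Injective e
  · have hid := cramer_identity x z e hz a₀
    rw [← Finset.add_sum_erase _ _ (Finset.mem_univ (e a₀)), Function.update_eq_self] at hid
    rw [eq_neg_of_add_eq_zero_left hid]
    apply Submodule.neg_mem
    apply Submodule.sum_mem
    intro j hj
    have hne : j ≠ e a₀ := (Finset.mem_erase.1 hj).1
    by_cases hjr : j ∈ Set.range e
    · obtain ⟨a, rfl⟩ := hjr
      have hne' : a ≠ a₀ := fun h => hne (by rw [h])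
      have : (Matrix.of fun a' b => z b (Function.update e a₀ (e a) a')).det = 0 := by
        apply Matrix.det_zero_of_row_eq hne'
        ext c
        simp [Function.update_of_ne hne']
      rw [this, zero_smul]
      exact Submodule.zero_mem _
    · exact Submodule.smul_mem _ _ (Submodule.subset_span ⟨j, hjr, rfl⟩)
  · obtain ⟨a, b, hab, hne⟩ : ∃ a b, e a = e b ∧ a ≠ b := by
      simpa [Function.Injective] using he
    rw [Matrix.det_zero_of_row_eq hne]
    · rw [zero_smul]; exact Submodule.zero_mem _
    · ext j; simp [hab]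

lemma exists_fin_of_finset {A N : Type*} [Semiring A] [AddCommMonoid N] [Module A N] {n k : ℕ}
    (y : Fin n → N) (hy : Submodule.span A (Set.range y) = ⊤) (C : Finset (Fin n))
    (hC : C.card ≤ k) (h : ∀ j, y j ∈ Submodule.span A (y '' (C : Set (Fin n)))) :
    ∃ g : Fin k → N, Submodule.span A (Set.range g) = ⊤ := by
  classical
  let eC : C ≃ Fin C.card := C.equivFin
  refine ⟨fun i => if h : (i : ℕ) < C.card then y (eC.symm ⟨i, h⟩) else 0, ?_⟩
  rw [eq_top_iff, ← hy]
  apply Submodule.span_le.2
  rintro _ ⟨j, rfl⟩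
  refine Submodule.span_mono ?_ (h j)
  rintro _ ⟨j', hj', rfl⟩
  refine ⟨⟨eC ⟨j', hj'⟩, lt_of_lt_of_le (eC ⟨j', hj'⟩).2 hC⟩, ?_⟩
  simp

lemma span_mk_eq_top (S : Submonoid R) {n : ℕ} (x : Fin n → M)
    (hx : Submodule.span R (Set.range x) = ⊤) :
    Submodule.span (Localization S) (Set.range fun i => LocalizedModule.mk (x i) (1 : S)) = ⊤ := by
  rw [eq_top_iff]
  rintro m -
  induction m using LocalizedModule.induction_on with
  | h m s =>
    have h1 : LocalizedModule.mk m s = (Localization.mk 1 s : Localization S) •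
        LocalizedModule.mk m (1 : S) := by
      rw [LocalizedModule.mk_smul_mk, one_smul, mul_one]
    rw [h1]
    apply Submodule.smul_mem
    have hm : m ∈ Submodule.span R (Set.range x) := by rw [hx]; trivial
    have h2 : LocalizedModule.mkLinearMap S M m ∈ Submodule.map (LocalizedModule.mkLinearMap S M)
        (Submodule.span R (Set.range x)) := Submodule.mem_map_of_mem hm
    rw [Submodule.map_span, ← Set.range_comp] at h2
    exact Submodule.span_le_restrictScalars R (Localization S) _ h2

theorem exists_fin_span_localizedModule (S : Submonoid R) {n : ℕ} (x : Fin n → M)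
    (hx : Submodule.span R (Set.range x) = ⊤) (k : ℕ)
    (h : n ≤ k ∨ ∃ (z : Fin (n - k) → Fin n → R) (e : Fin (n - k) → Fin n),
      (∀ b, ∑ i, z b i • x i = 0) ∧ (Matrix.of fun a b => z b (e a)).det ∈ S) :
    ∃ g : Fin k → LocalizedModule S M, Submodule.span (Localization S) (Set.range g) = ⊤ := by
  classical
  have hy := span_mk_eq_top S x hx
  rcases h with hnk | ⟨z, e, hz, hd⟩
  · refine exists_fin_of_finset _ hy Finset.univ (by simpa using hnk) (fun j => ?_)
    exact Submodule.subset_span ⟨j, by simp, rfl⟩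
  by_cases he : Function.Injective e
  · refine exists_fin_of_finset _ hy (Finset.univ.filter (fun j => j ∉ Set.range e)) ?_ ?_
    · have h1 : (Finset.univ.filter (fun j => j ∉ Set.range e)) = (Finset.univ.image e)ᶜ := by
        ext j; simp
      rw [h1, Finset.card_compl, Finset.card_image_of_injective _ he]
      simp; omega
    · intro j
      by_cases hj : j ∈ Set.range e
      · obtain ⟨a₀, rfl⟩ := hj
        set d := (Matrix.of fun a b => z b (e a)).det with hd'
        have h1 := det_smul_mem_span x z e hz a₀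
        have h2 : LocalizedModule.mkLinearMap S M (d • x (e a₀)) ∈
            Submodule.map (LocalizedModule.mkLinearMap S M)
              (Submodule.span R (x '' {j | j ∉ Set.range e})) := Submodule.mem_map_of_mem h1
        rw [Submodule.map_span, ← Set.image_comp] at h2
        have h3 := Submodule.span_le_restrictScalars R (Localization S) _ h2
        have h4 : LocalizedModule.mk (x (e a₀)) (1 : S) =
            (Localization.mk 1 ⟨d, hd⟩ : Localization S) •
              LocalizedModule.mkLinearMap S M (d • x (e a₀)) := by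
          rw [LocalizedModule.mkLinearMap_apply, LocalizedModule.mk_smul_mk, one_smul, mul_one]
          rw [LocalizedModule.mk_eq]
          exact ⟨1, by simp⟩
        rw [h4]
        apply Submodule.smul_mem
        have h5 : ((fun i => LocalizedModule.mk (x i) (1 : S)) ''
            ((Finset.univ.filter (fun j => j ∉ Set.range e) : Finset (Fin n)) : Set (Fin n))) =
            (⇑(LocalizedModule.mkLinearMap S M) ∘ x '' {j | j ∉ Set.range e}) := by
          ext m; simp [LocalizedModule.mkLinearMap_apply]
        rw [h5]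
        exact h3
      · exact Submodule.subset_span ⟨j, by simpa using hj, rfl⟩
  · obtain ⟨a, b, hab, hne⟩ : ∃ a b, e a = e b ∧ a ≠ b := by
      simpa [Function.Injective] using he
    rw [Matrix.det_zero_of_row_eq hne (by ext j; simp [hab])] at hd
    have : Subsingleton (Localization S) := IsLocalization.subsingleton (M := S) hd
    have : Subsingleton (LocalizedModule S M) := Module.subsingleton (Localization S) _
    exact ⟨0, Subsingleton.elim _ _⟩

theorem exists_minor_notMem {n : ℕ} (x : Fin n → M) (hx : Submodule.span R (Set.range x) = ⊤)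
    (k : ℕ) (p : Ideal R) (h : ¬ Fitt.ideal R M k ≤ p) :
    ∃ (z : Fin (n - k) → Fin n → R) (e : Fin (n - k) → Fin n),
      (∀ b, ∑ i, z b i • x i = 0) ∧ (Matrix.of fun a b => z b (e a)).det ∉ p := by
  by_contra hcon
  push Not at hcon
  apply h
  rw [ideal_eq_minors x hx k]
  apply Ideal.span_le.2
  rintro d ⟨z, e, hz, rfl⟩
  exact hcon z e hz

end Cramer

end Groth.Agent.Lib.helper27.Fitting
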