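import Mathlib
import Groth.Prelude.Def_Fitting
import Groth.Prelude.Def_BlowUp2
import Groth.Prelude.Def_FlatCA
import Groth.Agent.Lib.helper27.Fitting

/-!
# Fitting ideals of strict transforms along affine blow-up algebras (helper27)
-/

namespace Groth.Agent.Lib.helper27.FitBlow

open Groth.Agent.Lib.helper27.Fitting TensorProduct

universe u

section Alg

variable {R : Type u} [CommRing R] (I : Ideal R) (a : R) (R₁ : Type u) [CommRing R₁] [Algebra R R₁]
  (e : R₁ ≃ₐ[R] ↥(BlowUp.affineAlgebra R I a))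

include e in
/-- `a` is a nonzerodivisor in the affine blow-up algebra. -/
lemma a_nzd (t : R₁) (ht : algebraMap R R₁ a * t = 0) : t = 0 := by
  have h1 : e (algebraMap R R₁ a * t) = 0 := by rw [ht, map_zero]
  rw [map_mul, AlgEquiv.commutes] at h1
  have h2 : algebraMap R (Localization.Away a) a * ((e t : ↥(BlowUp.affineAlgebra R I a)) :
      Localization.Away a) = 0 := by
    have := congrArg (Subtype.val) h1
    simpa using this
  have hu : IsUnit (algebraMap R (Localization.Away a) a) :=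
    IsLocalization.map_units (Localization.Away a) (⟨a, Submonoid.mem_powers a⟩ : Submonoid.powers a)
  have h3 : ((e t : ↥(BlowUp.affineAlgebra R I a)) : Localization.Away a) = 0 :=
    (hu.mul_right_eq_zero).1 h2
  have h4 : e t = 0 := Subtype.ext h3
  exact (map_eq_zero_iff e e.injective).1 h4

include e in
/-- Elements of `I` become divisible by `a` in the affine blow-up algebra. -/
lemma exists_div (x : R) (hx : x ∈ I) : ∃ b : R₁, algebraMap R R₁ a * b = algebraMap R R₁ x := by
  let q : ↥(BlowUp.affineAlgebra R I a) :=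
    ⟨IsLocalization.mk' (Localization.Away a) x (⟨a, Submonoid.mem_powers a⟩ : Submonoid.powers a),
      Algebra.subset_adjoin ⟨x, hx, rfl⟩⟩
  refine ⟨e.symm q, ?_⟩
  apply e.injective
  rw [map_mul, AlgEquiv.commutes, AlgEquiv.commutes, AlgEquiv.apply_symm_apply]
  apply Subtype.ext
  show algebraMap R (Localization.Away a) a * IsLocalization.mk' (Localization.Away a) x
    (⟨a, Submonoid.mem_powers a⟩ : Submonoid.powers a) = algebraMap R (Localization.Away a) x
  rw [mul_comm]
  exact IsLocalization.mk'_spec (Localization.Away a) x ⟨a, Submonoid.mem_powers a⟩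

end Alg

section Strict

variable (R : Type u) [CommRing R] (M : Type u) [AddCommGroup M] [Module R M]
  (R₁ : Type u) [CommRing R₁] [Algebra R R₁]

/-- the generating tuple of the strict transform -/
noncomputable def ytuple (a' : R₁) {n : ℕ} (x : Fin n → M) :
    Fin n → (R₁ ⊗[R] M) ⧸ FlatCA.powTorsion R₁ a' (R₁ ⊗[R] M) :=
  fun j => (FlatCA.powTorsion R₁ a' (R₁ ⊗[R] M)).mkQ ((1 : R₁) ⊗ₜ[R] x j)

lemma ytuple_span (a' : R₁) {n : ℕ} (x : Fin n → M) (hx : Submodule.span R (Set.range x) = ⊤) :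
    Submodule.span R₁ (Set.range (ytuple R M R₁ a' x)) = ⊤ := by
  have : Set.range (ytuple R M R₁ a' x) = (FlatCA.powTorsion R₁ a' (R₁ ⊗[R] M)).mkQ ''
      Set.range (fun j => (1 : R₁) ⊗ₜ[R] x j) := by
    rw [← Set.range_comp]; rfl
  rw [this, ← Submodule.map_span, span_one_tmul_eq_top (R' := R₁) x hx, Submodule.map_top,
    Submodule.range_mkQ]

lemma ytuple_rel (a' : R₁) {n : ℕ} (x : Fin n → M) (w : Fin n → R₁) (N : ℕ)
    (h : a' ^ N • ∑ j, w j • ((1 : R₁) ⊗ₜ[R] x j) = 0) : ∑ j, w j • ytuple R M R₁ a' x j = 0 := by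
  have h1 : ∑ j, w j • ((1 : R₁) ⊗ₜ[R] x j) ∈ FlatCA.powTorsion R₁ a' (R₁ ⊗[R] M) := by
    apply Submodule.mem_iSup_of_mem N
    rw [Submodule.mem_torsionBy_iff]
    exact h
  have h2 := (Submodule.Quotient.mk_eq_zero _).2 h1
  rw [← h2, ← Submodule.mkQ_apply, map_sum]
  simp [ytuple]

theorem fitt_strict_eq_top [Module.Finite R M] (k : ℕ) (a : R) (ha : a ∈ Fitt.ideal R M k)
    (e : R₁ ≃ₐ[R] ↥(BlowUp.affineAlgebra R (Fitt.ideal R M k) a)) :
    Fitt.ideal R₁ ((R₁ ⊗[R] M) ⧸ FlatCA.powTorsion R₁ (algebraMap R R₁ a) (R₁ ⊗[R] M)) k = ⊤ := by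
  classical
  obtain ⟨n, x, hx⟩ := Module.Finite.exists_fin (R := R) (M := M)
  set a' := algebraMap R R₁ a with ha'
  have hnzd : ∀ t : R₁, a' * t = 0 → t = 0 := a_nzd _ a R₁ e
  rw [ideal_eq_minors _ (ytuple_span R M R₁ a' x hx) k]
  let B : Set R₁ := {b | ∃ (z : Fin (n - k) → Fin n → R) (e : Fin (n - k) → Fin n),
    (∀ c, ∑ i, z c i • x i = 0) ∧
      a' * b = algebraMap R R₁ (Matrix.of fun a c => z c (e a)).det}
  have hB1 : ∀ b ∈ B, b ^ (n - k) ∈ (minors (ytuple R M R₁ a' x) (n - k) : Ideal R₁) := by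
    rintro b ⟨z, ε, hz, hb⟩
    have hd : ∀ (a₀ : Fin (n - k)) (j : Fin n),
        (Matrix.of fun a c => z c (Function.update ε a₀ j a)).det ∈ Fitt.ideal R M k := by
      intro a₀ j
      rw [ideal_eq_minors x hx k]
      exact Ideal.subset_span ⟨z, _, hz, rfl⟩
    have hβ : ∀ (a₀ : Fin (n - k)) (j : Fin n), ∃ β : R₁, a' * β =
        algebraMap R R₁ (Matrix.of fun a c => z c (Function.update ε a₀ j a)).det :=
      fun a₀ j => exists_div _ a R₁ e _ (hd a₀ j)
    choose β hβ using hβ
    have hrel : ∀ a₀, ∑ j, β a₀ j • ytuple R M R₁ a' x j = 0 := by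
      intro a₀
      apply ytuple_rel R M R₁ a' x (β a₀) 1
      rw [pow_one, Finset.smul_sum]
      have h1 : ∀ j, a' • β a₀ j • ((1 : R₁) ⊗ₜ[R] x j) =
          (1 : R₁) ⊗ₜ[R] ((Matrix.of fun a c => z c (Function.update ε a₀ j a)).det • x j) := by
        intro j
        rw [smul_smul, hβ, TensorProduct.smul_tmul', smul_eq_mul, mul_one,
          TensorProduct.tmul_smul, TensorProduct.smul_tmul', Algebra.algebraMap_eq_smul_one]
      simp only [h1]
      rw [← TensorProduct.tmul_sum, cramer_identity x z ε hz a₀, TensorProduct.tmul_zero]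
    have hdiag : ∀ a c, β c (ε a) = if a = c then b else 0 := by
      intro a c
      have hcancel : ∀ s t : R₁, a' * s = a' * t → s = t := by
        intro s t hst
        have := hnzd (s - t) (by rw [mul_sub, hst, sub_self])
        exact sub_eq_zero.1 this
      apply hcancel
      rw [hβ]
      split_ifs with hac
      · subst hac
        rw [Function.update_eq_self, hb]
      · rw [mul_zero]
        have : (Matrix.of fun a'' c' => z c' (Function.update ε c (ε a) a'')).det = 0 := by
          apply Matrix.det_zero_of_row_eq hac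
          ext c'
          simp [Function.update_of_ne hac]
        rw [this, map_zero]
    apply Ideal.subset_span
    refine ⟨β, ε, hrel, ?_⟩
    have hm : (Matrix.of fun a c => β c (ε a)) = Matrix.diagonal (fun _ : Fin (n - k) => b) := by
      ext a c
      rw [Matrix.of_apply, hdiag, Matrix.diagonal_apply]
    rw [hm, Matrix.det_diagonal, Finset.prod_const, Finset.card_univ, Fintype.card_fin]
  have hB2 : Ideal.span B = ⊤ := by
    have hle : (Fitt.ideal R M k).map (algebraMap R R₁) ≤ Ideal.span {a'} * Ideal.span B := by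
      rw [Ideal.map_le_iff_le_comap, ideal_eq_minors x hx k]
      apply Ideal.span_le.2
      rintro d ⟨z, ε, hz, rfl⟩
      have hd : (Matrix.of fun a c => z c (ε a)).det ∈ Fitt.ideal R M k := by
        rw [ideal_eq_minors x hx k]
        exact Ideal.subset_span ⟨z, _, hz, rfl⟩
      obtain ⟨b, hb⟩ := exists_div _ a R₁ e _ hd
      rw [SetLike.mem_coe, Ideal.mem_comap, ← hb]
      exact Ideal.mul_mem_mul (Ideal.mem_span_singleton_self a')
        (Ideal.subset_span ⟨z, ε, hz, hb⟩)
    have h1 : a' ∈ Ideal.span {a'} * Ideal.span B := hle (Ideal.mem_map_of_mem _ ha)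
    rw [Ideal.mem_span_singleton_mul] at h1
    obtain ⟨t, ht, hat⟩ := h1
    have h2 : t - 1 = 0 := hnzd (t - 1) (by rw [mul_sub, hat, mul_one, sub_self])
    rw [Ideal.eq_top_iff_one, ← sub_eq_zero.1 h2]
    exact ht
  have h3 := Ideal.span_pow_eq_top B hB2 (n - k)
  rw [eq_top_iff, ← h3]
  apply Ideal.span_le.2
  rintro _ ⟨b, hb, rfl⟩
  exact hB1 b hb

end Strict

section Strict2

variable (R : Type u) [CommRing R] (M : Type u) [AddCommGroup M] [Module R M]
  (R₁ : Type u) [CommRing R₁] [Algebra R R₁]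

lemma mem_powTorsion_iff {S : Type u} [CommRing S] (x : S) {N : Type u} [AddCommGroup N]
    [Module S N] (m : N) : m ∈ FlatCA.powTorsion S x N ↔ ∃ n : ℕ, x ^ n • m = 0 := by
  unfold FlatCA.powTorsion
  have hdir : Directed (· ≤ ·) (fun n : ℕ => Submodule.torsionBy S N (x ^ n)) := by
    apply Monotone.directed_le
    intro i j hij m hm
    rw [Submodule.mem_torsionBy_iff] at hm ⊢
    obtain ⟨d, rfl⟩ := Nat.exists_eq_add_of_le hij
    rw [pow_add, mul_comm, mul_smul, hm, smul_zero]
  rw [Submodule.mem_iSup_of_directed _ hdir]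
  simp [Submodule.mem_torsionBy_iff]

/-- relations of the strict-transform tuple lift, after multiplication by a power of `a'`, to
relations of the base-changed tuple. -/
lemma ytuple_rel_lift (a' : R₁) {n : ℕ} (x : Fin n → M) (w : Fin n → R₁)
    (h : ∑ j, w j • ytuple R M R₁ a' x j = 0) :
    ∃ N : ℕ, ∑ j, (a' ^ N * w j) • ((1 : R₁) ⊗ₜ[R] x j) = 0 := by
  have h1 : ∑ j, w j • ((1 : R₁) ⊗ₜ[R] x j) ∈ FlatCA.powTorsion R₁ a' (R₁ ⊗[R] M) := by
    rw [← Submodule.Quotient.mk_eq_zero, ← h, ← Submodule.mkQ_apply, map_sum]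
    simp [ytuple]
  obtain ⟨N, hN⟩ := (mem_powTorsion_iff a' _).1 h1
  refine ⟨N, ?_⟩
  rw [← hN, Finset.smul_sum]
  simp only [mul_smul]

/-- If `Fit_j(M)` extends to zero in `R₁` and `a'` is a nonzerodivisor, then `Fit_j` of the strict
transform vanishes. -/
theorem fitt_strict_eq_bot [Module.Finite R M] (j : ℕ) (a' : R₁)
    (hnzd : ∀ t : R₁, a' * t = 0 → t = 0)
    (hmap : (Fitt.ideal R M j).map (algebraMap R R₁) = ⊥) :
    Fitt.ideal R₁ ((R₁ ⊗[R] M) ⧸ FlatCA.powTorsion R₁ a' (R₁ ⊗[R] M)) j = ⊥ := by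
  classical
  obtain ⟨n, x, hx⟩ := Module.Finite.exists_fin (R := R) (M := M)
  have hnzd' : ∀ (N : ℕ) (t : R₁), a' ^ N * t = 0 → t = 0 := by
    intro N
    induction N with
    | zero => intro t ht; simpa using ht
    | succ N ih =>
      intro t ht
      apply ih
      apply hnzd
      rw [← mul_assoc, ← pow_succ']
      exact ht
  rw [ideal_eq_minors _ (ytuple_span R M R₁ a' x hx) j, eq_bot_iff]
  apply Ideal.span_le.2
  rintro d ⟨z, ε, hz, rfl⟩
  have hN : ∀ c, ∃ N : ℕ, ∑ i, (a' ^ N * z c i) • ((1 : R₁) ⊗ₜ[R] x i) = 0 :=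
    fun c => ytuple_rel_lift R M R₁ a' x (z c) (hz c)
  choose N hN using hN
  set Ntot := ∑ c, N c with hNtot
  have hN' : ∀ c, ∑ i, (a' ^ Ntot * z c i) • ((1 : R₁) ⊗ₜ[R] x i) = 0 := by
    intro c
    have hle : N c ≤ Ntot := Finset.single_le_sum (f := N) (fun _ _ => Nat.zero_le _)
      (Finset.mem_univ c)
    obtain ⟨d, hd⟩ := Nat.exists_eq_add_of_le hle
    have : ∀ i, (a' ^ Ntot * z c i) • ((1 : R₁) ⊗ₜ[R] x i) =
        a' ^ d • ((a' ^ N c * z c i) • ((1 : R₁) ⊗ₜ[R] x i)) := by
      intro i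
      rw [smul_smul, hd, pow_add]; ring_nf
    simp only [this]
    rw [← Finset.smul_sum, hN c, smul_zero]
  have hmem : (Matrix.of fun a c => (a' ^ Ntot * z c (ε a))).det ∈
      Fitt.ideal R₁ (R₁ ⊗[R] M) j := by
    rw [ideal_eq_minors _ (span_one_tmul_eq_top (R' := R₁) x hx) j]
    exact Ideal.subset_span ⟨fun c i => a' ^ Ntot * z c i, ε, hN', rfl⟩
  rw [ideal_baseChange, hmap, Ideal.mem_bot] at hmem
  have hsm : (Matrix.of fun a c => (a' ^ Ntot * z c (ε a))) =
      a' ^ Ntot • (Matrix.of fun a c => z c (ε a)) := by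
    ext a c; simp
  rw [hsm, Matrix.det_smul, ← pow_mul] at hmem
  rw [SetLike.mem_coe, Ideal.mem_bot]
  exact hnzd' _ _ hmem

/-- Elements of `Fit_j(M)`, `j < k`, are killed by a power of `a ∈ Fit_k(M)` when `M` is locally free
of rank `k` away from `V(Fit_k(M))`. -/
lemma exists_pow_mul_eq_zero [Module.Finite R M] (k : ℕ)
    (hfree : ∀ (p : Ideal R) [p.IsPrime], ¬ Fitt.ideal R M k ≤ p →
      Module.Free (Localization.AtPrime p) (LocalizedModule p.primeCompl M) ∧
        Module.finrank (Localization.AtPrime p) (LocalizedModule p.primeCompl M) = k)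
    (a : R) (ha : a ∈ Fitt.ideal R M k) (j : ℕ) (hj : j < k) (c : R) (hc : c ∈ Fitt.ideal R M j) :
    ∃ N : ℕ, a ^ N * c = 0 := by
  have hrad : a ∈ ((Ideal.span {c}).annihilator).radical := by
    rw [Ideal.radical_eq_sInf, Ideal.mem_sInf]
    rintro p ⟨hJp, hp⟩
    by_contra hap
    have hnot : ¬ Fitt.ideal R M k ≤ p := fun hle => hap (hle ha)
    obtain ⟨hfr, hrk⟩ := hfree p hnot
    let b := Module.finBasisOfFinrankEq (Localization.AtPrime p) (LocalizedModule p.primeCompl M) hrk
    have h1 := ideal_eq_bot_of_basis b hj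
    rw [ideal_localizedModule, eq_bot_iff] at h1
    have h2 : algebraMap R (Localization.AtPrime p) c = 0 := by
      have := h1 (Ideal.mem_map_of_mem _ hc)
      simpa using this
    rw [IsLocalization.map_eq_zero_iff p.primeCompl] at h2
    obtain ⟨s, hs⟩ := h2
    have hmem : (s : R) ∈ (Ideal.span {c}).annihilator := by
      rw [Submodule.mem_annihilator_span_singleton]
      simpa using hs
    exact s.2 (hJp hmem)
  obtain ⟨N, hN⟩ := hrad
  rw [Submodule.mem_annihilator_span_singleton] at hN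
  exact ⟨N, by simpa using hN⟩

theorem fitt_strict_locFree [Module.Finite R M] (k : ℕ)
    (hfree : ∀ (p : Ideal R) [p.IsPrime], ¬ Fitt.ideal R M k ≤ p →
      Module.Free (Localization.AtPrime p) (LocalizedModule p.primeCompl M) ∧
        Module.finrank (Localization.AtPrime p) (LocalizedModule p.primeCompl M) = k)
    (a : R) (ha : a ∈ Fitt.ideal R M k)
    (e : R₁ ≃ₐ[R] ↥(BlowUp.affineAlgebra R (Fitt.ideal R M k) a)) :
    (∀ j, j < k → Fitt.ideal R₁ ((R₁ ⊗[R] M) ⧸
        FlatCA.powTorsion R₁ (algebraMap R R₁ a) (R₁ ⊗[R] M)) j = ⊥) ∧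
    (∀ j, k ≤ j → Fitt.ideal R₁ ((R₁ ⊗[R] M) ⧸
        FlatCA.powTorsion R₁ (algebraMap R R₁ a) (R₁ ⊗[R] M)) j = ⊤) := by
  have hnzd : ∀ t : R₁, algebraMap R R₁ a * t = 0 → t = 0 := a_nzd _ a R₁ e
  constructor
  · intro j hj
    apply fitt_strict_eq_bot R M R₁ j _ hnzd
    rw [eq_bot_iff, Ideal.map_le_iff_le_comap]
    intro c hc
    obtain ⟨N, hN⟩ := exists_pow_mul_eq_zero R M k hfree a ha j hj c hc
    rw [Ideal.mem_comap, Ideal.mem_bot]
    have h1 : algebraMap R R₁ a ^ N * algebraMap R R₁ c = 0 := by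
      rw [← map_pow, ← map_mul, hN, map_zero]
    clear hN
    induction N with
    | zero => simpa using h1
    | succ N ih =>
      apply ih
      apply hnzd
      rw [← mul_assoc, ← pow_succ']
      exact h1
  · intro j hj
    rw [eq_top_iff, ← fitt_strict_eq_top R M R₁ k a ha e]
    exact ideal_mono hj

end Strict2

section Strict3

variable (R : Type u) [CommRing R] (M : Type u) [AddCommGroup M] [Module R M]
  (R₁ : Type u) [CommRing R₁] [Algebra R R₁]

/-- General criterion for `Fit_k` of the strict transform to be the unit ideal: a family `P` of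
relation matrices all of whose `(n-k)`-minors, multiplied by `s`, become divisible by the
nonzerodivisor `a'`, with the quotients generating the unit ideal. -/
theorem fitt_strict_eq_top_of {n : ℕ} (x : Fin n → M) (hx : Submodule.span R (Set.range x) = ⊤)
    (k : ℕ) (a' : R₁) (hnzd : ∀ t : R₁, a' * t = 0 → t = 0) (s : R)
    (P : Set (Fin (n - k) → Fin n → R)) (hP : ∀ z ∈ P, ∀ c, ∑ i, z c i • x i = 0)
    (hdiv : ∀ z ∈ P, ∀ ε : Fin (n - k) → Fin n, ∃ b : R₁,
      a' * b = algebraMap R R₁ (s * (Matrix.of fun a c => z c (ε a)).det))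
    (hspan : Ideal.span {b : R₁ | ∃ z ∈ P, ∃ ε : Fin (n - k) → Fin n,
      a' * b = algebraMap R R₁ (s * (Matrix.of fun a c => z c (ε a)).det)} = ⊤) :
    Fitt.ideal R₁ ((R₁ ⊗[R] M) ⧸ FlatCA.powTorsion R₁ a' (R₁ ⊗[R] M)) k = ⊤ := by
  classical
  rw [ideal_eq_minors _ (ytuple_span R M R₁ a' x hx) k]
  have hB1 : ∀ b ∈ {b : R₁ | ∃ z ∈ P, ∃ ε : Fin (n - k) → Fin n,
      a' * b = algebraMap R R₁ (s * (Matrix.of fun a c => z c (ε a)).det)},
      b ^ (n - k) ∈ (minors (ytuple R M R₁ a' x) (n - k) : Ideal R₁) := by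
    rintro b ⟨z, hzP, ε, hb⟩
    have hz := hP z hzP
    have hβ : ∀ (a₀ : Fin (n - k)) (j : Fin n), ∃ β : R₁, a' * β =
        algebraMap R R₁ (s * (Matrix.of fun a c => z c (Function.update ε a₀ j a)).det) :=
      fun a₀ j => hdiv z hzP _
    choose β hβ using hβ
    have hrel : ∀ a₀, ∑ j, β a₀ j • ytuple R M R₁ a' x j = 0 := by
      intro a₀
      apply ytuple_rel R M R₁ a' x (β a₀) 1
      rw [pow_one, Finset.smul_sum]
      have h1 : ∀ j, a' • β a₀ j • ((1 : R₁) ⊗ₜ[R] x j) =
          (1 : R₁) ⊗ₜ[R] (s • ((Matrix.of fun a c => z c (Function.update ε a₀ j a)).det • x j)) := by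
        intro j
        rw [smul_smul, hβ, TensorProduct.smul_tmul', smul_eq_mul, mul_one, ← mul_smul,
          TensorProduct.tmul_smul, TensorProduct.smul_tmul', Algebra.algebraMap_eq_smul_one]
      simp only [h1]
      rw [← TensorProduct.tmul_sum, ← Finset.smul_sum, cramer_identity x z ε hz a₀, smul_zero,
        TensorProduct.tmul_zero]
    have hdiag : ∀ a c, β c (ε a) = if a = c then b else 0 := by
      intro a c
      have hcancel : ∀ s t : R₁, a' * s = a' * t → s = t := by
        intro s t hst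
        have := hnzd (s - t) (by rw [mul_sub, hst, sub_self])
        exact sub_eq_zero.1 this
      apply hcancel
      rw [hβ]
      split_ifs with hac
      · subst hac
        rw [Function.update_eq_self, hb]
      · rw [mul_zero]
        have : (Matrix.of fun a'' c' => z c' (Function.update ε c (ε a) a'')).det = 0 := by
          apply Matrix.det_zero_of_row_eq hac
          ext c'
          simp [Function.update_of_ne hac]
        rw [this, mul_zero, map_zero]
    apply Ideal.subset_span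
    refine ⟨β, ε, hrel, ?_⟩
    have hm : (Matrix.of fun a c => β c (ε a)) = Matrix.diagonal (fun _ : Fin (n - k) => b) := by
      ext a c
      rw [Matrix.of_apply, hdiag, Matrix.diagonal_apply]
    rw [hm, Matrix.det_diagonal, Finset.prod_const, Finset.card_univ, Fintype.card_fin]
  have h3 := Ideal.span_pow_eq_top _ hspan (n - k)
  rw [eq_top_iff, ← h3]
  apply Ideal.span_le.2
  rintro _ ⟨b, hb, rfl⟩
  exact hB1 b hb

end Strict3

section Strict4

variable (R : Type u) [CommRing R] (M : Type u) [AddCommGroup M] [Module R M]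

/-- The ideal of `p`-minors of rows taken from a finitely generated submodule of `R^n` is f.g. -/
lemma span_minors_fg {n : ℕ} (K : Submodule R (Fin n → R)) (hK : K.FG) (p : ℕ) :
    (Ideal.span {d : R | ∃ (z : Fin p → Fin n → R) (ε : Fin p → Fin n), (∀ c, z c ∈ K) ∧
      d = (Matrix.of fun a c => z c (ε a)).det}).FG := by
  obtain ⟨G, hG⟩ := hK
  have heq : Ideal.span {d : R | ∃ (z : Fin p → Fin n → R) (ε : Fin p → Fin n), (∀ c, z c ∈ K) ∧
      d = (Matrix.of fun a c => z c (ε a)).det} =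
      Ideal.span {d : R | ∃ (z : Fin p → Fin n → R) (ε : Fin p → Fin n),
        (∀ c, z c ∈ (G : Set (Fin n → R))) ∧ d = (Matrix.of fun a c => z c (ε a)).det} := by
    apply le_antisymm
    · apply Ideal.span_le.2
      rintro d ⟨z, ε, hz, rfl⟩
      rw [← minorForm_apply]
      have := multilinear_mem_span (minorForm (R := R) ε) (G : Set (Fin n → R)) z
        (fun b => by rw [hG]; exact hz b)
      refine Ideal.span_mono ?_ this
      rintro d ⟨g, hg, rfl⟩
      exact ⟨g, ε, hg, minorForm_apply ε g⟩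
    · apply Ideal.span_mono
      rintro d ⟨z, ε, hz, rfl⟩
      exact ⟨z, ε, fun c => by rw [← hG]; exact Submodule.subset_span (hz c), rfl⟩
  rw [heq]
  have hfin : Set.Finite {d : R | ∃ (z : Fin p → (Fin n → R)) (ε : Fin p → Fin n),
      (∀ j, z j ∈ (G : Set (Fin n → R))) ∧ d = (Matrix.of fun a b => z b (ε a)).det} := by
    have : {d : R | ∃ (z : Fin p → (Fin n → R)) (ε : Fin p → Fin n),
      (∀ j, z j ∈ (G : Set (Fin n → R))) ∧ d = (Matrix.of fun a b => z b (ε a)).det} =
      Set.range (fun q : (Fin p → G) × (Fin p → Fin n) =>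
        (Matrix.of fun a b => (q.1 b : Fin n → R) (q.2 a)).det) := by
      ext d
      constructor
      · rintro ⟨z, e, hz, rfl⟩
        exact ⟨(fun b => ⟨z b, hz b⟩, e), rfl⟩
      · rintro ⟨q, rfl⟩
        exact ⟨fun b => q.1 b, q.2, fun b => (q.1 b).2, rfl⟩
    rw [this]
    exact Set.finite_range _
  exact ⟨hfin.toFinset, by simp⟩

end Strict4

end Groth.Agent.Lib.helper27.FitBlow
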