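import Mathlib
import Groth.Prelude.Def_GmPts

/-!
# Points of the additive group `Red.Ga S` = global functions (additive analogue of `Def_GmPts`)

`Groth.Agent.Lib.helper27.GaPts.equiv T : (T ⟶ Red.Ga S) ≃ Γ(T.left, ⊤)` with
`gaFn_mul : gaFn (x * y) = gaFn x + gaFn y`, `gaFn_one`, `gaFn_inv`, `gaFn_injective`, `gaFn_ptOfElt`.
-/

universe u

open CategoryTheory CategoryTheory.Limits MonoidalCategory CartesianMonoidalCategory MonObj AlgebraicGeometry Opposite

noncomputable section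

namespace Groth.Agent.Lib.helper27.GaPts

open scoped TensorProduct

/-- The coordinate ring of `𝔾_a` over `ℤ`. -/
abbrev Coord : Type u := SymmetricAlgebra (ULift.{u} ℤ) (ULift.{u} ℤ)

abbrev baseZ : Scheme.{u} := Spec (CommRingCat.of (ULift.{u} ℤ))

abbrev toBaseZ (S : Scheme.{u}) : S ⟶ baseZ := Limits.IsTerminal.from specULiftZIsTerminal S

abbrev GaZ : Over baseZ.{u} := Red.GaZ

/-- The coordinate `x`. -/
abbrev gen : Coord.{u} := SymmetricAlgebra.ι (ULift.{u} ℤ) (ULift.{u} ℤ) (ULift.up 1)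

abbrev coordIso : Γ(Spec (CommRingCat.of Coord.{u}), ⊤) ≅ CommRingCat.of Coord.{u} :=
  Scheme.ΓSpecIso (CommRingCat.of Coord.{u})

theorem up_eq_zsmul (n : ℤ) : (ULift.up n : ULift.{u} ℤ) = n • (ULift.up 1 : ULift.{u} ℤ) := by
  apply ULift.ext
  simp

theorem algebraMap_up (n : ℤ) : algebraMap (ULift.{u} ℤ) Coord.{u} (ULift.up n) = (n : Coord.{u}) := by
  have : (ULift.up n : ULift.{u} ℤ) = ((n : ℤ) : ULift.{u} ℤ) := by
    apply ULift.ext; simp
  rw [this, map_intCast]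

/-- Two ring maps out of `ℤ[x]` that agree on `x` are equal. -/
theorem ringHom_ext_gen {R : Type u} [CommRing R] {f g : Coord.{u} →+* R} (h : f gen = g gen) : f = g := by
  ext c
  refine SymmetricAlgebra.induction (ULift.{u} ℤ) (ULift.{u} ℤ) (motive := fun c => f c = g c) ?_ ?_ ?_ ?_ c
  · intro r
    rcases r with ⟨n⟩
    rw [algebraMap_up, map_intCast, map_intCast]
  · intro x
    rcases x with ⟨n⟩
    rw [up_eq_zsmul, map_zsmul, map_zsmul, map_zsmul, h]
  · intro a b ha hb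
    rw [map_mul, map_mul, ha, hb]
  · intro a b ha hb
    rw [map_add, map_add, ha, hb]

/-- The `ULift ℤ`-algebra structure on any commutative ring (local use). -/
abbrev algZ (R : Type u) [CommRing R] : Algebra (ULift.{u} ℤ) R := ULift.algebra' ℤ R

/-- The ring map `ℤ[x] → R` sending `x` to `a`. -/
def ringHomOfElt {R : Type u} [CommRing R] (a : R) : Coord.{u} →+* R :=
  letI := algZ R
  (SymmetricAlgebra.lift (LinearMap.toSpanSingleton (ULift.{u} ℤ) R a)).toRingHom

theorem ringHomOfElt_gen {R : Type u} [CommRing R] (a : R) : ringHomOfElt a gen = a := by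
  let _ := algZ R
  change SymmetricAlgebra.lift (LinearMap.toSpanSingleton (ULift.{u} ℤ) R a)
    (SymmetricAlgebra.ι (ULift.{u} ℤ) (ULift.{u} ℤ) (ULift.up 1)) = a
  rw [SymmetricAlgebra.lift_ι_apply, LinearMap.toSpanSingleton_apply, Algebra.smul_def]
  change algebraMap ℤ R (1 : ℤ) * a = a
  simp

variable {S : Scheme.{u}} {T T' : Over S}

/-! ### From points to functions -/

abbrev specPt (t : T ⟶ Red.Ga S) : T.left ⟶ Spec (CommRingCat.of Coord.{u}) :=
  t.left ≫ pullback.fst GaZ.hom (toBaseZ S)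

def ringHomOfPt (t : T ⟶ Red.Ga S) : Coord.{u} →+* Γ(T.left, ⊤) := (coordIso.inv ≫ (specPt t).appTop).hom

theorem ringHomOfPt_gen (t : T ⟶ Red.Ga S) : ringHomOfPt t gen = Red.gaFn t := rfl

/-! ### From functions to points -/

def homOfElt (a : Γ(T.left, ⊤)) : CommRingCat.of Coord.{u} ⟶ Γ(T.left, ⊤) := CommRingCat.ofHom (ringHomOfElt a)

def specOfElt (a : Γ(T.left, ⊤)) : T.left ⟶ Spec (CommRingCat.of Coord.{u}) :=
  ΓSpec.adjunction.homEquiv T.left (op (CommRingCat.of Coord.{u})) (homOfElt a).op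

theorem coordIso_inv_specOfElt (a : Γ(T.left, ⊤)) : coordIso.inv ≫ (specOfElt a).appTop = homOfElt a :=
  ΓSpecIso_inv_ΓSpec_adjunction_homEquiv _

theorem specOfElt_w (a : Γ(T.left, ⊤)) : specOfElt a ≫ GaZ.hom = T.hom ≫ toBaseZ S :=
  specULiftZIsTerminal.hom_ext _ _

def ptOfElt (a : Γ(T.left, ⊤)) : T ⟶ Red.Ga S :=
  Over.homMk (pullback.lift (specOfElt a) T.hom (specOfElt_w a)) (pullback.lift_snd _ _ _)

theorem specPt_ptOfElt (a : Γ(T.left, ⊤)) : specPt (ptOfElt a) = specOfElt a := pullback.lift_fst _ _ _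

theorem ringHomOfPt_ptOfElt (a : Γ(T.left, ⊤)) : ringHomOfPt (ptOfElt a) = ringHomOfElt a := by
  change (coordIso.inv ≫ (specPt (ptOfElt a)).appTop).hom = _
  rw [specPt_ptOfElt, coordIso_inv_specOfElt]
  rfl

theorem gaFn_ptOfElt (a : Γ(T.left, ⊤)) : Red.gaFn (ptOfElt a) = a := by
  change ringHomOfPt (ptOfElt a) gen = a
  rw [ringHomOfPt_ptOfElt, ringHomOfElt_gen]

theorem ringHomOfElt_gaFn (t : T ⟶ Red.Ga S) : ringHomOfElt (Red.gaFn t) = ringHomOfPt t :=
  ringHom_ext_gen (by rw [ringHomOfElt_gen]; rfl)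

theorem specOfElt_gaFn (t : T ⟶ Red.Ga S) : specOfElt (Red.gaFn t) = specPt t := by
  have h : (homOfElt (Red.gaFn t)).op =
      (ΓSpec.adjunction.homEquiv T.left (op (CommRingCat.of Coord.{u}))).symm (specPt t) := by
    rw [Adjunction.homEquiv_counit, ΓSpec.adjunction_counit_app]
    change (homOfElt (Red.gaFn t)).op = (coordIso.inv ≫ (specPt t).appTop).op
    congr 1
    ext1
    exact ringHomOfElt_gaFn t
  rw [specOfElt, h, Equiv.apply_symm_apply]

theorem ptOfElt_gaFn (t : T ⟶ Red.Ga S) : ptOfElt (Red.gaFn t) = t := by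
  ext1
  apply pullback.hom_ext
  · exact (specPt_ptOfElt _).trans (specOfElt_gaFn t)
  · exact (pullback.lift_snd _ _ _).trans (Over.w t).symm

theorem gaFn_injective : Function.Injective (fun t : T ⟶ Red.Ga S => Red.gaFn t) := fun t t' h => by
  rw [← ptOfElt_gaFn t, ← ptOfElt_gaFn t']
  exact congrArg ptOfElt h

/-! ### Additivity -/

theorem pullback_map_left_fst {X Y : Over baseZ.{u}} (g : X ⟶ Y) :
    ((Over.pullback (toBaseZ S)).map g).left ≫ pullback.fst Y.hom (toBaseZ S) =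
      pullback.fst X.hom (toBaseZ S) ≫ g.left := by
  dsimp only [Over.pullback]
  exact pullback.lift_fst _ _ _

theorem appTop_comp_apply {X Y Z : Scheme.{u}} (f : X ⟶ Y) (g : Y ⟶ Z) (z : Γ(Z, ⊤)) :
    (f ≫ g).appTop z = f.appTop (g.appTop z) := by
  rw [Scheme.Hom.comp_appTop]; rfl

theorem specMap_appTop_coordIso_inv {R : CommRingCat.{u}} (φ : CommRingCat.of Coord.{u} ⟶ R) (c : Coord.{u}) :
    (Spec.map φ).appTop (coordIso.inv c) = (Scheme.ΓSpecIso R).inv (φ c) := by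
  have h := congrArg (fun ψ => (ConcreteCategory.hom ψ) c) (Scheme.ΓSpecIso_inv_naturality φ)
  exact h.symm

def pairPt (t t' : T ⟶ Red.Ga S) : T.left ⟶ (GaZ ⊗ GaZ).left :=
  (lift t t').left ≫ (Functor.LaxMonoidal.μ (Over.pullback (toBaseZ S)) GaZ GaZ).left ≫
    pullback.fst (GaZ ⊗ GaZ).hom (toBaseZ S)

theorem specPt_mul (t t' : T ⟶ Red.Ga S) : specPt (t * t') = pairPt t t' ≫ μ[GaZ].left := by
  have h1 : t * t' = lift t t' ≫ μ[Red.Ga S] := Hom.mul_def t t'
  have h2 : μ[Red.Ga S] = Functor.LaxMonoidal.μ (Over.pullback (toBaseZ S)) GaZ GaZ ≫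
      (Over.pullback (toBaseZ S)).map μ[GaZ] := rfl
  have h3 := pullback_map_left_fst (S := S) μ[GaZ]
  rw [specPt, pairPt, h1, h2, Over.comp_left, Over.comp_left]
  simp only [Category.assoc]
  exact _ ≫= (_ ≫= h3)

theorem pairPt_fst (t t' : T ⟶ Red.Ga S) : pairPt t t' ≫ pullback.fst GaZ.hom GaZ.hom = specPt t := by
  rw [pairPt, Category.assoc, Category.assoc, Over.μ_pullback_left_fst_fst, ← Category.assoc]
  congr 1
  rw [← Over.fst_left, ← Over.comp_left, lift_fst]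

theorem pairPt_snd (t t' : T ⟶ Red.Ga S) : pairPt t t' ≫ pullback.snd GaZ.hom GaZ.hom = specPt t' := by
  rw [pairPt, Category.assoc, Category.assoc, Over.μ_pullback_left_fst_snd, ← Category.assoc]
  congr 1
  rw [← Over.snd_left, ← Over.comp_left, lift_snd]

theorem mul_appTop_gen : μ[GaZ].left.appTop (coordIso.inv gen.{u}) =
    (pullback.fst GaZ.hom GaZ.hom).appTop (coordIso.inv gen) +
      (pullback.snd GaZ.hom GaZ.hom).appTop (coordIso.inv gen) := by
  let CC : Type u := @TensorProduct (ULift.{u} ℤ) _ Coord.{u} Coord.{u} _ _ Algebra.toModule Algebra.toModule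
  let iL : Coord.{u} →+* CC := Algebra.TensorProduct.includeLeftRingHom
  let iR : Coord.{u} →+* CC :=
    ((Algebra.TensorProduct.includeRight (R := ULift.{u} ℤ) (A := Coord.{u}) (B := Coord.{u}) :
      Coord.{u} →ₐ[ULift.{u} ℤ] CC) : Coord.{u} →+* CC)
  let fC : Spec (CommRingCat.of Coord.{u}) ⟶ baseZ.{u} :=
    Spec.map (CommRingCat.ofHom (algebraMap (ULift.{u} ℤ) Coord.{u}))
  let psi := pullbackSpecIso (ULift.{u} ℤ) Coord.{u} Coord.{u}
  have hfst : pullback.fst fC fC = psi.hom ≫ Spec.map (CommRingCat.ofHom (R := Coord.{u}) (S := CC) iL) := by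
    rw [← pullbackSpecIso_inv_fst, Iso.hom_inv_id_assoc]
  have hsnd : pullback.snd fC fC = psi.hom ≫ Spec.map (CommRingCat.ofHom (R := Coord.{u}) (S := CC) iR) := by
    rw [← pullbackSpecIso_inv_snd, Iso.hom_inv_id_assoc]
  have hc : (CommRingCat.ofHom (R := Coord.{u}) (S := CC) (Bialgebra.comulAlgHom (ULift.{u} ℤ) Coord.{u}).toRingHom) gen.{u} =
      (CommRingCat.ofHom (R := Coord.{u}) (S := CC) iL) gen.{u} +
        (CommRingCat.ofHom (R := Coord.{u}) (S := CC) iR) gen.{u} := by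
    exact SymmetricAlgebra.comul_ι _ _ _
  change (psi.hom ≫ Spec.map (CommRingCat.ofHom (R := Coord.{u}) (S := CC) (Bialgebra.comulAlgHom (ULift.{u} ℤ) Coord.{u}).toRingHom)).appTop
      (coordIso.inv gen) =
    (pullback.fst fC fC).appTop (coordIso.inv gen) + (pullback.snd fC fC).appTop (coordIso.inv gen)
  rw [hfst, hsnd, appTop_comp_apply, appTop_comp_apply, appTop_comp_apply,
    specMap_appTop_coordIso_inv, specMap_appTop_coordIso_inv, specMap_appTop_coordIso_inv, hc, map_add, map_add]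

/-- `Red.gaFn` is additive. -/
theorem gaFn_mul (t t' : T ⟶ Red.Ga S) : Red.gaFn (t * t') = Red.gaFn t + Red.gaFn t' := by
  have e1 : Red.gaFn (t * t') = (pairPt t t').appTop (μ[GaZ].left.appTop (coordIso.inv gen)) := by
    change (specPt (t * t')).appTop (coordIso.inv gen) = _
    rw [specPt_mul]
    exact appTop_comp_apply _ _ _
  rw [e1, mul_appTop_gen, map_add, ← appTop_comp_apply, ← appTop_comp_apply, pairPt_fst, pairPt_snd]
  rfl

/-- Points of the additive group over `T` ≃ global functions (multiplicative-to-additive). -/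
def equiv (T : Over S) : (T ⟶ Red.Ga S) ≃* Multiplicative (Γ(T.left, ⊤)) where
  toFun t := Multiplicative.ofAdd (Red.gaFn t)
  invFun a := ptOfElt (Multiplicative.toAdd a)
  left_inv := ptOfElt_gaFn
  right_inv a := congrArg Multiplicative.ofAdd (gaFn_ptOfElt (Multiplicative.toAdd a))
  map_mul' t t' := congrArg Multiplicative.ofAdd (gaFn_mul t t')

theorem gaFn_one : Red.gaFn (1 : T ⟶ Red.Ga S) = 0 :=
  congrArg Multiplicative.toAdd (map_one (equiv T))

theorem gaFn_inv (t : T ⟶ Red.Ga S) : Red.gaFn t⁻¹ = - Red.gaFn t :=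
  congrArg Multiplicative.toAdd (map_inv (equiv T) t)

theorem ptOfElt_add (a b : Γ(T.left, ⊤)) : (ptOfElt (a + b) : T ⟶ Red.Ga S) = ptOfElt a * ptOfElt b := by
  apply gaFn_injective
  change Red.gaFn (ptOfElt (a + b)) = Red.gaFn (ptOfElt a * ptOfElt b)
  rw [gaFn_mul, gaFn_ptOfElt, gaFn_ptOfElt, gaFn_ptOfElt]

theorem ptOfElt_zero : (ptOfElt (0 : Γ(T.left, ⊤)) : T ⟶ Red.Ga S) = 1 := by
  apply gaFn_injective
  change Red.gaFn (ptOfElt 0) = Red.gaFn (1 : T ⟶ Red.Ga S)
  rw [gaFn_one, gaFn_ptOfElt]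

theorem ptOfElt_neg (a : Γ(T.left, ⊤)) : (ptOfElt (-a) : T ⟶ Red.Ga S) = (ptOfElt a)⁻¹ := by
  apply gaFn_injective
  change Red.gaFn (ptOfElt (-a)) = Red.gaFn (ptOfElt a)⁻¹
  rw [gaFn_inv, gaFn_ptOfElt, gaFn_ptOfElt]

end Groth.Agent.Lib.helper27.GaPts
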