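import Mathlib
import Groth.Prelude.Def_W4c5stacksedinertiaGpd

/-!
# Inertia operators on the rational vector space of finite groups (helper27)

Library for S18021–S18025.
-/

set_option autoImplicit false

namespace Groth.Agent.Lib.helper27.InertiaLib

open W4c5stacksedinertia

/-- the canonical iso of the presentation of a finite group with the group -/
noncomputable def finGrpOfEquiv (G : Type) [Group G] [Finite G] : (FinGrp.of G).carrier ≃* G :=
  let e := (Nat.equivFinOfCardPos (α := G) Nat.card_pos.ne').symm
  letI : Mul (Fin (Nat.card G)) := e.mul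
  e.mulEquiv

theorem idxOf_eq_of_mulEquiv {G H : Type} [Group G] [Finite G] [Group H] [Finite H] (e : G ≃* H) :
    Idx.of G = Idx.of H := by
  apply Quotient.sound
  exact ⟨(finGrpOfEquiv G).trans (e.trans (finGrpOfEquiv H).symm)⟩

theorem cl_eq_of_mulEquiv {G H : Type} [Group G] [Finite G] [Group H] [Finite H] (e : G ≃* H) :
    cl G = cl H := by
  unfold cl
  rw [idxOf_eq_of_mulEquiv e]

/-- the representative of the class of `G` is isomorphic to `G` -/
theorem nonempty_rep_equiv (G : Type) [Group G] [Finite G] : Nonempty ((Idx.of G).rep ≃* G) := by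
  have h : Quotient.mk FinGrp.setoid (Quotient.out (s := FinGrp.setoid) (Idx.of G)) =
      Quotient.mk FinGrp.setoid (FinGrp.of G) := Quotient.out_eq _
  obtain ⟨e⟩ := Quotient.exact h
  exact ⟨e.trans (finGrpOfEquiv G)⟩

theorem idxOf_rep (i : Idx) : Idx.of i.rep = i := by
  have : Quotient.mk FinGrp.setoid (FinGrp.of i.rep) =
      Quotient.mk FinGrp.setoid (Quotient.out (s := FinGrp.setoid) i) :=
    Quotient.sound ⟨finGrpOfEquiv i.rep⟩
  exact this.trans (Quotient.out_eq _)

theorem single_eq_cl (i : Idx) : (Finsupp.single i 1 : K) = cl i.rep := by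
  unfold cl
  rw [idxOf_rep]

theorem card_idxOf (G : Type) [Group G] [Finite G] : (Idx.of G).card = Nat.card G := by
  obtain ⟨e⟩ := nonempty_rep_equiv G
  exact Nat.card_congr e.toEquiv

theorem centerCard_idxOf (G : Type) [Group G] [Finite G] :
    (Idx.of G).centerCard = Nat.card (Subgroup.center G) := by
  obtain ⟨e⟩ := nonempty_rep_equiv G
  exact Nat.card_congr (Subgroup.centerCongr e).toEquiv

/-! ### centralizers under isomorphisms -/

theorem map_centralizer_equiv {G H : Type} [Group G] [Group H] (e : G ≃* H) (S : Set G) :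
    (Subgroup.centralizer S).map e.toMonoidHom = Subgroup.centralizer (e '' S) := by
  ext x
  rw [Subgroup.mem_map_equiv, Subgroup.mem_centralizer_iff, Subgroup.mem_centralizer_iff]
  constructor
  · rintro h _ ⟨y, hy, rfl⟩
    have := congrArg e (h y hy)
    simpa using this
  · intro h y hy
    have := h (e y) ⟨y, hy, rfl⟩
    apply e.injective
    simpa using this

/-- the centralizer of the image of `S` under an isomorphism is isomorphic to the centralizer of `S` -/
noncomputable def centralizerImageEquiv {G H : Type} [Group G] [Group H] (e : G ≃* H) (S : Set G) :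
    Subgroup.centralizer S ≃* Subgroup.centralizer (e '' S) :=
  (e.subgroupMap (Subgroup.centralizer S)).trans (MulEquiv.subgroupCongr (map_centralizer_equiv e S))

/-- weight of a subset: `|C(S)| • [C(S)]` -/
noncomputable def wt (G : Type) [Group G] [Finite G] (S : Set G) : K :=
  (Nat.card (Subgroup.centralizer S) : ℚ) • cl (Subgroup.centralizer S)

theorem wt_image {G H : Type} [Group G] [Finite G] [Group H] [Finite H] (e : G ≃* H) (S : Set G) :
    wt H (e '' S) = wt G S := by
  unfold wt
  rw [cl_eq_of_mulEquiv (centralizerImageEquiv e S), Nat.card_congr (centralizerImageEquiv e S).toEquiv]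

section avg

variable {G : Type} [Group G] {r : ℕ}

/-- conjugation on commuting tuples -/
def conjT (g : G) (s : CommTuple G r) : CommTuple G r :=
  ⟨fun i => MulAut.conj g (s.1 i), fun _ _ h => s.2.1 ((MulAut.conj g).injective h),
    fun i j => (s.2.2 i j).map (MulAut.conj g)⟩

theorem conjT_val (g : G) (s : CommTuple G r) (i : Fin r) : (conjT g s).1 i = g * s.1 i * g⁻¹ := rfl

theorem conjT_mul (g h : G) (s : CommTuple G r) : conjT (g * h) s = conjT g (conjT h s) := by
  apply Subtype.ext
  funext i
  simp [conjT_val, mul_assoc]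

theorem conjT_eq_self_iff (g : G) (s : CommTuple G r) :
    conjT g s = s ↔ g ∈ Subgroup.centralizer (Set.range s.1) := by
  rw [Subgroup.mem_centralizer_iff]
  constructor
  · rintro h _ ⟨i, rfl⟩
    have := congrFun (congrArg Subtype.val h) i
    rw [conjT_val] at this
    calc s.1 i * g = (g * s.1 i * g⁻¹) * g := by rw [this]
      _ = g * s.1 i := by group
  · intro h
    apply Subtype.ext
    funext i
    rw [conjT_val, ← h _ ⟨i, rfl⟩]
    simp

theorem range_conjT (g : G) (s : CommTuple G r) :
    Set.range (conjT g s).1 = (MulAut.conj g) '' Set.range s.1 := by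
  rw [← Set.range_comp]
  rfl

theorem rel_iff (s t : CommTuple G r) : (CommTuple.setoid G r).r s t ↔ ∃ g, conjT g s = t := by
  constructor
  · rintro ⟨g, hg⟩
    exact ⟨g, Subtype.ext (funext fun i => hg i)⟩
  · rintro ⟨g, rfl⟩
    exact ⟨g, fun i => rfl⟩

variable [Finite G]

theorem wt_conjT (g : G) (s : CommTuple G r) :
    wt G (Set.range (conjT g s).1) = wt G (Set.range s.1) := by
  rw [range_conjT, wt_image]

theorem cl_conjT (g : G) (s : CommTuple G r) :
    cl (Subgroup.centralizer (Set.range (conjT g s).1)) = cl (Subgroup.centralizer (Set.range s.1)) := by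
  rw [range_conjT]
  exact (cl_eq_of_mulEquiv (centralizerImageEquiv (MulAut.conj g) _)).symm

instance : Finite (CommTuple G r) :=
  inferInstanceAs (Finite { s : Fin r → G // Function.Injective s ∧ ∀ i j, Commute (s i) (s j) })

instance : Finite (CommTuple.Orbit G r) :=
  inferInstanceAs (Finite (Quotient (CommTuple.setoid G r)))

/-- the averaged form of the inertia operator -/
theorem card_smul_inertiaROf (r : ℕ) (G : Type) [Group G] [Finite G] :
    (Nat.card G : ℚ) • inertiaROf r G = ∑ᶠ s : CommTuple G r, wt G (Set.range s.1) := by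
  classical
  have := Fintype.ofFinite G
  have := Fintype.ofFinite (CommTuple G r)
  have := Fintype.ofFinite (CommTuple.Orbit G r)
  unfold inertiaROf
  rw [finsum_eq_sum_of_fintype, finsum_eq_sum_of_fintype]
  set F : CommTuple.Orbit G r → K := fun O =>
    cl (Subgroup.centralizer (Set.range (Quotient.out (s := CommTuple.setoid G r) O).1)) with hF
  let Ψ : G × CommTuple.Orbit G r → CommTuple G r :=
    fun p => conjT p.1 (Quotient.out (s := CommTuple.setoid G r) p.2)
  have hΨ : ∀ p, Quotient.mk (CommTuple.setoid G r) (Ψ p) = p.2 := by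
    intro p
    conv_rhs => rw [← Quotient.out_eq p.2]
    apply Quotient.sound
    exact (CommTuple.setoid G r).symm ((rel_iff _ _).mpr ⟨p.1, rfl⟩)
  have hwt : ∀ s : CommTuple G r, wt G (Set.range s.1) =
      (Nat.card (Subgroup.centralizer (Set.range s.1)) : ℚ) • F (Quotient.mk (CommTuple.setoid G r) s) := by
    intro s
    have : (CommTuple.setoid G r).r (Quotient.out (s := CommTuple.setoid G r) (Quotient.mk (CommTuple.setoid G r) s)) s :=
      Quotient.exact (Quotient.out_eq _)
    obtain ⟨g, hg⟩ := (rel_iff _ _).mp this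
    rw [hF]
    simp only
    rw [← cl_conjT g, hg]
    rfl
  have hfib : ∀ s : CommTuple G r, Fintype.card {p // Ψ p = s} =
      Nat.card (Subgroup.centralizer (Set.range s.1)) := by
    intro s
    have : (CommTuple.setoid G r).r (Quotient.out (s := CommTuple.setoid G r) (Quotient.mk (CommTuple.setoid G r) s)) s :=
      Quotient.exact (Quotient.out_eq _)
    obtain ⟨h, hh⟩ := (rel_iff _ _).mp this
    rw [← Nat.card_eq_fintype_card]
    apply Nat.card_congr
    refine ⟨fun p => ⟨p.1.1 * h⁻¹, ?_⟩, fun c => ⟨(c.1 * h, Quotient.mk (CommTuple.setoid G r) s), ?_⟩, ?_, ?_⟩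
    · rw [← conjT_eq_self_iff]
      have h1 : p.1.2 = Quotient.mk (CommTuple.setoid G r) s := by rw [← hΨ p.1, p.2]
      have h2 := p.2
      simp only [Ψ] at h2
      rw [h1] at h2
      have h3 : conjT h⁻¹ s = Quotient.out (s := CommTuple.setoid G r) (Quotient.mk (CommTuple.setoid G r) s) := by
        calc conjT h⁻¹ s = conjT h⁻¹ (conjT h (Quotient.out (s := CommTuple.setoid G r)
              (Quotient.mk (CommTuple.setoid G r) s))) := by rw [hh]
          _ = _ := by
            rw [← conjT_mul, inv_mul_cancel]
            apply Subtype.ext; funext i; simp [conjT_val]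
      rw [conjT_mul, h3, h2]
    · simp only [Ψ]
      rw [conjT_mul, hh]
      exact (conjT_eq_self_iff _ _).mpr c.2
    · intro p
      apply Subtype.ext
      have h1 : p.1.2 = Quotient.mk (CommTuple.setoid G r) s := by rw [← hΨ p.1, p.2]
      apply Prod.ext
      · simp
      · exact h1.symm
    · intro c
      apply Subtype.ext
      simp
  calc (Nat.card G : ℚ) • ∑ O, F O = ∑ p : G × CommTuple.Orbit G r, F p.2 := by
        rw [Fintype.sum_prod_type]
        simp only [Finset.sum_const, Finset.card_univ]
        rw [Nat.card_eq_fintype_card, Nat.cast_smul_eq_nsmul]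
    _ = ∑ p : G × CommTuple.Orbit G r, F (Quotient.mk (CommTuple.setoid G r) (Ψ p)) := by
        simp only [hΨ]
    _ = ∑ s : CommTuple G r, ∑ _p : {p // Ψ p = s}, F (Quotient.mk (CommTuple.setoid G r) s) :=
        (Fintype.sum_fiberwise' Ψ (fun s => F (Quotient.mk (CommTuple.setoid G r) s))).symm
    _ = ∑ s : CommTuple G r, wt G (Set.range s.1) := by
        refine Finset.sum_congr rfl fun s _ => ?_
        rw [Finset.sum_const, Finset.card_univ, hfib, hwt, Nat.cast_smul_eq_nsmul]

end avg

/-- `s` is a tuple of pairwise distinct pairwise commuting elements -/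
def IsCT {G : Type} [Group G] {r : ℕ} (s : Fin r → G) : Prop :=
  Function.Injective s ∧ ∀ i j, Commute (s i) (s j)

theorem finsum_subtype_eq_sum_ite {α M : Type*} [Fintype α] [AddCommMonoid M] (p : α → Prop)
    [DecidablePred p] (f : α → M) :
    ∑ᶠ x : {x // p x}, f x.1 = ∑ x, if p x then f x else 0 := by
  rw [finsum_eq_sum_of_fintype, ← Finset.sum_filter]
  exact (Finset.sum_subtype (Finset.univ.filter p) (by simp) f).symm

open Classical in
/-- the averaged form of the inertia operator, as a sum over all functions -/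
theorem card_smul_inertiaROf' (r : ℕ) (G : Type) [Group G] [Fintype G] :
    (Nat.card G : ℚ) • inertiaROf r G =
      ∑ s : Fin r → G, if IsCT s then wt G (Set.range s) else 0 := by
  rw [card_smul_inertiaROf]
  exact finsum_subtype_eq_sum_ite (fun s : Fin r → G => IsCT s) (fun s => wt G (Set.range s))

theorem isCT_comp_equiv {G H : Type} [Group G] [Group H] (e : G ≃* H) {r : ℕ} (s : Fin r → G) :
    IsCT (e ∘ s) ↔ IsCT s := by
  unfold IsCT
  rw [e.injective.of_comp_iff]
  refine and_congr Iff.rfl (forall_congr' fun i => forall_congr' fun j => ?_)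
  simp only [Function.comp_apply, commute_iff_eq, ← map_mul, e.injective.eq_iff]

theorem inertiaROf_congr {G H : Type} [Group G] [Finite G] [Group H] [Finite H] (e : G ≃* H) (r : ℕ) :
    inertiaROf r G = inertiaROf r H := by
  classical
  have := Fintype.ofFinite G
  have := Fintype.ofFinite H
  have h1 := card_smul_inertiaROf' r G
  have h2 := card_smul_inertiaROf' r H
  have h3 : (∑ s : Fin r → G, if IsCT s then wt G (Set.range s) else 0) =
      ∑ t : Fin r → H, if IsCT t then wt H (Set.range t) else 0 := by
    refine Fintype.sum_equiv (Equiv.arrowCongr (Equiv.refl _) e.toEquiv) _ _ (fun s => ?_)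
    have hs : (Equiv.arrowCongr (Equiv.refl (Fin r)) e.toEquiv) s = e ∘ s := rfl
    rw [hs]
    have hr : Set.range (e ∘ s) = e '' Set.range s := Set.range_comp _ _
    rw [hr, wt_image]
    simp only [isCT_comp_equiv]
  have hc : Nat.card G = Nat.card H := Nat.card_congr e.toEquiv
  have hne : (Nat.card G : ℚ) ≠ 0 := by
    have : 0 < Nat.card G := Nat.card_pos
    positivity
  rw [← h3, ← h1, ← hc] at h2
  exact (smul_right_injective K hne h2).symm

theorem inertiaR_cl (r : ℕ) (G : Type) [Group G] [Finite G] : inertiaR r (cl G) = inertiaROf r G := by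
  unfold cl inertiaR
  rw [Finsupp.linearCombination_single, one_smul]
  obtain ⟨e⟩ := nonempty_rep_equiv G
  exact inertiaROf_congr e r

theorem sum_subtype_eq_sum_ite {α M : Type*} [Fintype α] [AddCommMonoid M] (p : α → Prop)
    [DecidablePred p] [Fintype {x // p x}] (f : α → M) :
    ∑ x : {x // p x}, f x.1 = ∑ x, if p x then f x else 0 := by
  rw [← finsum_eq_sum_of_fintype]
  exact finsum_subtype_eq_sum_ite p f

open Classical in
/-- the averaged inertia for `r = 1` -/
theorem card_smul_inertiaROf_one (H : Type) [Group H] [Fintype H] :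
    (Nat.card H : ℚ) • inertiaROf 1 H = ∑ h : H, wt H {h} := by
  rw [card_smul_inertiaROf']
  refine Fintype.sum_equiv (Equiv.funUnique (Fin 1) H) _ _ (fun t => ?_)
  have h1 : IsCT t := by
    refine ⟨fun i j _ => Subsingleton.elim i j, fun i j => ?_⟩
    rw [Subsingleton.elim i j]
  rw [if_pos h1]
  congr 1
  ext x
  simp only [Set.mem_range, Equiv.funUnique_apply, Set.mem_singleton_iff]
  constructor
  · rintro ⟨i, rfl⟩
    rw [Subsingleton.elim i default]
  · rintro rfl
    exact ⟨default, rfl⟩

/-- centralizer of an element of a centralizer, inside that centralizer -/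
noncomputable def centralizerCentralizerEquiv {G : Type} [Group G] (S : Set G)
    (h : Subgroup.centralizer S) :
    Subgroup.centralizer ({h} : Set (Subgroup.centralizer S)) ≃*
      Subgroup.centralizer (insert (h : G) S) where
  toFun x := ⟨x.1.1, by
    rw [Subgroup.mem_centralizer_iff]
    intro y hy
    rcases hy with rfl | hy
    · have := Subgroup.mem_centralizer_iff.mp x.2 h rfl
      exact congrArg Subtype.val this
    · exact Subgroup.mem_centralizer_iff.mp x.1.2 y hy⟩
  invFun y := ⟨⟨y.1, Subgroup.centralizer_le (Set.subset_insert _ _) y.2⟩, by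
    rw [Subgroup.mem_centralizer_iff]
    intro z hz
    rw [Set.mem_singleton_iff] at hz
    subst hz
    apply Subtype.ext
    exact Subgroup.mem_centralizer_iff.mp y.2 _ (Set.mem_insert _ _)⟩
  left_inv x := rfl
  right_inv y := rfl
  map_mul' x y := rfl

theorem wt_centralizer_singleton {G : Type} [Group G] [Finite G] (S : Set G)
    (h : Subgroup.centralizer S) :
    wt (Subgroup.centralizer S) {h} = wt G (insert (h : G) S) := by
  unfold wt
  rw [cl_eq_of_mulEquiv (centralizerCentralizerEquiv S h),
    Nat.card_congr (centralizerCentralizerEquiv S h).toEquiv]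

open Classical in
theorem inertia_wt {G : Type} [Group G] [Fintype G] (S : Set G) :
    inertia (wt G S) = ∑ g : G, if g ∈ Subgroup.centralizer S then wt G (insert g S) else 0 := by
  have := Fintype.ofFinite (Subgroup.centralizer S)
  unfold wt
  rw [map_smul]
  change _ • inertiaR 1 _ = _
  rw [inertiaR_cl, card_smul_inertiaROf_one]
  simp only [wt_centralizer_singleton]
  exact sum_subtype_eq_sum_ite (fun g => g ∈ Subgroup.centralizer S) (fun g => wt G (insert g S))

theorem isCT_cons {G : Type} [Group G] {r : ℕ} (g : G) (s : Fin r → G) :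
    IsCT (Fin.cons g s : Fin (r + 1) → G) ↔
      IsCT s ∧ g ∈ Subgroup.centralizer (Set.range s) ∧ g ∉ Set.range s := by
  unfold IsCT
  rw [Fin.cons_injective_iff, Subgroup.mem_centralizer_iff]
  simp only [Fin.forall_fin_succ, Fin.cons_zero, Fin.cons_succ, Commute.refl, true_and,
    Set.forall_mem_range]
  constructor
  · rintro ⟨⟨h1, h2⟩, h3, h4⟩
    exact ⟨⟨h2, fun i j => (h4 i).2 j⟩, fun i => ((h3 i).eq).symm, h1⟩
  · rintro ⟨⟨h2, h4⟩, h3, h1⟩
    exact ⟨⟨h1, h2⟩, fun i => (h3 i).symm, fun i => ⟨h3 i, h4 i⟩⟩

open Classical in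
/-- the key identity `I ∘ I_r = I_{r+1} + r I_r` on basis vectors -/
theorem key_identity (r : ℕ) (G : Type) [Group G] [Fintype G] :
    inertia (inertiaROf r G) = inertiaROf (r + 1) G + (r : ℚ) • inertiaROf r G := by
  have hne : (Nat.card G : ℚ) ≠ 0 := by
    have : 0 < Nat.card G := Nat.card_pos
    positivity
  apply smul_right_injective K hne
  simp only
  rw [← map_smul, smul_add, smul_comm, card_smul_inertiaROf', card_smul_inertiaROf', map_sum]
  have hsplit : ∀ s : Fin r → G, inertia (if IsCT s then wt G (Set.range s) else 0) =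
      (∑ g : G, if IsCT (Fin.cons g s : Fin (r + 1) → G) then
        wt G (Set.range (Fin.cons g s : Fin (r + 1) → G)) else 0) +
      (r : ℚ) • (if IsCT s then wt G (Set.range s) else 0) := by
    intro s
    split_ifs with hs
    · rw [inertia_wt]
      have : ∀ g : G, (if g ∈ Subgroup.centralizer (Set.range s) then wt G (insert g (Set.range s)) else 0) =
          (if IsCT (Fin.cons g s : Fin (r + 1) → G) then
            wt G (Set.range (Fin.cons g s : Fin (r + 1) → G)) else 0) +
          (if g ∈ Set.range s then wt G (Set.range s) else 0) := by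
        intro g
        rw [isCT_cons, Fin.range_cons]
        by_cases hg : g ∈ Set.range s
        · have hgC : g ∈ Subgroup.centralizer (Set.range s) := by
            obtain ⟨i, rfl⟩ := hg
            rw [Subgroup.mem_centralizer_iff]
            rintro _ ⟨j, rfl⟩
            exact (hs.2 j i).eq
          simp [hg, hgC, Set.insert_eq_of_mem hg]
        · by_cases hgC : g ∈ Subgroup.centralizer (Set.range s) <;> simp [hg, hgC, hs]
      simp only [this, Finset.sum_add_distrib]
      congr 1
      rw [← Finset.sum_filter, Finset.sum_const]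
      have : (Finset.univ.filter (fun g => g ∈ Set.range s)) = Finset.univ.image s := by
        ext; simp [eq_comm]
      rw [this, Finset.card_image_of_injective _ hs.1, Finset.card_univ, Fintype.card_fin,
        Nat.cast_smul_eq_nsmul]
    · simp [isCT_cons, hs]
  simp only [hsplit, Finset.sum_add_distrib, ← Finset.smul_sum]
  congr 1
  rw [← Fintype.sum_prod_type_right (fun p : G × (Fin r → G) =>
    if IsCT (Fin.cons p.1 p.2 : Fin (r + 1) → G) then
      wt G (Set.range (Fin.cons p.1 p.2 : Fin (r + 1) → G)) else 0)]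
  exact Fintype.sum_equiv (Fin.consEquiv (fun _ => G)) _ _ (fun p => rfl)

/-! ### filtrations -/

theorem cl_mem_Kle {G : Type} [Group G] [Finite G] {n : ℕ} (h : Nat.card G ≤ n) : cl G ∈ Kle n := by
  unfold cl Kle
  apply Finsupp.single_mem_supported
  change (Idx.of G).card ≤ n
  rwa [card_idxOf]

theorem cl_mem_Kge {G : Type} [Group G] [Finite G] {k : ℕ} (h : k ≤ Nat.card (Subgroup.center G)) :
    cl G ∈ Kge k := by
  unfold cl Kge
  apply Finsupp.single_mem_supported
  change k ≤ (Idx.of G).centerCard
  rwa [centerCard_idxOf]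

theorem card_pos_ne (G : Type) [Group G] [Finite G] : (Nat.card G : ℚ) ≠ 0 := by
  have : 0 < Nat.card G := Nat.card_pos
  positivity

theorem wt_of_subset_center {G : Type} [Group G] [Finite G] {S : Set G}
    (h : S ⊆ Subgroup.center G) : wt G S = (Nat.card G : ℚ) • cl G := by
  unfold wt
  have h1 : Subgroup.centralizer S = ⊤ := Subgroup.centralizer_eq_top_iff_subset.mpr h
  have e : Subgroup.centralizer S ≃* G := (MulEquiv.subgroupCongr h1).trans Subgroup.topEquiv
  rw [cl_eq_of_mulEquiv e, Nat.card_congr e.toEquiv]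

theorem wt_mem_Kle {G : Type} [Group G] [Finite G] {n : ℕ} (h : Nat.card G ≤ n) (S : Set G) :
    wt G S ∈ Kle n := by
  unfold wt
  exact Submodule.smul_mem _ _ (cl_mem_Kle ((Subgroup.card_le_card_group _).trans h))

theorem inertiaROf_zero (G : Type) [Group G] [Finite G] : inertiaROf 0 G = cl G := by
  classical
  have := Fintype.ofFinite G
  apply smul_right_injective K (card_pos_ne G)
  simp only
  rw [card_smul_inertiaROf', Fintype.sum_unique]
  have h1 : IsCT (default : Fin 0 → G) := ⟨fun i => i.elim0, fun i => i.elim0⟩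
  rw [if_pos h1]
  apply wt_of_subset_center
  rintro _ ⟨i, _⟩
  exact i.elim0

theorem inertiaROf_eq_zero_of_card_lt {G : Type} [Group G] [Finite G] {r : ℕ} (h : Nat.card G < r) :
    inertiaROf r G = 0 := by
  classical
  have := Fintype.ofFinite G
  apply smul_right_injective K (card_pos_ne G)
  simp only
  rw [card_smul_inertiaROf', smul_zero]
  refine Finset.sum_eq_zero fun s _ => ?_
  rw [if_neg]
  intro hs
  have := Fintype.card_le_of_injective s hs.1
  rw [Fintype.card_fin, ← Nat.card_eq_fintype_card] at this
  omega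

theorem inertiaROf_mem_Kle {G : Type} [Group G] [Finite G] {n : ℕ} (h : Nat.card G ≤ n) (r : ℕ) :
    inertiaROf r G ∈ Kle n := by
  classical
  have := Fintype.ofFinite G
  rw [← Submodule.smul_mem_iff _ (card_pos_ne G), card_smul_inertiaROf']
  refine Submodule.sum_mem _ fun s _ => ?_
  split_ifs
  · exact wt_mem_Kle h _
  · exact Submodule.zero_mem _

/-- a non-central commuting tuple has a centralizer with bigger centre -/
theorem wt_mem_Kge_of_not_subset_center {G : Type} [Group G] [Finite G] {r : ℕ} (s : Fin r → G)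
    (hs : IsCT s) (hns : ¬ Set.range s ⊆ Subgroup.center G) :
    wt G (Set.range s) ∈ Kge (Nat.card (Subgroup.center G) + 1) := by
  unfold wt
  apply Submodule.smul_mem
  apply cl_mem_Kge
  set H := Subgroup.centralizer (Set.range s) with hH
  rw [← Subgroup.card_subtype H (Subgroup.center H)]
  set W := (Subgroup.center H).map H.subtype with hW
  have hsub : (Subgroup.center G : Set G) ⊆ (W : Set G) := by
    intro x hx
    have hxH : x ∈ H := Subgroup.center_le_centralizer _ hx
    refine ⟨⟨x, hxH⟩, ?_, rfl⟩
    rw [SetLike.mem_coe, Subgroup.mem_center_iff]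
    intro g
    apply Subtype.ext
    exact Subgroup.mem_center_iff.mp hx g.1
  obtain ⟨y, hy, hyc⟩ := Set.not_subset.mp hns
  obtain ⟨i, rfl⟩ := hy
  have hsiH : s i ∈ H := by
    rw [hH, Subgroup.mem_centralizer_iff]
    rintro _ ⟨j, rfl⟩
    exact (hs.2 j i).eq
  have hsiW : s i ∈ (W : Set G) := by
    refine ⟨⟨s i, hsiH⟩, ?_, rfl⟩
    rw [SetLike.mem_coe, Subgroup.mem_center_iff]
    intro g
    apply Subtype.ext
    exact (Subgroup.mem_centralizer_iff.mp g.2 (s i) ⟨i, rfl⟩).symm
  have hss : (Subgroup.center G : Set G) ⊂ (W : Set G) :=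
    ⟨hsub, fun h => hyc (h hsiW)⟩
  have := Set.ncard_lt_ncard hss (Set.toFinite _)
  rw [← Nat.card_coe_set_eq, ← Nat.card_coe_set_eq] at this
  exact this

open Classical in
theorem card_central_tuples (G : Type) [Group G] [Fintype G] (r : ℕ) :
    (Finset.univ.filter (fun s : Fin r → G => IsCT s ∧ Set.range s ⊆ Subgroup.center G)).card =
      (Nat.card (Subgroup.center G)).descFactorial r := by
  rw [← Fintype.card_subtype]
  have e : {s : Fin r → G // IsCT s ∧ Set.range s ⊆ Subgroup.center G} ≃
      (Fin r ↪ Subgroup.center G) :=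
    { toFun := fun s => ⟨fun i => ⟨s.1 i, s.2.2 ⟨i, rfl⟩⟩,
        fun i j h => s.2.1.1 (congrArg Subtype.val h)⟩
      invFun := fun f => ⟨fun i => (f i).1, ⟨fun i j h => f.injective (Subtype.ext h),
        fun i j => Subgroup.mem_center_iff.mp (f j).2 (f i).1⟩, by
          rintro _ ⟨i, rfl⟩; exact (f i).2⟩
      left_inv := fun s => rfl
      right_inv := fun f => rfl }
  rw [Fintype.card_congr e, Fintype.card_embedding_eq, Fintype.card_fin, Nat.card_eq_fintype_card]

open Classical in
/-- triangularity of `I_r` with respect to the centre filtration, on a basis vector -/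
theorem inertiaROf_sub_mem_Kge (r : ℕ) (G : Type) [Group G] [Finite G] :
    inertiaROf r G - ((Nat.card (Subgroup.center G)).descFactorial r : ℚ) • cl G ∈
      Kge (Nat.card (Subgroup.center G) + 1) := by
  have := Fintype.ofFinite G
  rw [← Submodule.smul_mem_iff _ (card_pos_ne G), smul_sub, card_smul_inertiaROf']
  have hsplit : ∀ s : Fin r → G, (if IsCT s then wt G (Set.range s) else 0) =
      (if IsCT s ∧ Set.range s ⊆ Subgroup.center G then (Nat.card G : ℚ) • cl G else 0) +
      (if IsCT s ∧ ¬ Set.range s ⊆ Subgroup.center G then wt G (Set.range s) else 0) := by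
    intro s
    by_cases h1 : IsCT s <;> by_cases h2 : Set.range s ⊆ Subgroup.center G <;>
      simp [h1, h2, wt_of_subset_center]
  simp only [hsplit, Finset.sum_add_distrib]
  rw [← Finset.sum_filter, Finset.sum_const, card_central_tuples]
  have : (Nat.card (Subgroup.center G)).descFactorial r • ((Nat.card G : ℚ) • cl G) =
      (Nat.card G : ℚ) • (((Nat.card (Subgroup.center G)).descFactorial r : ℚ) • cl G) := by
    rw [← Nat.cast_smul_eq_nsmul ℚ, smul_comm]
  rw [this, add_sub_cancel_left]
  refine Submodule.sum_mem _ fun s _ => ?_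
  split_ifs with h
  · exact wt_mem_Kge_of_not_subset_center s h.1 h.2
  · exact zero_mem _

theorem Kge_antitone {a b : ℕ} (h : a ≤ b) : Kge b ≤ Kge a := by
  unfold Kge
  apply Finsupp.supported_mono
  intro j hj
  exact le_trans h hj

/-- S18022 -/
theorem inertiaR_sub_smul_mem_Kge (r k : ℕ) (v : K) (hv : v ∈ Kge k) :
    inertiaR r v - ((Nat.factorial r * Nat.choose k r : ℕ) : ℚ) • v ∈ Kge (k + 1) := by
  rw [← Nat.descFactorial_eq_factorial_mul_choose]
  let T : K →ₗ[ℚ] K := inertiaR r - ((k.descFactorial r : ℕ) : ℚ) • LinearMap.id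
  change T v ∈ Kge (k + 1)
  have hle : Kge k ≤ (Kge (k + 1)).comap T := by
    unfold Kge
    rw [Finsupp.supported_eq_span_single, Submodule.span_le]
    rintro _ ⟨j, hj, rfl⟩
    change k ≤ j.centerCard at hj
    change T (Finsupp.single j 1) ∈ Kge (k + 1)
    simp only [T, LinearMap.sub_apply, LinearMap.smul_apply, LinearMap.id_apply]
    rw [single_eq_cl, inertiaR_cl]
    have h1 := inertiaROf_sub_mem_Kge r j.rep
    change inertiaROf r j.rep - ((j.centerCard.descFactorial r : ℕ) : ℚ) • cl j.rep ∈
      Kge (j.centerCard + 1) at h1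
    have h2 : inertiaROf r j.rep - ((k.descFactorial r : ℕ) : ℚ) • cl j.rep =
        (inertiaROf r j.rep - ((j.centerCard.descFactorial r : ℕ) : ℚ) • cl j.rep) +
        (((j.centerCard.descFactorial r : ℕ) : ℚ) - ((k.descFactorial r : ℕ) : ℚ)) • cl j.rep := by
      rw [sub_smul]; abel
    rw [h2]
    apply Submodule.add_mem
    · exact Kge_antitone (by omega) h1
    · rcases hj.eq_or_lt with h | h
      · rw [h, sub_self, zero_smul]
        exact zero_mem _
      · apply Submodule.smul_mem
        apply cl_mem_Kge
        exact h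
  exact hle hv

end Groth.Agent.Lib.helper27.InertiaLib
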