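import Mathlib
import Groth.Agent.Lib.helper27.Inertia

/-!
# Inertia operators: linear algebra part (helper27)
-/

set_option autoImplicit false

namespace Groth.Agent.Lib.helper27.InertiaLib

open W4c5stacksedinertia Polynomial

theorem inertiaR_zero : inertiaR 0 = LinearMap.id := by
  apply Finsupp.lhom_ext
  intro i b
  have : (Finsupp.single i b : K) = b • (Finsupp.single i 1 : K) := by
    rw [Finsupp.smul_single, smul_eq_mul, mul_one]
  rw [this, map_smul, map_smul, single_eq_cl, inertiaR_cl, inertiaROf_zero, LinearMap.id_apply]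

theorem inertiaR_succ (r : ℕ) :
    inertiaR (r + 1) = (inertia - (r : ℚ) • LinearMap.id) ∘ₗ inertiaR r := by
  apply Finsupp.lhom_ext
  intro i b
  have : (Finsupp.single i b : K) = b • (Finsupp.single i 1 : K) := by
    rw [Finsupp.smul_single, smul_eq_mul, mul_one]
  rw [this, map_smul, map_smul, single_eq_cl]
  congr 1
  rw [LinearMap.comp_apply, inertiaR_cl, inertiaR_cl, LinearMap.sub_apply, LinearMap.smul_apply,
    LinearMap.id_apply]
  have := Fintype.ofFinite i.rep
  rw [key_identity]
  abel

theorem inertiaR_eq_aeval (r : ℕ) : inertiaR r = aeval inertia (descPochhammer ℚ r) := by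
  induction r with
  | zero => rw [inertiaR_zero, descPochhammer_zero, map_one]; rfl
  | succ r ih =>
    rw [inertiaR_succ, ih, descPochhammer_succ_right, mul_comm, map_mul]
    congr 1
    rw [map_sub, aeval_X, map_natCast]
    congr 1

theorem isCoprime_X_sub_C {p : ℚ[X]} {a : ℚ} (h : p.eval a ≠ 0) : IsCoprime p (X - C a) := by
  rw [isCoprime_comm, (Polynomial.irreducible_X_sub_C a).coprime_iff_not_dvd, Polynomial.dvd_iff_isRoot]
  exact h

theorem ker_aeval_X_sub_C (f : Module.End ℚ K) (a : ℚ) :
    LinearMap.ker (aeval f (X - C a)) = Module.End.eigenspace f a := by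
  rw [Module.End.eigenspace_def, map_sub, aeval_X, aeval_C, Algebra.algebraMap_eq_smul_one]

theorem ker_aeval_descPochhammer (f : Module.End ℚ K) (r : ℕ) :
    LinearMap.ker (aeval f (descPochhammer ℚ r)) =
      ⨆ k ∈ Finset.range r, Module.End.eigenspace f (k : ℚ) := by
  induction r with
  | zero =>
    rw [descPochhammer_zero, map_one]
    simp
    rfl
  | succ r ih =>
    have hcop : IsCoprime (descPochhammer ℚ r) (X - C (r : ℚ)) := by
      apply isCoprime_X_sub_C
      rw [descPochhammer_eval_eq_descFactorial, Nat.descFactorial_self]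
      exact_mod_cast Nat.factorial_ne_zero r
    rw [descPochhammer_succ_right, ← Polynomial.C_eq_natCast,
      ← Polynomial.sup_ker_aeval_eq_ker_aeval_mul_of_coprime f hcop, ih, ker_aeval_X_sub_C,
      Finset.range_add_one, Finset.iSup_insert, sup_comm]

/-- S18024 -/
theorem ker_inertiaR (r : ℕ) :
    LinearMap.ker (inertiaR r) = ⨆ k ∈ Finset.range r, Module.End.eigenspace inertia (k : ℚ) := by
  rw [inertiaR_eq_aeval, ker_aeval_descPochhammer]

/-- S18023 -/
theorem eigenspace_inertia_le (k r : ℕ) :
    Module.End.eigenspace inertia (k : ℚ) ≤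
      Module.End.eigenspace (inertiaR r) ((Nat.factorial r * Nat.choose k r : ℕ) : ℚ) := by
  intro x hx
  rw [Module.End.mem_eigenspace_iff] at hx ⊢
  rw [inertiaR_eq_aeval, Module.End.aeval_apply_of_mem_apply_eq_smul hx,
    descPochhammer_eval_eq_descFactorial, Nat.descFactorial_eq_factorial_mul_choose]

end Groth.Agent.Lib.helper27.InertiaLib
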