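import Mathlib
import Groth.Agent.Lib.helper27.Inertia2

/-!
# Inertia operators: diagonalizability (helper27)
-/

set_option autoImplicit false

namespace Groth.Agent.Lib.helper27.InertiaLib

open W4c5stacksedinertia Polynomial

theorem exists_mem_Kle (v : K) : ∃ n, v ∈ Kle n := by
  refine ⟨v.support.sup Idx.card, ?_⟩
  unfold Kle
  rw [Finsupp.mem_supported]
  intro i hi
  exact Finset.le_sup (f := Idx.card) hi

theorem inertiaR_eq_zero_of_mem_Kle {n r : ℕ} (h : n < r) {v : K} (hv : v ∈ Kle n) :
    inertiaR r v = 0 := by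
  have hle : Kle n ≤ LinearMap.ker (inertiaR r) := by
    unfold Kle
    rw [Finsupp.supported_eq_span_single, Submodule.span_le]
    rintro _ ⟨j, hj, rfl⟩
    change j.card ≤ n at hj
    rw [SetLike.mem_coe, LinearMap.mem_ker]
    change inertiaR r (Finsupp.single j 1) = 0
    rw [single_eq_cl, inertiaR_cl]
    apply inertiaROf_eq_zero_of_card_lt
    change j.card < r
    omega
  exact hle hv

theorem mem_iSup_range_eigenspace {n : ℕ} {v : K} (hv : v ∈ Kle n) :
    v ∈ ⨆ k ∈ Finset.range (n + 1), Module.End.eigenspace inertia (k : ℚ) := by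
  rw [← ker_inertiaR, LinearMap.mem_ker]
  exact inertiaR_eq_zero_of_mem_Kle (Nat.lt_succ_self n) hv

theorem iSup_eigenspace_eq_top : (⨆ n : ℕ, Module.End.eigenspace inertia (n : ℚ)) = ⊤ := by
  rw [eq_top_iff]
  intro v _
  obtain ⟨n, hn⟩ := exists_mem_Kle v
  have := mem_iSup_range_eigenspace hn
  refine (iSup_le fun k => iSup_le fun _ => ?_ : (⨆ k ∈ Finset.range (n + 1),
    Module.End.eigenspace inertia (k : ℚ)) ≤ _) this
  exact le_iSup (fun n : ℕ => Module.End.eigenspace inertia (n : ℚ)) k

theorem centerCard_pos (j : Idx) : 0 < j.centerCard := by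
  unfold Idx.centerCard
  exact Nat.card_pos

theorem inertia_injective : LinearMap.ker inertia = ⊥ := by
  rw [LinearMap.ker_eq_bot']
  intro v hv
  by_contra hne
  have hsupp : v.support.Nonempty := Finsupp.support_nonempty_iff.mpr hne
  obtain ⟨j, hj, hmin⟩ := Finset.exists_min_image v.support Idx.centerCard hsupp
  set k := j.centerCard with hk
  have hvk : v ∈ Kge k := by
    unfold Kge
    rw [Finsupp.mem_supported]
    intro i hi
    exact hmin i hi
  have h1 := inertiaR_sub_smul_mem_Kge 1 k v hvk
  change inertia v - _ ∈ _ at h1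
  rw [hv, zero_sub, Nat.factorial_one, one_mul, Nat.choose_one_right] at h1
  have hkpos : (k : ℚ) ≠ 0 := by
    have := centerCard_pos j
    rw [← hk] at this
    positivity
  have h2 : v ∈ Kge (k + 1) := by
    have := (Kge (k + 1)).neg_mem h1
    rw [neg_neg] at this
    exact (Submodule.smul_mem_iff _ hkpos).mp this
  unfold Kge at h2
  rw [Finsupp.mem_supported] at h2
  have := h2 hj
  change k + 1 ≤ j.centerCard at this
  omega

theorem inertiaROf_one_of_comm (G : Type) [CommGroup G] [Finite G] :
    inertiaROf 1 G = (Nat.card G : ℚ) • cl G := by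
  have := Fintype.ofFinite G
  apply smul_right_injective K (card_pos_ne G)
  simp only
  rw [card_smul_inertiaROf_one]
  have : ∀ h : G, wt G {h} = (Nat.card G : ℚ) • cl G := by
    intro h
    apply wt_of_subset_center
    rw [CommGroup.center_eq_top]
    exact Set.subset_univ _
  simp only [this, Finset.sum_const, Finset.card_univ, Nat.card_eq_fintype_card,
    ← Nat.cast_smul_eq_nsmul ℚ]

theorem cl_ne_zero (G : Type) [Group G] [Finite G] : cl G ≠ 0 := by
  unfold cl
  exact Finsupp.single_ne_zero.mpr one_ne_zero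

theorem hasEigenvalue_inertia_iff (μ : ℚ) :
    Module.End.HasEigenvalue inertia μ ↔ ∃ n : ℕ, 0 < n ∧ μ = (n : ℚ) := by
  constructor
  · intro h
    obtain ⟨v, hv⟩ := h.exists_hasEigenvector
    have hv1 := Module.End.mem_eigenspace_iff.mp hv.1
    obtain ⟨n, hn⟩ := exists_mem_Kle v
    have h0 := inertiaR_eq_zero_of_mem_Kle (Nat.lt_succ_self n) hn
    rw [inertiaR_eq_aeval, Module.End.aeval_apply_of_mem_apply_eq_smul hv1] at h0
    have h1 : (descPochhammer ℚ (n + 1)).eval μ = 0 := by
      rcases smul_eq_zero.mp h0 with h | h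
      · exact h
      · exact absurd h hv.2
    rw [descPochhammer_eval_eq_prod_range, Finset.prod_eq_zero_iff] at h1
    obtain ⟨k, _, hk⟩ := h1
    refine ⟨k, ?_, by linarith⟩
    rcases Nat.eq_zero_or_pos k with h | h
    · exfalso
      subst h
      have hμ : μ = 0 := by simpa using hk
      rw [hμ, zero_smul] at hv1
      have : v ∈ LinearMap.ker inertia := LinearMap.mem_ker.mpr hv1
      rw [inertia_injective] at this
      exact hv.2 ((Submodule.mem_bot ℚ).mp this)
    · exact h
  · rintro ⟨n, hn, rfl⟩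
    have : NeZero n := ⟨hn.ne'⟩
    apply Module.End.hasEigenvalue_of_hasEigenvector (x := cl (Multiplicative (ZMod n)))
    refine ⟨Module.End.mem_eigenspace_iff.mpr ?_, cl_ne_zero _⟩
    change inertiaR 1 _ = _
    rw [inertiaR_cl, inertiaROf_one_of_comm]
    congr 2
    simp [Nat.card_eq_fintype_card]

end Groth.Agent.Lib.helper27.InertiaLib
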