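import Mathlib
import Groth.Agent.Lib.helper27.Inertia3

/-!
# Inertia operators: eigenprojection formula (helper27)
-/

set_option autoImplicit false

namespace Groth.Agent.Lib.helper27.InertiaLib

open W4c5stacksedinertia Polynomial

/-- binomial inversion -/
theorem binomial_inversion_int (m k N : ℕ) (hN : m < N) :
    ∑ r ∈ Finset.range N, ((-1 : ℤ) ^ (r + k) * (r.choose k : ℤ) * (m.choose r : ℤ)) =
      if m = k then 1 else 0 := by
  rcases lt_or_ge m k with hmk | hkm
  · rw [if_neg (by omega)]
    refine Finset.sum_eq_zero fun r _ => ?_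
    rcases lt_or_ge r k with h | h
    · rw [Nat.choose_eq_zero_of_lt h]; simp
    · rw [Nat.choose_eq_zero_of_lt (show m < r by omega)]; simp
  · have h1 : ∑ r ∈ Finset.range N, ((-1 : ℤ) ^ (r + k) * (r.choose k : ℤ) * (m.choose r : ℤ)) =
        ∑ r ∈ Finset.Ico k (m + 1), ((-1 : ℤ) ^ (r + k) * (r.choose k : ℤ) * (m.choose r : ℤ)) := by
      symm
      apply Finset.sum_subset
      · intro r hr
        rw [Finset.mem_Ico] at hr
        rw [Finset.mem_range]
        omega
      · intro r _ hr
        rw [Finset.mem_Ico, not_and_or, not_le, not_lt] at hr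
        rcases hr with h | h
        · rw [Nat.choose_eq_zero_of_lt h]; simp
        · rw [Nat.choose_eq_zero_of_lt (show m < r by omega)]; simp
    rw [h1, Finset.sum_Ico_eq_sum_range]
    have h2 : ∀ j ∈ Finset.range (m + 1 - k),
        ((-1 : ℤ) ^ (k + j + k) * ((k + j).choose k : ℤ) * (m.choose (k + j) : ℤ)) =
        (m.choose k : ℤ) * ((-1 : ℤ) ^ j * ((m - k).choose j : ℤ)) := by
      intro j _
      have e1 : (-1 : ℤ) ^ (k + j + k) = (-1) ^ j := by
        rw [show k + j + k = j + 2 * k by ring, pow_add, pow_mul]; simp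
      have e2 := Nat.choose_mul (n := m) (k := k + j) (s := k) (by omega)
      rw [show k + j - k = j by omega] at e2
      rw [e1]
      have e3 : ((k + j).choose k : ℤ) * (m.choose (k + j) : ℤ) = (m.choose k : ℤ) * ((m - k).choose j : ℤ) := by
        rw [mul_comm]; exact_mod_cast e2
      linear_combination ((-1 : ℤ) ^ j) * e3
    rw [Finset.sum_congr rfl h2, ← Finset.mul_sum, show m + 1 - k = (m - k) + 1 by omega,
      Int.alternating_sum_range_choose]
    by_cases hmk : m = k
    · subst hmk; simp
    · rw [if_neg (by omega), if_neg hmk, mul_zero]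

theorem binomial_inversion (m k N : ℕ) (hN : m < N) :
    ∑ r ∈ Finset.range N, ((-1 : ℚ) ^ (r + k) * (r.choose k : ℚ) * (m.choose r : ℚ)) =
      if m = k then 1 else 0 := by
  have := congrArg (Int.cast : ℤ → ℚ) (binomial_inversion_int m k N hN)
  push_cast at this
  rw [this]

/-- S18025 -/
theorem eigenprojection_formula (v : K) :
    (∀ k : ℕ, (∑ᶠ r : ℕ, (((-1 : ℚ) ^ (r + k)) / (Nat.factorial r : ℚ) * (Nat.choose r k : ℚ)) •
        inertiaR r v) ∈ Module.End.eigenspace inertia (k : ℚ)) ∧
    (∑ᶠ k : ℕ, ∑ᶠ r : ℕ, (((-1 : ℚ) ^ (r + k)) / (Nat.factorial r : ℚ) * (Nat.choose r k : ℚ)) •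
        inertiaR r v) = v := by
  classical
  obtain ⟨n, hn⟩ := exists_mem_Kle v
  set N := n + 1 with hN
  have hker := mem_iSup_range_eigenspace hn
  rw [Submodule.mem_iSup_finset_iff_exists_sum] at hker
  obtain ⟨w, hw⟩ := hker
  -- action of inertiaR r on v
  have hI : ∀ r : ℕ, inertiaR r v =
      ∑ m ∈ Finset.range N, (((Nat.factorial r * Nat.choose m r : ℕ) : ℚ)) • (w m : K) := by
    intro r
    rw [← hw, map_sum]
    refine Finset.sum_congr rfl fun m _ => ?_
    exact Module.End.mem_eigenspace_iff.mp (eigenspace_inertia_le m r (w m).2)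
  have hI0 : ∀ r : ℕ, N ≤ r → inertiaR r v = 0 := by
    intro r hr
    rw [hI]
    refine Finset.sum_eq_zero fun m hm => ?_
    rw [Finset.mem_range] at hm
    rw [Nat.choose_eq_zero_of_lt (by omega), mul_zero, Nat.cast_zero, zero_smul]
  have hP : ∀ k : ℕ, (∑ᶠ r : ℕ, (((-1 : ℚ) ^ (r + k)) / (Nat.factorial r : ℚ) *
      (Nat.choose r k : ℚ)) • inertiaR r v) = if k < N then (w k : K) else 0 := by
    intro k
    rw [finsum_eq_sum_of_support_subset (s := Finset.range N)]
    · simp only [hI, Finset.smul_sum, smul_smul]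
      rw [Finset.sum_comm]
      simp only [← Finset.sum_smul]
      have hcoef : ∀ m ∈ Finset.range N, (∑ r ∈ Finset.range N,
          ((-1 : ℚ) ^ (r + k)) / (Nat.factorial r : ℚ) * (Nat.choose r k : ℚ) *
            ((Nat.factorial r * Nat.choose m r : ℕ) : ℚ)) = if m = k then 1 else 0 := by
        intro m hm
        rw [Finset.mem_range] at hm
        rw [← binomial_inversion m k N hm]
        refine Finset.sum_congr rfl fun r _ => ?_
        have : (Nat.factorial r : ℚ) ≠ 0 := by exact_mod_cast Nat.factorial_ne_zero r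
        push_cast
        field_simp
      rw [Finset.sum_congr rfl (fun m hm => by rw [hcoef m hm])]
      simp only [ite_smul, one_smul, zero_smul]
      rw [Finset.sum_ite_eq']
      simp only [Finset.mem_range]
    · intro r hr
      rw [Function.mem_support] at hr
      rw [Finset.mem_coe, Finset.mem_range]
      by_contra hlt
      exact hr (by rw [hI0 r (by omega), smul_zero])
  constructor
  · intro k
    rw [hP]
    split_ifs
    · exact (w k).2
    · exact zero_mem _
  · simp only [hP]
    rw [finsum_eq_sum_of_support_subset (s := Finset.range N)]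
    · rw [← hw]
      refine Finset.sum_congr rfl fun k hk => ?_
      rw [Finset.mem_range] at hk
      rw [if_pos hk]
    · intro k hk
      rw [Function.mem_support] at hk
      rw [Finset.mem_coe, Finset.mem_range]
      by_contra hlt
      exact hk (if_neg hlt)

end Groth.Agent.Lib.helper27.InertiaLib
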