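import Mathlib

/-!
# Helper library for `KumFam` kernel computations in characteristic 2 (S13121, S13122)
-/

set_option autoImplicit false
universe u

namespace H27KumFam
open MvPolynomial

variable {R : Type u} [CommRing R]

abbrev P (R : Type u) [CommRing R] := MvPolynomial (Fin 2) R
abbrev B (R : Type u) [CommRing R] := MvPolynomial (Fin 3) R

/-- the subalgebra `R[u², v²]` -/
noncomputable abbrev S₀ (R : Type u) [CommRing R] : Subalgebra R (P R) :=
  Algebra.adjoin R {X 0 ^ 2, X 1 ^ 2}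

theorem u2_mem : (X 0 ^ 2 : P R) ∈ S₀ R := Algebra.subset_adjoin (by simp)
theorem v2_mem : (X 1 ^ 2 : P R) ∈ S₀ R := Algebra.subset_adjoin (by simp)
theorem C_mem (r : R) : (C r : P R) ∈ S₀ R := (S₀ R).algebraMap_mem r

theorem der_adjoin_zero (D : Derivation R (P R) (P R)) (s : Set (P R)) (hs : ∀ x ∈ s, D x = 0) :
    ∀ a ∈ Algebra.adjoin R s, D a = 0 := by
  intro a ha
  induction ha using Algebra.adjoin_induction with
  | mem x hx => exact hs x hx
  | algebraMap r => exact D.map_algebraMap r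
  | add x y _ _ hx hy => rw [map_add, hx, hy, add_zero]
  | mul x y _ _ hx hy => rw [Derivation.leibniz, hx, hy, smul_zero, smul_zero, add_zero]

theorem expand_mem (f : P R) : expand 2 f ∈ S₀ R := by
  induction f using MvPolynomial.induction_on with
  | C a => rw [expand_C]; exact C_mem a
  | add p q hp hq => rw [map_add]; exact (S₀ R).add_mem hp hq
  | mul_X p i hp =>
    rw [map_mul, expand_X]
    refine (S₀ R).mul_mem hp ?_
    fin_cases i
    · exact u2_mem
    · exact v2_mem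

/-- the inclusion `R[a,b] → R[a,b,c]` -/
noncomputable abbrev ρ (R : Type u) [CommRing R] : P R →ₐ[R] B R :=
  rename (Fin.castSucc : Fin 2 → Fin 3)

/-- the map `a ↦ u², b ↦ v², c ↦ w` -/
noncomputable abbrev φ (w : P R) : B R →ₐ[R] P R := aeval ![X 0 ^ 2, X 1 ^ 2, w]

theorem φ_ρ (w : P R) (f : P R) : φ w (ρ R f) = expand 2 f := by
  show aeval _ (rename _ f) = _
  rw [aeval_rename]
  have : (![X 0 ^ 2, X 1 ^ 2, w] : Fin 3 → P R) ∘ Fin.castSucc = fun i => X i ^ 2 := by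
    funext i; fin_cases i <;> rfl
  rw [this]
  rfl

theorem φ_X2 (w : P R) : φ w (X 2) = w := by
  simp [φ]

/-- reduction modulo a polynomial `c² + G(a,b)` -/
theorem reduce (G : P R) (f : B R) :
    ∃ f₀ f₁ : P R, f - (ρ R f₀ + ρ R f₁ * X 2) ∈ Ideal.span {(X 2 ^ 2 + ρ R G : B R)} := by
  induction f using MvPolynomial.induction_on with
  | C a =>
    refine ⟨C a, 0, ?_⟩
    have : (C a : B R) - (ρ R (C a) + ρ R 0 * X 2) = 0 := by
      rw [map_zero, zero_mul, add_zero]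
      show C a - rename _ (C a) = 0
      rw [rename_C, sub_self]
    rw [this]; exact Ideal.zero_mem _
  | add p q hp hq =>
    obtain ⟨p₀, p₁, hp⟩ := hp
    obtain ⟨q₀, q₁, hq⟩ := hq
    refine ⟨p₀ + q₀, p₁ + q₁, ?_⟩
    have : p + q - (ρ R (p₀ + q₀) + ρ R (p₁ + q₁) * X 2) =
        (p - (ρ R p₀ + ρ R p₁ * X 2)) + (q - (ρ R q₀ + ρ R q₁ * X 2)) := by
      rw [map_add, map_add]; ring
    rw [this]; exact Ideal.add_mem _ hp hq
  | mul_X p i hp =>
    obtain ⟨p₀, p₁, hp⟩ := hp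
    have hρX : ∀ j : Fin 2, ρ R (X j) = X (Fin.castSucc j) := fun j => rename_X _ _
    fin_cases i
    · refine ⟨p₀ * X 0, p₁ * X 0, ?_⟩
      have : p * X (0 : Fin 3) - (ρ R (p₀ * X 0) + ρ R (p₁ * X 0) * X 2) =
          (p - (ρ R p₀ + ρ R p₁ * X 2)) * X 0 := by
        rw [map_mul, map_mul, hρX]
        show _ - (ρ R p₀ * X 0 + ρ R p₁ * X 0 * X 2) = _
        ring
      show p * X (0 : Fin 3) - _ ∈ _
      rw [this]; exact Ideal.mul_mem_right _ _ hp
    · refine ⟨p₀ * X 1, p₁ * X 1, ?_⟩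
      have : p * X (1 : Fin 3) - (ρ R (p₀ * X 1) + ρ R (p₁ * X 1) * X 2) =
          (p - (ρ R p₀ + ρ R p₁ * X 2)) * X 1 := by
        rw [map_mul, map_mul, hρX]
        show _ - (ρ R p₀ * X 1 + ρ R p₁ * X 1 * X 2) = _
        ring
      show p * X (1 : Fin 3) - _ ∈ _
      rw [this]; exact Ideal.mul_mem_right _ _ hp
    · refine ⟨-(p₁ * G), p₀, ?_⟩
      have : p * X (2 : Fin 3) - (ρ R (-(p₁ * G)) + ρ R p₀ * X 2) =
          (p - (ρ R p₀ + ρ R p₁ * X 2)) * X 2 + ρ R p₁ * (X 2 ^ 2 + ρ R G) := by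
        rw [map_neg, map_mul]; ring
      show p * X (2 : Fin 3) - _ ∈ _
      rw [this]
      exact Ideal.add_mem _ (Ideal.mul_mem_right _ _ hp)
        (Ideal.mul_mem_left _ _ (Ideal.subset_span rfl))

/-- the kernel of `a ↦ u², b ↦ v², c ↦ w` when `w² = -G(u², v²)` and `1, w` are independent over
`R[u², v²]` -/
theorem ker_eq (w G : P R) (hw : w ^ 2 + expand 2 G = 0)
    (hind : ∀ f₀ f₁ : P R, expand 2 f₀ + expand 2 f₁ * w = 0 → f₁ = 0) :
    RingHom.ker (φ w) = Ideal.span {(X 2 ^ 2 + ρ R G : B R)} := by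
  apply le_antisymm
  · intro f hf
    rw [RingHom.mem_ker] at hf
    obtain ⟨f₀, f₁, hred⟩ := reduce G f
    have hgen : φ w (X 2 ^ 2 + ρ R G) = 0 := by
      rw [map_add, map_pow, φ_X2, φ_ρ, hw]
    have hker : Ideal.span {(X 2 ^ 2 + ρ R G : B R)} ≤ RingHom.ker (φ w) := by
      rw [Ideal.span_le]
      intro x hx
      rw [Set.mem_singleton_iff] at hx
      rw [hx]; exact hgen
    have h1 := hker hred
    rw [RingHom.mem_ker, map_sub, hf, zero_sub, neg_eq_zero, map_add, map_mul, φ_ρ, φ_ρ, φ_X2] at h1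
    have hf1 := hind f₀ f₁ h1
    rw [hf1, map_zero, zero_mul, add_zero, expand_eq_zero (by norm_num)] at h1
    rw [hf1, h1, map_zero, zero_mul, add_zero, sub_zero] at hred
    exact hred
  · rw [Ideal.span_le]
    intro x hx
    rw [Set.mem_singleton_iff] at hx
    rw [hx, SetLike.mem_coe, RingHom.mem_ker, map_add, map_pow, φ_X2, φ_ρ, hw]

variable [CharP R 2]

theorem two_eq : (2 : P R) = 0 := CharTwo.two_eq_zero

theorem der_sq (D : Derivation R (P R) (P R)) (x : P R) : D (x ^ 2) = 0 := by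
  rw [pow_two, Derivation.leibniz, smul_eq_mul, ← two_mul, two_eq, zero_mul]

theorem der_S₀ (D : Derivation R (P R) (P R)) (a : P R) (ha : a ∈ S₀ R) : D a = 0 := by
  apply der_adjoin_zero D _ _ a ha
  intro x hx
  simp only [Set.mem_insert_iff, Set.mem_singleton_iff] at hx
  rcases hx with rfl | rfl <;> exact der_sq D _

theorem der_cube (D : Derivation R (P R) (P R)) (x : P R) : D (x ^ 3) = x ^ 2 * D x := by
  have : x ^ 3 = x ^ 2 * x := by ring
  rw [this, Derivation.leibniz, der_sq, smul_zero, add_zero, smul_eq_mul]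

theorem pd01 : pderiv (0 : Fin 2) (X 1 : P R) = 0 := pderiv_X_of_ne (by decide)
theorem pd10 : pderiv (1 : Fin 2) (X 0 : P R) = 0 := pderiv_X_of_ne (by decide)

/-- independence of `1, u³, v³, u³v³` over `R[u², v²]`: the last coefficient -/
theorem indep_cusp (α β γ δ : P R) (hα : α ∈ S₀ R) (hβ : β ∈ S₀ R) (hγ : γ ∈ S₀ R) (hδ : δ ∈ S₀ R)
    (h : α + β * X 0 ^ 3 + γ * X 1 ^ 3 + δ * (X 0 ^ 3 * X 1 ^ 3) = 0) : δ = 0 := by
  have h1 := congrArg (pderiv (1 : Fin 2)) h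
  simp only [map_add, Derivation.leibniz, der_cube, der_S₀ _ _ hα, der_S₀ _ _ hβ, der_S₀ _ _ hγ,
    der_S₀ _ _ hδ, smul_eq_mul, zero_add, mul_zero, add_zero, pderiv_X_self, map_zero, mul_one, pd10] at h1
  have h2 := congrArg (pderiv (0 : Fin 2)) h1
  simp only [map_add, Derivation.leibniz, der_cube, der_sq, der_S₀ _ _ hγ,
    der_S₀ _ _ hδ, smul_eq_mul, zero_add, mul_zero, add_zero, pderiv_X_self, map_zero, mul_one, pd01] at h2
  have h3 : X 0 ^ 2 * (X 1 ^ 2 * δ) = X 0 ^ 2 * (X 1 ^ 2 * 0) := by linear_combination h2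
  exact (isRegular_X_pow (R := R) (n := (1 : Fin 2)) 2).left
    ((isRegular_X_pow (R := R) (n := (0 : Fin 2)) 2).left h3)

/-- independence of `1, x, y, xy` over `R[x², y²]`: the last coefficient -/
theorem indep_smooth (α β γ δ : P R) (hα : α ∈ S₀ R) (hβ : β ∈ S₀ R) (hγ : γ ∈ S₀ R) (hδ : δ ∈ S₀ R)
    (h : α + β * X 0 + γ * X 1 + δ * (X 0 * X 1) = 0) : δ = 0 := by
  have h1 := congrArg (pderiv (1 : Fin 2)) h
  simp only [map_add, Derivation.leibniz, der_S₀ _ _ hα, der_S₀ _ _ hβ, der_S₀ _ _ hγ,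
    der_S₀ _ _ hδ, smul_eq_mul, zero_add, mul_zero, add_zero, pderiv_X_self, map_zero, mul_one, pd10] at h1
  have h2 := congrArg (pderiv (0 : Fin 2)) h1
  simp only [map_add, Derivation.leibniz, der_S₀ _ _ hγ,
    der_S₀ _ _ hδ, smul_eq_mul, zero_add, mul_zero, add_zero, pderiv_X_self, map_zero, mul_one, pd01] at h2
  exact h2

omit [CharP R 2] in
theorem quartic_mem (a b c : R) (i : Fin 2) : (C a * X i ^ 4 + C b * X i ^ 2 + C c : P R) ∈ S₀ R := by
  have hi : (X i ^ 2 : P R) ∈ S₀ R := by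
    fin_cases i
    · exact u2_mem
    · exact v2_mem
  have : (C a * X i ^ 4 + C b * X i ^ 2 + C c : P R) = C a * (X i ^ 2) ^ 2 + C b * X i ^ 2 + C c := by ring
  rw [this]
  exact (S₀ R).add_mem ((S₀ R).add_mem ((S₀ R).mul_mem (C_mem _) ((S₀ R).pow_mem hi 2))
    ((S₀ R).mul_mem (C_mem _) hi)) (C_mem _)

omit [CharP R 2] in
theorem eq_zero_of_mul_C_unit (τ : R) (hτ : IsUnit τ) (F : P R) (h : F * C τ = 0) : F = 0 := by
  obtain ⟨τu, rfl⟩ := hτ
  have hττ : (C (τu : R) : P R) * C ((τu⁻¹ : Rˣ) : R) = 1 := by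
    rw [← C_mul, Units.mul_inv, C_1]
  calc F = F * C (τu : R) * C ((τu⁻¹ : Rˣ) : R) := by rw [mul_assoc, hττ, mul_one]
    _ = 0 := by rw [h, zero_mul]

omit [CharP R 2] in
theorem ρ_X0 : ρ R (X 0) = X 0 := rename_X _ _
omit [CharP R 2] in
theorem ρ_X1 : ρ R (X 1) = X 1 := rename_X _ _
omit [CharP R 2] in
theorem ρ_C (r : R) : ρ R (C r) = C r := rename_C _ _

end H27KumFam
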