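import Mathlib
import Groth.Prelude.Def_LiftSq

/-!
Helper library (helper27): closure properties of 2-categorical lifting squares (`LiftSq`).
-/

set_option autoImplicit false

universe v₆ u₆ v₅ u₅ v₄ u₄ v₃ u₃ v₂ u₂ v u

open CategoryTheory

namespace Groth.Agent.Lib.helper27.LiftSqLib

open LiftSq

variable {C : Type u} [Category.{v} C]
  {𝒜 : BasedCategory.{v₂, u₂} C} {ℬ : BasedCategory.{v₃, u₃} C}
  {𝒳 : BasedCategory.{v₄, u₄} C} {𝒴 : BasedCategory.{v₅, u₅} C} {𝒵 : BasedCategory.{v₆, u₆} C}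

/-- Equality of 2-morphisms can be checked componentwise. -/
theorem hom_ext_app {F G : 𝒳 ⥤ᵇ 𝒴} (α β : F ⟶ G)
    (h : ∀ x : 𝒳.obj, α.toNatTrans.app x = β.toNatTrans.app x) : α = β := by
  apply BasedNatTrans.homCategory.ext
  ext x
  exact h x

section components

variable {j : 𝒜 ⥤ᵇ ℬ} {f : 𝒳 ⥤ᵇ 𝒴} {sq : Sq j f}

theorem lift_w_app (d : sq.Lift) (x : 𝒜.obj) :
    d.isoBot.hom.toNatTrans.app (j.obj x) ≫ f.map (d.isoTop.hom.toNatTrans.app x)
      = sq.iso.hom.toNatTrans.app x :=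
  congrArg (fun α => α.toNatTrans.app x) d.w

theorem hom_w_top_app {d d' : sq.Lift} (θ : d ⟶ d') (x : 𝒜.obj) :
    θ.hom.toNatTrans.app (j.obj x) ≫ d'.isoTop.hom.toNatTrans.app x = d.isoTop.hom.toNatTrans.app x :=
  congrArg (fun α => α.toNatTrans.app x) θ.w_top

theorem hom_w_bot_app {d d' : sq.Lift} (θ : d ⟶ d') (y : ℬ.obj) :
    d.isoBot.hom.toNatTrans.app y ≫ f.map (θ.hom.toNatTrans.app y) = d'.isoBot.hom.toNatTrans.app y :=
  congrArg (fun α => α.toNatTrans.app y) θ.w_bot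

theorem comp_app {F G H : 𝒳 ⥤ᵇ 𝒴} (α : F ⟶ G) (β : G ⟶ H) (x : 𝒳.obj) :
    (α ≫ β).toNatTrans.app x = α.toNatTrans.app x ≫ β.toNatTrans.app x := rfl

theorem id_app (F : 𝒳 ⥤ᵇ 𝒴) (x : 𝒳.obj) : (𝟙 F : F ⟶ F).toNatTrans.app x = 𝟙 (F.obj x) := rfl

theorem iso_hom_inv_app {F G : 𝒳 ⥤ᵇ 𝒴} (e : F ≅ G) (x : 𝒳.obj) :
    e.hom.toNatTrans.app x ≫ e.inv.toNatTrans.app x = 𝟙 (F.obj x) :=
  congrArg (fun α => α.toNatTrans.app x) e.hom_inv_id

theorem iso_inv_hom_app {F G : 𝒳 ⥤ᵇ 𝒴} (e : F ≅ G) (x : 𝒳.obj) :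
    e.inv.toNatTrans.app x ≫ e.hom.toNatTrans.app x = 𝟙 (G.obj x) :=
  congrArg (fun α => α.toNatTrans.app x) e.inv_hom_id

end components

/-- Right whiskering of an isomorphism. -/
def whiskerRightIso {F G : ℬ ⥤ᵇ 𝒳} (α : F ≅ G) (f : 𝒳 ⥤ᵇ 𝒴) :
    BasedFunctor.comp F f ≅ BasedFunctor.comp G f where
  hom := BasedCategory.whiskerRight α.hom f
  inv := BasedCategory.whiskerRight α.inv f
  hom_inv_id := by rw [← whiskerRight_comp', α.hom_inv_id, whiskerRight_id']
  inv_hom_id := by rw [← whiskerRight_comp', α.inv_hom_id, whiskerRight_id']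

section comp

variable {j : 𝒜 ⥤ᵇ ℬ} {f : 𝒳 ⥤ᵇ 𝒴} {g : 𝒴 ⥤ᵇ 𝒵}

/-- The square against `g` obtained from a square against `f ⋙ g`. -/
def sqG (sq : Sq j (BasedFunctor.comp f g)) : Sq j g where
  top := BasedFunctor.comp sq.top f
  bot := sq.bot
  iso := sq.iso

/-- The square against `f` determined by a lift of `sqG`. -/
def sqF (sq : Sq j (BasedFunctor.comp f g)) (dg : (sqG sq).Lift) : Sq j f where
  top := sq.top
  bot := dg.fn
  iso := dg.isoTop

/-- Composite lift. -/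
def liftComp (sq : Sq j (BasedFunctor.comp f g)) (dg : (sqG sq).Lift) (df : (sqF sq dg).Lift) :
    sq.Lift where
  fn := df.fn
  isoTop := df.isoTop
  isoBot := dg.isoBot ≪≫ whiskerRightIso df.isoBot g
  w := by
    apply hom_ext_app
    intro x
    have h1 := lift_w_app dg x
    have h2 := lift_w_app df x
    change (dg.isoBot.hom.toNatTrans.app (j.obj x) ≫ g.map (df.isoBot.hom.toNatTrans.app (j.obj x))) ≫
      g.map (f.map (df.isoTop.hom.toNatTrans.app x)) = sq.iso.hom.toNatTrans.app x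
    change dg.isoBot.hom.toNatTrans.app (j.obj x) ≫ g.map (dg.isoTop.hom.toNatTrans.app x)
      = sq.iso.hom.toNatTrans.app x at h1
    change df.isoBot.hom.toNatTrans.app (j.obj x) ≫ f.map (df.isoTop.hom.toNatTrans.app x)
      = dg.isoTop.hom.toNatTrans.app x at h2
    exact (Category.assoc _ _ _).trans
      ((congrArg (fun z => dg.isoBot.hom.toNatTrans.app (j.obj x) ≫ z) (g.map_comp _ _).symm).trans
        ((congrArg (fun z => dg.isoBot.hom.toNatTrans.app (j.obj x) ≫ g.map z) h2).trans h1))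

/-- A lift against `f ⋙ g` gives a lift against `g`. -/
def toG (sq : Sq j (BasedFunctor.comp f g)) (d : sq.Lift) : (sqG sq).Lift where
  fn := BasedFunctor.comp d.fn f
  isoTop := whiskerRightIso d.isoTop f
  isoBot := d.isoBot
  w := by
    apply hom_ext_app
    intro x
    exact lift_w_app d x

/-- A morphism of lifts against `f ⋙ g` gives a morphism of lifts against `g`. -/
def toGHom (sq : Sq j (BasedFunctor.comp f g)) {d d' : sq.Lift} (ψ : d ⟶ d') : toG sq d ⟶ toG sq d' where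
  hom := BasedCategory.whiskerRight ψ.hom f
  w_top := by
    apply hom_ext_app
    intro x
    have h := hom_w_top_app ψ x
    change f.map (ψ.hom.toNatTrans.app (j.obj x)) ≫ f.map (d'.isoTop.hom.toNatTrans.app x)
      = f.map (d.isoTop.hom.toNatTrans.app x)
    exact (f.map_comp _ _).symm.trans (congrArg (fun z => f.map z) h)
  w_bot := by
    apply hom_ext_app
    intro y
    exact hom_w_bot_app ψ y

theorem hasLift_comp (hf : Lifts j f) (hg : Lifts j g) : Lifts j (BasedFunctor.comp f g) := by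
  intro sq
  obtain ⟨dg⟩ := hg (sqG sq)
  obtain ⟨df⟩ := hf (sqF sq dg)
  exact ⟨liftComp sq dg df⟩

theorem liftsUnique_comp (hf : LiftsUnique j f) (hg : LiftsUnique j g) :
    LiftsUnique j (BasedFunctor.comp f g) := by
  intro sq d d'
  -- the unique morphisms between the induced lifts against g
  obtain ⟨U⟩ := hg (sqG sq) (toG sq d) (toG sq d')
  obtain ⟨U'⟩ := hg (sqG sq) (toG sq d') (toG sq d)
  obtain ⟨U₁⟩ := hg (sqG sq) (toG sq d) (toG sq d)
  obtain ⟨U₂⟩ := hg (sqG sq) (toG sq d') (toG sq d')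
  let θ : toG sq d ⟶ toG sq d' := U.default
  let θ' : toG sq d' ⟶ toG sq d := U'.default
  have hθθ' : θ ≫ θ' = 𝟙 _ := (U₁.uniq _).trans (U₁.uniq _).symm
  have hθ'θ : θ' ≫ θ = 𝟙 _ := (U₂.uniq _).trans (U₂.uniq _).symm
  -- as 2-morphisms between `d.fn ⋙ f` and `d'.fn ⋙ f`
  let t : BasedFunctor.comp d.fn f ⟶ BasedFunctor.comp d'.fn f := θ.hom
  let t' : BasedFunctor.comp d'.fn f ⟶ BasedFunctor.comp d.fn f := θ'.hom
  have htt' : t ≫ t' = 𝟙 _ := congrArg Sq.Lift.Hom.hom hθθ'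
  have ht't : t' ≫ t = 𝟙 _ := congrArg Sq.Lift.Hom.hom hθ'θ
  -- the square against f
  let sqF' : Sq j f :=
    { top := sq.top
      bot := BasedFunctor.comp d'.fn f
      iso := whiskerRightIso d'.isoTop f }
  let E' : sqF'.Lift :=
    { fn := d'.fn
      isoTop := d'.isoTop
      isoBot := Iso.refl _
      w := by
        apply hom_ext_app
        intro x
        change 𝟙 _ ≫ f.map (d'.isoTop.hom.toNatTrans.app x) = f.map (d'.isoTop.hom.toNatTrans.app x)
        exact Category.id_comp _ }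
  let E : sqF'.Lift :=
    { fn := d.fn
      isoTop := d.isoTop
      isoBot := ⟨t', t, ht't, htt'⟩
      w := θ'.w_top }
  obtain ⟨V⟩ := hf sqF' E E'
  have key : ∀ ψ : d ⟶ d', BasedCategory.whiskerRight ψ.hom f = t := by
    intro ψ
    have : toGHom sq ψ = θ := (U.uniq _).trans (U.uniq _).symm
    exact congrArg Sq.Lift.Hom.hom this
  let ψ₀ : E ⟶ E' := V.default
  have hψ₀ : BasedCategory.whiskerRight ψ₀.hom f = t := by
    have h : t' ≫ BasedCategory.whiskerRight ψ₀.hom f = 𝟙 _ := ψ₀.w_bot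
    calc BasedCategory.whiskerRight ψ₀.hom f
        = (t ≫ t') ≫ BasedCategory.whiskerRight ψ₀.hom f := by
          rw [htt']; exact (Category.id_comp _).symm
      _ = t := by rw [Category.assoc, h]; exact Category.comp_id _
  refine ⟨⟨⟨{ hom := ψ₀.hom, w_top := ψ₀.w_top, w_bot := ?_ }⟩, ?_⟩⟩
  · apply hom_ext_app
    intro y
    have h := hom_w_bot_app θ y
    have h' := congrArg (fun α => α.toNatTrans.app y) hψ₀
    change f.map (ψ₀.hom.toNatTrans.app y) = t.toNatTrans.app y at h'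
    change d.isoBot.hom.toNatTrans.app y ≫ g.map (t.toNatTrans.app y) = d'.isoBot.hom.toNatTrans.app y at h
    change d.isoBot.hom.toNatTrans.app y ≫ g.map (f.map (ψ₀.hom.toNatTrans.app y))
      = d'.isoBot.hom.toNatTrans.app y
    exact (congrArg (fun z => d.isoBot.hom.toNatTrans.app y ≫ g.map z) h').trans h
  · intro ψ
    have hψ := key ψ
    let ψE : E ⟶ E' :=
      { hom := ψ.hom
        w_top := ψ.w_top
        w_bot := by
          change t' ≫ BasedCategory.whiskerRight ψ.hom f = 𝟙 _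
          rw [hψ, ht't] }
    have h3 : ψE = ψ₀ := V.uniq _
    have h4 : ψE.hom = ψ₀.hom := congrArg Sq.Lift.Hom.hom h3
    apply Sq.Lift.hom_ext
    exact h4

theorem liftsUniquely_comp (hf : LiftsUniquely j f) (hg : LiftsUniquely j g) :
    LiftsUniquely j (BasedFunctor.comp f g) := by
  intro sq
  exact ⟨hasLift_comp (fun s => (hf s).1) (fun s => (hg s).1) sq,
    liftsUnique_comp (fun s => (hf s).2) (fun s => (hg s).2) sq⟩

end comp

end Groth.Agent.Lib.helper27.LiftSqLib
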