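import Mathlib
import Groth.Prelude.Def_W4c5cptfessfintypeLocImm

/-!
# Basic theory of localizing morphisms / localizing immersions (helper27)
-/

set_option autoImplicit false
universe u

open CategoryTheory AlgebraicGeometry

namespace Groth.Agent.Lib.helper27.LocImmLib

/-- For a localizing ring map `φ : A → B = S⁻¹A` and a prime `p` of `B`, the induced map
`A_{φ⁻¹p} → B_p` is bijective. -/
lemma localRingHom_bijective {A B : Type*} [CommRing A] [CommRing B] (φ : A →+* B)
    (hφ : LocImm.IsLocHom φ) (q : Ideal A) [q.IsPrime] (p : Ideal B) [p.IsPrime]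
    (h : q = p.comap φ) : Function.Bijective (Localization.localRingHom q p φ h) := by
  let := φ.toAlgebra
  obtain ⟨S, hS⟩ := hφ
  subst h
  have : IsLocalization.AtPrime (Localization.AtPrime p) (p.comap (algebraMap A B)) :=
    IsLocalization.isLocalization_isLocalization_atPrime_isLocalization S _ p
  let e := IsLocalization.algEquiv (p.comap (algebraMap A B)).primeCompl
    (Localization.AtPrime (p.comap (algebraMap A B))) (Localization.AtPrime p)
  have : Localization.localRingHom (p.comap φ) p φ rfl = (e : _ →+* _) := by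
    apply IsLocalization.ringHom_ext (p.comap (algebraMap A B)).primeCompl
    ext a
    simp only [RingHom.coe_comp, Function.comp_apply, Localization.localRingHom_to_map]
    simp [e, IsScalarTower.algebraMap_apply A B (Localization.AtPrime p), RingHom.algebraMap_toAlgebra]
  rw [this]
  exact e.bijective

/-- Stalk maps of a localizing morphism are isomorphisms. -/
lemma isIso_stalkMap {X Y : Scheme.{u}} (f : X ⟶ Y) (hf : LocImm.IsLocalizing f) (x : X) :
    IsIso (f.stalkMap x) := by
  obtain ⟨U, V, hxV, e, hφ⟩ := hf x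
  have iso := IsAffineOpen.arrowStalkMapIso f U.1 U.2 V.1 V.2 e hxV
  have hb := localRingHom_bijective _ hφ _ _
    congr($(IsAffineOpen.comap_primeIdealOf_appLE U.1 U.2 V.1 V.2 e hxV).1).symm
  have h2 : IsIso (CommRingCat.ofHom <|
      Localization.localRingHom _ _ (f.appLE U.1 V.1 e).hom
        congr($(IsAffineOpen.comap_primeIdealOf_appLE U.1 U.2 V.1 V.2 e hxV).1).symm) :=
    (ConcreteCategory.isIso_iff_bijective _).mpr hb
  exact ((MorphismProperty.isomorphisms _).arrow_mk_iso_iff iso).mpr h2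

lemma surjectiveOnStalks {X Y : Scheme.{u}} (f : X ⟶ Y) (hf : LocImm.IsLocalizing f) :
    SurjectiveOnStalks f :=
  ⟨fun x => by
    have := isIso_stalkMap f hf x
    exact (ConcreteCategory.bijective_of_isIso (f.stalkMap x)).2⟩

lemma flat {X Y : Scheme.{u}} (f : X ⟶ Y) (hf : LocImm.IsLocalizing f) : Flat f := by
  apply Flat.of_stalkMap
  intro x
  have := isIso_stalkMap f hf x
  exact RingHom.Flat.of_bijective (ConcreteCategory.bijective_of_isIso (f.stalkMap x))

lemma mono {X Y : Scheme.{u}} (f : X ⟶ Y) (hf : LocImm.IsLocImmersion f) : Mono f := by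
  have := surjectiveOnStalks f hf.1
  exact SurjectiveOnStalks.mono_of_injective hf.2

lemma injective_of_mono {X Y : Scheme.{u}} (f : X ⟶ Y) [Mono f] : Function.Injective f.base :=
  f.injective

lemma isLocImmersion_iff {X Y : Scheme.{u}} (f : X ⟶ Y) :
    LocImm.IsLocImmersion f ↔ (LocImm.IsLocalizing f ∧ Mono f) :=
  ⟨fun h => ⟨h.1, mono f h⟩, fun h => ⟨h.1, have := h.2; injective_of_mono f⟩⟩

/-! ### `IsLocHom` as a ring-hom property -/

lemma isLocHom_algebraMap {A B : Type*} [CommRing A] [CommRing B] [inst : Algebra A B]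
    (M : Submonoid A) [h : IsLocalization M B] : LocImm.IsLocHom (algebraMap A B) := by
  have e : (algebraMap A B).toAlgebra = inst := Algebra.algebra_ext _ _ (fun r => rfl)
  show ∃ S : Submonoid A, @IsLocalization A _ S B _ (algebraMap A B).toAlgebra
  rw [e]
  exact ⟨M, h⟩

lemma isLocHom_algebraMap_iff {A B : Type*} [CommRing A] [CommRing B] [inst : Algebra A B] :
    LocImm.IsLocHom (algebraMap A B) ↔ ∃ M : Submonoid A, IsLocalization M B := by
  refine ⟨fun h => ?_, fun ⟨M, h⟩ => isLocHom_algebraMap M⟩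
  have e : (algebraMap A B).toAlgebra = inst := Algebra.algebra_ext _ _ (fun r => rfl)
  have h' : ∃ S : Submonoid A, @IsLocalization A _ S B _ (algebraMap A B).toAlgebra := h
  rw [e] at h'
  exact h'

lemma isLocHom_of_bijective {A B : Type*} [CommRing A] [CommRing B] (φ : A →+* B)
    (hφ : Function.Bijective φ) : LocImm.IsLocHom φ := by
  let := φ.toAlgebra
  refine ⟨⊥, ?_⟩
  exact IsLocalization.of_le_isUnit_of_bijective (by
    rintro _ ⟨y, hy, rfl⟩
    rw [SetLike.mem_coe, Submonoid.mem_bot] at hy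
    subst hy
    simp) hφ

lemma isLocHom_comp {A B C : Type*} [CommRing A] [CommRing B] [CommRing C] (φ : A →+* B)
    (ψ : B →+* C) (hφ : LocImm.IsLocHom φ) (hψ : LocImm.IsLocHom ψ) :
    LocImm.IsLocHom (ψ.comp φ) := by
  let := φ.toAlgebra
  let := ψ.toAlgebra
  let := (ψ.comp φ).toAlgebra
  have : IsScalarTower A B C := IsScalarTower.of_algebraMap_eq (fun x => rfl)
  obtain ⟨M, hM⟩ := hφ
  obtain ⟨N, hN⟩ := hψ
  exact ⟨_, IsLocalization.localization_localization_isLocalization M N C⟩

/-- the ring hom property underlying localizing morphisms -/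
def LocHomProp : ∀ {R S : Type u} [CommRing R] [CommRing S], (R →+* S) → Prop :=
  fun φ => LocImm.IsLocHom φ

lemma locHomProp_stableUnderComposition : RingHom.StableUnderComposition @LocHomProp.{u} :=
  fun _ _ _ _ _ _ f g hf hg => isLocHom_comp f g hf hg

lemma locHomProp_respectsIso : RingHom.RespectsIso @LocHomProp.{u} :=
  locHomProp_stableUnderComposition.respectsIso
    (fun e => isLocHom_of_bijective _ e.bijective)

lemma locHomProp_holdsForLocalizationAway : RingHom.HoldsForLocalizationAway @LocHomProp.{u} := by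
  intro R S _ _ _ r _
  exact isLocHom_algebraMap (Submonoid.powers r)

attribute [local instance] Algebra.TensorProduct.rightAlgebra in
open scoped TensorProduct in
lemma locHomProp_isStableUnderBaseChange : RingHom.IsStableUnderBaseChange @LocHomProp.{u} := by
  apply RingHom.IsStableUnderBaseChange.mk locHomProp_respectsIso
  intro R S T _ _ _ _ _ h
  obtain ⟨M, hM⟩ := isLocHom_algebraMap_iff.mp h
  have : IsLocalization (Algebra.algebraMapSubmonoid S M) (S ⊗[R] T) :=
    (Algebra.isLocalization_iff_isPushout M T).mpr inferInstance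
  exact isLocHom_algebraMap (Algebra.algebraMapSubmonoid S M)

/-- `LocImm.IsLocalizing` as a morphism property. -/
def LocalizingMP : MorphismProperty Scheme.{u} := fun _ _ f => LocImm.IsLocalizing f

lemma localizingMP_iff {X Y : Scheme.{u}} (f : X ⟶ Y) : LocalizingMP f ↔ LocImm.IsLocalizing f :=
  Iff.rfl

instance localizingMP_hasRingHomProperty :
    HasRingHomProperty LocalizingMP.{u} (RingHom.Locally @LocHomProp.{u}) := by
  apply HasRingHomProperty.locally_of_iff
  · exact locHomProp_isStableUnderBaseChange.localizationPreserves.away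
  · exact locHomProp_stableUnderComposition.stableUnderCompositionWithLocalizationAway
      locHomProp_holdsForLocalizationAway
  · intro X Y f
    exact Iff.rfl

instance localizingMP_isStableUnderBaseChange : LocalizingMP.{u}.IsStableUnderBaseChange :=
  HasRingHomProperty.isStableUnderBaseChange
    (RingHom.locally_isStableUnderBaseChange locHomProp_respectsIso
      locHomProp_isStableUnderBaseChange)

instance localizingMP_isStableUnderComposition : LocalizingMP.{u}.IsStableUnderComposition :=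
  HasRingHomProperty.stableUnderComposition
    (RingHom.locally_stableUnderComposition locHomProp_respectsIso
      locHomProp_isStableUnderBaseChange.localizationPreserves
      locHomProp_stableUnderComposition)

lemma isLocalizing_pullback_snd {X Y Y' : Scheme.{u}} (f : X ⟶ Y) (g : Y' ⟶ Y)
    (hf : LocImm.IsLocalizing f) : LocImm.IsLocalizing (Limits.pullback.snd f g) :=
  MorphismProperty.pullback_snd (P := LocalizingMP) f g hf

lemma isLocalizing_pullback_fst {X Y Y' : Scheme.{u}} (f : X ⟶ Y) (g : Y' ⟶ Y)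
    (hg : LocImm.IsLocalizing g) : LocImm.IsLocalizing (Limits.pullback.fst f g) :=
  MorphismProperty.pullback_fst (P := LocalizingMP) f g hg

lemma isLocalizing_comp {X Y Z : Scheme.{u}} (f : X ⟶ Y) (g : Y ⟶ Z)
    (hf : LocImm.IsLocalizing f) (hg : LocImm.IsLocalizing g) : LocImm.IsLocalizing (f ≫ g) :=
  MorphismProperty.comp_mem LocalizingMP f g hf hg

lemma isLocImmersion_pullback_snd {X Y Y' : Scheme.{u}} (f : X ⟶ Y) (g : Y' ⟶ Y)
    (hf : LocImm.IsLocImmersion f) : LocImm.IsLocImmersion (Limits.pullback.snd f g) := by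
  rw [isLocImmersion_iff] at hf ⊢
  have := hf.2
  exact ⟨isLocalizing_pullback_snd f g hf.1, inferInstance⟩

lemma isLocImmersion_comp {X Y Z : Scheme.{u}} (f : X ⟶ Y) (g : Y ⟶ Z)
    (hf : LocImm.IsLocImmersion f) (hg : LocImm.IsLocImmersion g) :
    LocImm.IsLocImmersion (f ≫ g) := by
  rw [isLocImmersion_iff] at hf hg ⊢
  have := hf.2
  have := hg.2
  exact ⟨isLocalizing_comp f g hf.1 hg.1, mono_comp f g⟩

/-! ### Topological lemma -/

open TopologicalSpace in
/-- For a continuous injective generalizing map out of a Noetherian quasi-sober space, every open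
neighbourhood `V` of `x` contains the preimage of an open neighbourhood of `f x`. -/
lemma exists_isOpen_preimage_subset {X Y : Type*} [TopologicalSpace X] [TopologicalSpace Y]
    [NoetherianSpace X] [QuasiSober X] {f : X → Y} (hc : Continuous f)
    (hinj : Function.Injective f) (hg : GeneralizingMap f) (x : X) {V : Set X} (hV : IsOpen V)
    (hx : x ∈ V) : ∃ O : Set Y, IsOpen O ∧ f x ∈ O ∧ f ⁻¹' O ⊆ V := by
  obtain ⟨S, hSf, hSc, hSi, hSU⟩ :=
    NoetherianSpace.exists_finite_set_isClosed_irreducible hV.isClosed_compl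
  refine ⟨(⋃ t ∈ S, closure (f '' t))ᶜ, ?_, ?_, ?_⟩
  · rw [isOpen_compl_iff]
    exact hSf.isClosed_biUnion (fun t _ => isClosed_closure)
  · rw [Set.mem_compl_iff, Set.mem_iUnion₂]
    rintro ⟨t, ht, hxt⟩
    obtain ⟨ξ, hξ⟩ := QuasiSober.sober (hSi t ht) (hSc t ht)
    have hξt : ξ ∈ t := hξ.mem
    have hsub : closure (f '' t) ⊆ closure {f ξ} := by
      apply closure_minimal _ isClosed_closure
      rw [← hξ.def]
      exact (image_closure_subset_closure_image hc).trans (by rw [Set.image_singleton])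
    have hspec : f ξ ⤳ f x := by
      rw [specializes_iff_mem_closure]
      exact hsub hxt
    obtain ⟨x', hx', hfx'⟩ := hg hspec
    have : x' = ξ := hinj hfx'
    subst this
    have hξV : x' ∈ V := hx'.mem_open hV hx
    have : x' ∈ Vᶜ := by rw [hSU]; exact ⟨t, ht, hξt⟩
    exact this hξV
  · intro z hz
    by_contra hzV
    have : z ∈ Vᶜ := hzV
    rw [hSU] at this
    obtain ⟨t, ht, hzt⟩ := this
    apply hz
    rw [Set.mem_iUnion₂]
    exact ⟨t, ht, subset_closure ⟨z, hzt, rfl⟩⟩

/-- The restriction of `f` to affine opens `V → U` with localizing ring map is a preimmersion. -/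
lemma isPreimmersion_resLE {X Y : Scheme.{u}} (f : X ⟶ Y) (U : Y.Opens) (hU : IsAffineOpen U)
    (V : X.Opens) (hV : IsAffineOpen V) (e : V ≤ f ⁻¹ᵁ U)
    (h : LocImm.IsLocHom (f.appLE U V e).hom) : IsPreimmersion (f.resLE U V e) := by
  have : IsAffine U.toScheme := hU
  have : IsAffine V.toScheme := hV
  have h1 : LocImm.IsLocHom (f.resLE U V e).appTop.hom :=
    (locHomProp_respectsIso.arrow_mk_iso_iff (arrowResLEAppIso f U V e)).mpr h
  rw [MorphismProperty.arrow_mk_iso_iff @IsPreimmersion (arrowIsoSpecΓOfIsAffine (f.resLE U V e))]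
  let := (f.resLE U V e).appTop.hom.toAlgebra
  obtain ⟨M, hM⟩ := h1
  exact IsPreimmersion.of_isLocalization (R := Γ(↑U, ⊤)) (S := Γ(↑V, ⊤)) M

lemma generalizingMap {X Y : Scheme.{u}} (f : X ⟶ Y) (hf : LocImm.IsLocalizing f) :
    GeneralizingMap f := by
  have := flat f hf
  exact Flat.generalizingMap f

/-- Key neighbourhood lemma: for a localizing immersion out of a Noetherian scheme, every open
neighbourhood of `x` contains the preimage of an open neighbourhood of `f x`. -/
lemma exists_opens_preimage_le {X Y : Scheme.{u}} [IsNoetherian X] (f : X ⟶ Y)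
    (hf : LocImm.IsLocImmersion f) (x : X) (V : X.Opens) (hx : x ∈ V) :
    ∃ O : Y.Opens, f x ∈ O ∧ f ⁻¹ᵁ O ≤ V := by
  obtain ⟨O, hO, hxO, hOV⟩ := exists_isOpen_preimage_subset f.continuous hf.2
    (generalizingMap f hf.1) x V.2 hx
  exact ⟨⟨O, hO⟩, hxO, hOV⟩

lemma isEmbedding {X Y : Scheme.{u}} [IsNoetherian X] (f : X ⟶ Y)
    (hf : LocImm.IsLocImmersion f) : Topology.IsEmbedding f := by
  refine ⟨?_, hf.2⟩
  rw [Topology.isInducing_iff_nhds]
  intro x
  apply le_antisymm
  · exact Filter.map_le_iff_le_comap.mp f.continuous.continuousAt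
  · intro O hO
    rw [mem_nhds_iff] at hO
    obtain ⟨O₀, hO₀O, hO₀, hxO₀⟩ := hO
    obtain ⟨U, V, hxV, e, hφ⟩ := hf.1 x
    have hP := isPreimmersion_resLE f U.1 U.2 V.1 V.2 e hφ
    have emb := (f.resLE U.1 V.1 e).isEmbedding
    -- the open subset of `V` given by `O₀`
    have hcomm : ∀ z : V.1.toScheme, U.1.ι ((f.resLE U.1 V.1 e) z) = f (V.1.ι z) := by
      intro z
      rw [← Scheme.Hom.comp_apply, ← Scheme.Hom.comp_apply, Scheme.Hom.resLE_comp_ι]
    have hO₂ : IsOpen (V.1.ι ⁻¹' O₀) := hO₀.preimage V.1.ι.continuous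
    rw [emb.isInducing.isOpen_iff] at hO₂
    obtain ⟨O₃, hO₃, hO₃eq⟩ := hO₂
    obtain ⟨OK, hxOK, hOKV⟩ := exists_opens_preimage_le f hf x V.1 hxV
    have hO₁ : IsOpen (U.1.ι '' O₃) := U.1.ι.isOpenEmbedding.isOpenMap _ hO₃
    rw [Filter.mem_comap]
    refine ⟨U.1.ι '' O₃ ∩ OK, ?_, ?_⟩
    · apply (hO₁.inter OK.2).mem_nhds
      refine ⟨⟨(f.resLE U.1 V.1 e) ⟨x, hxV⟩, ?_, hcomm ⟨x, hxV⟩⟩, hxOK⟩
      have : (⟨x, hxV⟩ : V.1.toScheme) ∈ V.1.ι ⁻¹' O₀ := hxO₀
      rw [← hO₃eq] at this
      exact this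
    · rintro z ⟨⟨w, hw, hwz⟩, hzK⟩
      have hzV : z ∈ V.1 := hOKV hzK
      have hwz' : (f.resLE U.1 V.1 e) ⟨z, hzV⟩ = w := by
        apply U.1.ι.isOpenEmbedding.injective
        rw [hcomm]
        exact hwz.symm
      have : (⟨z, hzV⟩ : V.1.toScheme) ∈ (f.resLE U.1 V.1 e) ⁻¹' O₃ := by
        show (f.resLE U.1 V.1 e) ⟨z, hzV⟩ ∈ O₃
        rw [hwz']; exact hw
      rw [hO₃eq] at this
      exact hO₀O this

open TopologicalSpace in
/-- In a Noetherian quasi-sober space, a closed set stable under generalization is open. -/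
lemma isOpen_of_isClosed_of_stableUnderGeneralization {Y : Type*} [TopologicalSpace Y]
    [NoetherianSpace Y] [QuasiSober Y] {Z : Set Y} (hZ : IsClosed Z)
    (hg : StableUnderGeneralization Z) : IsOpen Z := by
  obtain ⟨S, hSf, hSc, hSi, hSU⟩ :=
    NoetherianSpace.exists_finite_set_isClosed_irreducible (isClosed_univ (X := Y))
  have key : Zᶜ = ⋃ t ∈ {t ∈ S | Disjoint t Z}, t := by
    ext y
    simp only [Set.mem_compl_iff, Set.mem_iUnion, Set.mem_ofPred_eq, exists_prop]
    constructor
    · intro hy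
      have : y ∈ ⋃₀ S := by rw [← hSU]; trivial
      obtain ⟨t, ht, hyt⟩ := this
      refine ⟨t, ⟨ht, ?_⟩, hyt⟩
      rw [Set.disjoint_left]
      intro z hzt hzZ
      obtain ⟨ξ, hξ⟩ := QuasiSober.sober (hSi t ht) (hSc t ht)
      have hξz : ξ ⤳ z := hξ.specializes hzt
      have hξZ : ξ ∈ Z := hg hξz hzZ
      have : t ⊆ Z := by
        rw [← hξ.def]
        exact closure_minimal (Set.singleton_subset_iff.mpr hξZ) hZ
      exact hy (this hyt)
    · rintro ⟨t, ⟨_, hd⟩, hyt⟩ hyZ
      exact Set.disjoint_left.mp hd hyt hyZ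
  rw [← isClosed_compl_iff, key]
  exact (hSf.subset (fun t ht => ht.1)).isClosed_biUnion (fun t ht => hSc t ht.1)

lemma isOpenImmersion_of_isClosed_range {X Y : Scheme.{u}} [IsNoetherian X] [IsNoetherian Y]
    (f : X ⟶ Y) (hf : LocImm.IsLocImmersion f) (hc : IsClosed (Set.range f)) :
    IsOpenImmersion f := by
  have hopen : IsOpen (Set.range f) :=
    isOpen_of_isClosed_of_stableUnderGeneralization hc
      (generalizingMap f hf.1).stableUnderGeneralization_range
  have hemb : Topology.IsOpenEmbedding f := ⟨isEmbedding f hf, hopen⟩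
  have := isIso_stalkMap f hf.1
  exact IsOpenImmersion.of_isIso_stalkMap f hemb

/-- Affine-local structure of a localizing immersion out of a Noetherian scheme: every point of
the image has an affine open neighbourhood `W` with affine preimage and localizing ring map. -/
lemma exists_affine_nhd {X Y : Scheme.{u}} [IsNoetherian X] (f : X ⟶ Y)
    (hf : LocImm.IsLocImmersion f) (x : X) :
    ∃ W : Y.Opens, f x ∈ W ∧ IsAffineOpen W ∧ IsAffineOpen (f ⁻¹ᵁ W) ∧
      LocImm.IsLocHom (f.app W).hom := by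
  obtain ⟨U, V, hxV, e, hφ⟩ := hf.1 x
  obtain ⟨O, hxO, hOV⟩ := exists_opens_preimage_le f hf x V.1 hxV
  obtain ⟨a, haO, hxa⟩ := U.2.exists_basicOpen_le (V := O) ⟨f x, hxO⟩ (e hxV)
  have hW : IsAffineOpen (Y.basicOpen a) := U.2.basicOpen a
  have hpre : f ⁻¹ᵁ Y.basicOpen a = X.basicOpen (f.appLE U.1 V.1 e a) := by
    rw [Scheme.basicOpen_appLE]
    refine (inf_eq_right.mpr ?_).symm
    exact le_trans (f.preimage_mono haO) hOV
  refine ⟨Y.basicOpen a, hxa, hW, hpre ▸ V.2.basicOpen _, ?_⟩
  have h1 : LocHomProp (f.appLE (Y.basicOpen a) (X.basicOpen (f.appLE U.1 V.1 e a))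
      (by rw [hpre])).hom := by
    have i1 := U.2.isLocalization_basicOpen a
    have i2 := V.2.isLocalization_basicOpen (f.appLE U.1 V.1 e a)
    rw [U.2.appLE_eq_away_map f V.2 e a]
    exact locHomProp_isStableUnderBaseChange.localizationPreserves.away _ a _ _ hφ
  unfold Scheme.Hom.appLE at h1
  have hiso : IsIso (X.presheaf.map (homOfLE (show X.basicOpen (f.appLE U.1 V.1 e a) ≤
      f ⁻¹ᵁ Y.basicOpen a by rw [hpre])).op) := by
    have : homOfLE (show X.basicOpen (f.appLE U.1 V.1 e a) ≤
      f ⁻¹ᵁ Y.basicOpen a by rw [hpre]) = eqToHom hpre.symm := Subsingleton.elim _ _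
    rw [this]
    infer_instance
  obtain ⟨g, hg, hg'⟩ : ∃ g : Γ(X, f ⁻¹ᵁ Y.basicOpen a) ⟶
      Γ(X, X.basicOpen (f.appLE U.1 V.1 e a)), IsIso g ∧
        LocHomProp (f.app (Y.basicOpen a) ≫ g).hom := ⟨_, hiso, h1⟩
  exact (locHomProp_respectsIso.cancel_right_isIso _ g).mp hg'

lemma isLocImmersion_of_affine_nhds {X Y : Scheme.{u}} (f : X ⟶ Y)
    (h : ∀ x : X, ∃ W : Y.Opens, f x ∈ W ∧ IsAffineOpen W ∧ IsAffineOpen (f ⁻¹ᵁ W) ∧
      LocImm.IsLocHom (f.app W).hom) : LocImm.IsLocImmersion f := by
  constructor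
  · intro x
    obtain ⟨W, hxW, hW, hW', hφ⟩ := h x
    refine ⟨⟨W, hW⟩, ⟨f ⁻¹ᵁ W, hW'⟩, hxW, le_rfl, ?_⟩
    rw [Scheme.Hom.appLE_eq_app]
    exact hφ
  · intro x x' hxx'
    obtain ⟨W, hxW, hW, hW', hφ⟩ := h x
    have hx : x ∈ f ⁻¹ᵁ W := hxW
    have hx' : x' ∈ f ⁻¹ᵁ W := by
      show f x' ∈ W
      rw [← hxx']; exact hxW
    have hP := isPreimmersion_resLE f W hW (f ⁻¹ᵁ W) hW' le_rfl
      (by rw [Scheme.Hom.appLE_eq_app]; exact hφ)
    have inj := (f.resLE W (f ⁻¹ᵁ W) le_rfl).isEmbedding.injective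
    have hcomm : ∀ z : (f ⁻¹ᵁ W).toScheme,
        W.ι ((f.resLE W (f ⁻¹ᵁ W) le_rfl) z) = f ((f ⁻¹ᵁ W).ι z) := by
      intro z
      rw [← Scheme.Hom.comp_apply, ← Scheme.Hom.comp_apply, Scheme.Hom.resLE_comp_ι]
    have : (⟨x, hx⟩ : (f ⁻¹ᵁ W).toScheme) = ⟨x', hx'⟩ := by
      apply inj
      apply W.ι.isOpenEmbedding.injective
      rw [hcomm, hcomm]
      exact hxx'
    exact congrArg Subtype.val this

lemma map_comap_of_isLocHom {A B : Type*} [CommRing A] [CommRing B] (φ : A →+* B)
    (hφ : LocImm.IsLocHom φ) (J : Ideal B) : (J.comap φ).map φ = J := by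
  let := φ.toAlgebra
  obtain ⟨M, hM⟩ := hφ
  exact IsLocalization.map_under M B J

/-- Every point of a quasi-sober T0 space has a maximal generization. -/
lemma exists_maximal_generization {Z : Type*} [TopologicalSpace Z] [QuasiSober Z] [T0Space Z]
    (z : Z) : ∃ ζ : Z, ζ ⤳ z ∧ ∀ ζ' : Z, ζ' ⤳ ζ → ζ' = ζ := by
  obtain ⟨ζ, hζ⟩ := QuasiSober.sober (isIrreducible_irreducibleComponent (x := z))
    isClosed_irreducibleComponent
  refine ⟨ζ, hζ.specializes mem_irreducibleComponent, ?_⟩
  intro ζ' h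
  have h1 : irreducibleComponent z ⊆ closure {ζ'} := by
    rw [← hζ.def]
    exact closure_minimal (Set.singleton_subset_iff.mpr h.mem_closure) isClosed_closure
  have h2 : closure {ζ'} = irreducibleComponent z :=
    eq_irreducibleComponent isIrreducible_singleton.closure.isPreirreducible h1
  have : Inseparable ζ' ζ := by
    rw [inseparable_iff_closure_eq, h2, hζ.def]
  exact this.eq

open Limits in
/-- A separated localizing morphism which is injective on maximal points is injective. -/
lemma injective_of_isSeparated_of_injOn {X Y : Scheme.{u}} (f : X ⟶ Y)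
    (hf : LocImm.IsLocalizing f) [IsSeparated f]
    (hinj : Set.InjOn (fun x => f x) {x : X | ∀ x' : X, x' ⤳ x → x' = x}) :
    Function.Injective f := by
  intro x₁ x₂ h
  have hs := surjectiveOnStalks f hf
  obtain ⟨z, hz₁, hz₂⟩ := Scheme.Pullback.exists_preimage_pullback (f := f) (g := f) x₁ x₂ h
  obtain ⟨ζ, hζz, hζmax⟩ := exists_maximal_generization z
  have g1 : GeneralizingMap (pullback.fst f f) :=
    generalizingMap _ (isLocalizing_pullback_fst f f hf)
  have g2 : GeneralizingMap (pullback.snd f f) :=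
    generalizingMap _ (isLocalizing_pullback_snd f f hf)
  have m1 : ∀ x' : X, x' ⤳ pullback.fst f f ζ → x' = pullback.fst f f ζ := by
    intro x' hx'
    obtain ⟨ζ', hζ', hfζ'⟩ := g1 hx'
    rw [← hfζ', hζmax ζ' hζ']
  have m2 : ∀ x' : X, x' ⤳ pullback.snd f f ζ → x' = pullback.snd f f ζ := by
    intro x' hx'
    obtain ⟨ζ', hζ', hfζ'⟩ := g2 hx'
    rw [← hfζ', hζmax ζ' hζ']
  have heq : f (pullback.fst f f ζ) = f (pullback.snd f f ζ) := by
    rw [← Scheme.Hom.comp_apply, ← Scheme.Hom.comp_apply, pullback.condition]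
  have hξ : pullback.fst f f ζ = pullback.snd f f ζ := hinj m1 m2 heq
  have hemb := SurjectiveOnStalks.isEmbedding_pullback f f
  have hζΔ : ζ = pullback.diagonal f (pullback.fst f f ζ) := by
    apply hemb.injective
    ext
    · simp only
      rw [← Scheme.Hom.comp_apply, pullback.diagonal_fst]; rfl
    · simp only
      rw [← Scheme.Hom.comp_apply, pullback.diagonal_snd, ← hξ]; rfl
  have hcl : IsClosed (Set.range (pullback.diagonal f)) :=
    (pullback.diagonal f).isClosedEmbedding.isClosed_range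
  have hz : z ∈ Set.range (pullback.diagonal f) := hζz.mem_closed hcl ⟨_, hζΔ.symm⟩
  obtain ⟨d, rfl⟩ := hz
  rw [← hz₁, ← hz₂, ← Scheme.Hom.comp_apply, ← Scheme.Hom.comp_apply, pullback.diagonal_fst,
    pullback.diagonal_snd]

lemma isNoetherianRing_of_isLocHom {A B : Type*} [CommRing A] [CommRing B] (φ : A →+* B)
    (hφ : LocImm.IsLocHom φ) [hA : IsNoetherianRing A] : IsNoetherianRing B := by
  let := φ.toAlgebra
  obtain ⟨M, hM⟩ := hφ
  exact IsLocalization.isNoetherianRing M B hA

lemma isLocallyNoetherian_of_isLocalizing {X Y : Scheme.{u}} (f : X ⟶ Y)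
    (hf : LocImm.IsLocalizing f) [IsLocallyNoetherian Y] : IsLocallyNoetherian X := by
  choose U V hxV e hφ using hf
  apply isLocallyNoetherian_of_affine_cover (S := V)
  · rw [eq_top_iff]
    intro x _
    exact TopologicalSpace.Opens.mem_iSup.mpr ⟨x, hxV x⟩
  · intro x
    have : IsNoetherianRing Γ(Y, (U x).1) := IsLocallyNoetherian.component_noetherian (U x)
    exact isNoetherianRing_of_isLocHom _ (hφ x)

/-- If `α : A → R` is localizing and `β ∘ α` is injective then `β` is injective. -/
lemma injective_of_isLocHom_of_comp_injective {A R D : Type*} [CommRing A] [CommRing R]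
    [CommRing D] (α : A →+* R) (hα : LocImm.IsLocHom α) (β : R →+* D)
    (h : Function.Injective (β.comp α)) : Function.Injective β := by
  let := α.toAlgebra
  obtain ⟨M, hM⟩ := hα
  rw [injective_iff_map_eq_zero]
  intro t ht
  obtain ⟨⟨a, s⟩, hts⟩ := IsLocalization.surj M t
  have h1 : β (α a) = 0 := by
    have : α a = t * α s := hts.symm
    rw [this, map_mul, ht, zero_mul]
  have h2 : a = 0 := by
    apply h
    rw [map_zero]
    exact h1
  have h3 : t * α s = 0 := by
    have : t * α s = α a := hts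
    rw [this, h2, map_zero]
  have hu : IsUnit (α s) := IsLocalization.map_units R s
  exact (hu.mul_left_eq_zero).mp h3

open Limits in
/-- If `h = f ≫ g` is a localizing immersion, `g` is separated and `f` is schematically dominant on
every open, then `f` is a localizing immersion. -/
lemma isLocImmersion_of_comp_aux {X Y Z : Scheme.{u}} [IsNoetherian X] [IsNoetherian Y]
    (f : X ⟶ Y) (g : Y ⟶ Z) (h : X ⟶ Z) (hh : f ≫ g = h) (hfg : LocImm.IsLocImmersion h)
    [IsSeparated g]
    (hd : ∀ U : Y.Opens, Function.Injective (f.app U).hom) : LocImm.IsLocImmersion f := by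
  -- the projection `P = X ×_Z Y → Y`
  have hp2 : LocImm.IsLocImmersion (pullback.snd h g) :=
    isLocImmersion_pullback_snd h g hfg
  -- the graph
  let Γf : X ⟶ pullback h g := pullback.lift (𝟙 X) f (by simp [hh])
  have hΓ1 : Γf ≫ pullback.fst h g = 𝟙 X := pullback.lift_fst _ _ _
  have hΓ2 : Γf ≫ pullback.snd h g = f := pullback.lift_snd _ _ _
  have hcl : IsClosedImmersion Γf := by
    have : IsClosedImmersion (Γf ≫ pullback.fst h g) := by rw [hΓ1]; infer_instance
    exact IsClosedImmersion.of_comp Γf (pullback.fst h g)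
  -- `P` is Noetherian
  have hPln : IsLocallyNoetherian (pullback h g) :=
    isLocallyNoetherian_of_isLocalizing _ hp2.1
  have hPc : CompactSpace ↥(pullback h g) :=
    QuasiCompact.compactSpace_of_compactSpace (pullback.fst h g)
  have hPn : IsNoetherian (pullback h g) := {}
  -- the kernel of the graph vanishes
  have hker : Γf.ker = ⊥ := by
    choose W hxW hW hW' hφ using fun p => exists_affine_nhd (pullback.snd h g) hp2 p
    apply Scheme.IdealSheafData.ext_of_iSup_eq_top
      (fun p : ↑(pullback h g) =>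
        (⟨(pullback.snd h g) ⁻¹ᵁ W p, hW' p⟩ : (pullback h g).affineOpens))
    · rw [eq_top_iff]
      intro p _
      exact TopologicalSpace.Opens.mem_iSup.mpr ⟨p, hxW p⟩
    · intro p
      rw [Scheme.Hom.ker_apply, Scheme.IdealSheafData.ideal_bot, Pi.bot_apply,
        ← RingHom.injective_iff_ker_eq_bot]
      apply injective_of_isLocHom_of_comp_injective _ (hφ p)
      have h1 := hd (W p)
      rw [Scheme.Hom.congr_app hΓ2.symm (W p), Scheme.Hom.comp_app] at h1
      simp only [CommRingCat.hom_comp, RingHom.coe_comp] at h1 ⊢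
      exact Function.Injective.of_comp h1
  have hiso : IsIso Γf := IsClosedImmersion.isIso_iff_ker_eq_bot.mpr hker
  rw [isLocImmersion_iff] at hp2 ⊢
  have := hp2.2
  refine ⟨?_, by rw [← hΓ2]; exact mono_comp _ _⟩
  rw [← hΓ2]
  exact (MorphismProperty.cancel_left_of_respectsIso LocalizingMP Γf _).mpr hp2.1

lemma isLocImmersion_of_comp {X Y Z : Scheme.{u}} [IsNoetherian X] [IsNoetherian Y]
    (f : X ⟶ Y) (g : Y ⟶ Z) (hfg : LocImm.IsLocImmersion (f ≫ g)) [IsSeparated g]
    (hd : ∀ U : Y.Opens, Function.Injective (f.app U).hom) : LocImm.IsLocImmersion f :=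
  isLocImmersion_of_comp_aux f g (f ≫ g) rfl hfg hd

end Groth.Agent.Lib.helper27.LocImmLib
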