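import Mathlib

/-! Finite algebras over a local ring: maximal ideals, products of local rings. -/

namespace Groth.Agent.Lib.helper27.LocalProd

open IsLocalRing

set_option linter.unusedSectionVars false
set_option linter.unusedVariables false
set_option linter.style.haveILetI false

section general

variable {A : Type*} [CommRing A] [IsLocalRing A] {B : Type*} [CommRing B] [Algebra A B]
  [Module.Finite A B]

/-- every maximal ideal of a finite algebra over a local ring contains `𝔪B`. -/
theorem map_le_of_isMaximal (n : Ideal B) [n.IsMaximal] :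
    (maximalIdeal A).map (algebraMap A B) ≤ n := by
  have : (n.comap (algebraMap A B)).IsMaximal := Ideal.isMaximal_comap_of_isIntegral_of_isMaximal n
  have h := IsLocalRing.eq_maximalIdeal this
  rw [Ideal.map_le_iff_le_comap, h]

theorem isArtinianRing_quotient :
    IsArtinianRing (B ⧸ (maximalIdeal A).map (algebraMap A B)) := by
  letI : Field (A ⧸ maximalIdeal A) := Ideal.Quotient.field _
  have : Module.Finite (A ⧸ maximalIdeal A) (B ⧸ (maximalIdeal A).map (algebraMap A B)) :=
    Module.Finite.of_restrictScalars_finite A _ _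
  exact IsArtinianRing.of_finite (A ⧸ maximalIdeal A) _

theorem finite_maximalSpectrum (A : Type*) [CommRing A] [IsLocalRing A] (B : Type*) [CommRing B]
    [Algebra A B] [Module.Finite A B] : Finite (MaximalSpectrum B) := by
  have hart := isArtinianRing_quotient (A := A) (B := B)
  have hfin : (Set.range (PrimeSpectrum.comap
      (Ideal.Quotient.mk ((maximalIdeal A).map (algebraMap A B))))).Finite := Set.finite_range _
  have hsub : Set.range (MaximalSpectrum.toPrimeSpectrum : MaximalSpectrum B → PrimeSpectrum B) ⊆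
      Set.range (PrimeSpectrum.comap
        (Ideal.Quotient.mk ((maximalIdeal A).map (algebraMap A B)))) := by
    rintro _ ⟨n, rfl⟩
    rw [_root_.range_comap_of_surjective _ _ Ideal.Quotient.mk_surjective,
      PrimeSpectrum.mem_zeroLocus, Ideal.mk_ker]
    exact map_le_of_isMaximal n.asIdeal
  have : Finite (Set.range (MaximalSpectrum.toPrimeSpectrum : MaximalSpectrum B → PrimeSpectrum B)) :=
    (hfin.subset hsub).to_subtype
  exact Finite.of_injective_finite_range MaximalSpectrum.toPrimeSpectrum_injective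

end general

section idem

variable {R : Type*} [CommRing R]

/-- an idempotent lying in every maximal ideal vanishes. -/
theorem idem_eq_zero_of_forall_mem_maximal {e : R} (he : IsIdempotentElem e)
    (h : ∀ n : Ideal R, n.IsMaximal → e ∈ n) : e = 0 := by
  by_contra hne
  -- `1 - e` is a unit, since it lies in no maximal ideal
  have hu : IsUnit (1 - e) := by
    by_contra hnu
    obtain ⟨n, hn, hmem⟩ := exists_max_ideal_of_mem_nonunits hnu
    have := n.add_mem hmem (h n hn)
    rw [sub_add_cancel] at this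
    exact hn.ne_top ((Ideal.eq_top_iff_one _).mpr this)
  have h0 : e * (1 - e) = 0 := by rw [mul_sub, mul_one, he.eq, sub_self]
  exact hne (hu.mul_left_eq_zero.mp h0)

/-- two idempotents congruent modulo every maximal ideal are equal. -/
theorem idem_eq_of_forall_sub_mem_maximal {e f : R} (he : IsIdempotentElem e)
    (hf : IsIdempotentElem f) (h : ∀ n : Ideal R, n.IsMaximal → e - f ∈ n) : e = f := by
  have h3 : (e - f) * (1 - (e - f) ^ 2) = 0 := by
    have he' : e * e = e := he
    have hf' : f * f = f := hf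
    have e3 : e ^ 3 = e := by rw [pow_succ, pow_two, he', he']
    have f3 : f ^ 3 = f := by rw [pow_succ, pow_two, hf', hf']
    have e2 : e ^ 2 = e := by rw [pow_two, he']
    have f2 : f ^ 2 = f := by rw [pow_two, hf']
    linear_combination (-1 : R) * e3 + f3 + (3 * f) * e2 - (3 * e) * f2
  have hu : IsUnit (1 - (e - f) ^ 2) := by
    by_contra hnu
    obtain ⟨n, hn, hmem⟩ := exists_max_ideal_of_mem_nonunits hnu
    have h1 : (e - f) ^ 2 ∈ n := n.pow_mem_of_mem (h n hn) 2 (by norm_num)
    have := n.add_mem hmem h1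
    rw [sub_add_cancel] at this
    exact hn.ne_top ((Ideal.eq_top_iff_one _).mpr this)
  exact sub_eq_zero.mp (hu.mul_left_eq_zero.mp h3)

end idem

section pi

variable {ι : Type*} [Fintype ι] [DecidableEq ι] (C : ι → Type*) [∀ j, CommRing (C j)]
  [∀ j, IsLocalRing (C j)]

/-- the maximal ideal of the product attached to the index `j`. -/
def piMax (j : ι) : Ideal (∀ j, C j) := (maximalIdeal (C j)).comap (Pi.evalRingHom C j)

instance piMax_isMaximal (j : ι) : (piMax C j).IsMaximal :=
  Ideal.comap_isMaximal_of_surjective _ (fun c => ⟨Function.update (0 : ∀ j, C j) j c, by simp⟩)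

theorem mem_piMax {j : ι} {r : ∀ j, C j} : r ∈ piMax C j ↔ r j ∈ maximalIdeal (C j) := Iff.rfl

theorem single_one_notMem_piMax (j : ι) : (Pi.single j 1 : ∀ j, C j) ∉ piMax C j := by
  rw [mem_piMax, Pi.single_eq_same]
  exact fun h => (maximalIdeal.isMaximal (C j)).ne_top ((Ideal.eq_top_iff_one _).mpr h)

theorem exists_eq_piMax (I : Ideal (∀ j, C j)) [hI : I.IsMaximal] : ∃ j, I = piMax C j := by
  have h1 : ∃ j, (Pi.single j 1 : ∀ j, C j) ∉ I := by
    by_contra h
    push Not at h
    have : (1 : ∀ j, C j) ∈ I := by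
      rw [← Finset.univ_sum_single (1 : ∀ j, C j)]
      exact I.sum_mem (fun j _ => h j)
    exact hI.ne_top ((Ideal.eq_top_iff_one _).mpr this)
  obtain ⟨j, hj⟩ := h1
  refine ⟨j, ?_⟩
  apply hI.eq_of_le (piMax_isMaximal C j).ne_top
  intro r hr
  by_contra hrj
  rw [mem_piMax, mem_maximalIdeal, mem_nonunits_iff, not_not] at hrj
  obtain ⟨u, hu⟩ := hrj
  apply hj
  have : (Pi.single j 1 : ∀ j, C j) = r * Pi.single j (↑u⁻¹ : C j) := by
    ext i
    by_cases h : i = j
    · subst h; simp [← hu]
    · simp [Pi.single_apply, h]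
  rw [this]
  exact I.mul_mem_right _ hr

theorem toPiLocalization_pi_surjective :
    Function.Surjective (MaximalSpectrum.toPiLocalization (∀ j, C j)) := by
  intro x
  have hrep : ∀ j, ∃ (a : ∀ j, C j) (s : (piMax C j).primeCompl),
      x ⟨piMax C j, piMax_isMaximal C j⟩ = IsLocalization.mk' _ a s := fun j => by
    obtain ⟨a, s, h⟩ := IsLocalization.exists_mk'_eq (piMax C j).primeCompl
      (x ⟨piMax C j, piMax_isMaximal C j⟩)
    exact ⟨a, s, h.symm⟩
  choose a s hx using hrep
  have hsu : ∀ j, IsUnit ((s j : ∀ j, C j) j) := by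
    intro j
    have := (s j).2
    rw [Ideal.mem_primeCompl_iff, mem_piMax, mem_maximalIdeal, mem_nonunits_iff, not_not] at this
    exact this
  refine ⟨fun j => a j j * ((hsu j).unit⁻¹ : (C j)ˣ), ?_⟩
  funext I
  obtain ⟨I, hImax⟩ := I
  obtain ⟨j, hI⟩ := exists_eq_piMax C I
  subst hI
  rw [MaximalSpectrum.toPiLocalization_apply_apply, hx j, IsLocalization.eq_mk'_iff_mul_eq, ← map_mul,
    IsLocalization.eq_iff_exists (piMax C j).primeCompl]
  refine ⟨⟨Pi.single j 1, single_one_notMem_piMax C j⟩, ?_⟩
  ext i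
  by_cases h : i = j
  · subst h
    simp only [Pi.mul_apply, Pi.single_eq_same, one_mul]
    rw [mul_assoc]
    have : ((hsu i).unit⁻¹ : (C i)ˣ) * ((s i : ∀ j, C j) i) = (1 : C i) := by
      have := (hsu i).unit.inv_mul
      simp
    rw [this, mul_one]
  · simp [Pi.single_apply, h]

/-- a ring isomorphic to a finite product of local rings maps onto the product of its
localisations at maximal ideals. -/
theorem toPiLocalization_surjective_of_equiv {B : Type*} [CommRing B] (σ : B ≃+* ∀ j, C j) :
    Function.Surjective (MaximalSpectrum.toPiLocalization B) := by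
  intro x
  have hbij : Function.Bijective (σ : B →+* ∀ j, C j) := σ.bijective
  obtain ⟨r, hr⟩ := toPiLocalization_pi_surjective C
    (MaximalSpectrum.mapPiLocalization (σ : B →+* ∀ j, C j) hbij x)
  refine ⟨σ.symm r, ?_⟩
  apply (MaximalSpectrum.mapPiLocalization_bijective (σ : B →+* ∀ j, C j) hbij).1
  have h := congrArg (fun F => F (σ.symm r))
    (MaximalSpectrum.mapPiLocalization_naturality (σ : B →+* ∀ j, C j) hbij)
  simp only [RingHom.comp_apply] at h
  refine h.trans ?_
  rw [← hr]
  simp

end pi

section lift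

variable {A : Type*} [CommRing A] [IsLocalRing A] {B : Type*} [CommRing B] [Algebra A B]
  [Module.Finite A B]

/-- separating idempotents from idempotent lifting. -/
theorem exists_separating_idempotent
    (hlift : Set.SurjOn (Ideal.Quotient.mk (Ideal.map (algebraMap A B) (maximalIdeal A)))
        {e : B | IsIdempotentElem e} {e | IsIdempotentElem e})
    (n : MaximalSpectrum B) :
    ∃ e : B, IsIdempotentElem e ∧ 1 - e ∈ n.asIdeal ∧
      ∀ n' : MaximalSpectrum B, n' ≠ n → e ∈ n'.asIdeal := by
  classical
  have hfin := finite_maximalSpectrum A B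
  have hart := isArtinianRing_quotient (A := A) (B := B)
  set I := Ideal.map (algebraMap A B) (maximalIdeal A) with hI
  -- CRT element
  have hcop : Pairwise (Function.onFun IsCoprime fun n : MaximalSpectrum B => n.asIdeal) := by
    intro n₁ n₂ h
    rw [Function.onFun, Ideal.isCoprime_iff_sup_eq]
    exact n₁.isMaximal.coprime_of_ne n₂.isMaximal (fun h' => h (MaximalSpectrum.ext h'))
  obtain ⟨x, hx⟩ := Ideal.exists_forall_sub_mem_ideal hcop
    (fun n' : MaximalSpectrum B => if n' = n then (1 : B) else 0)
  have hxn : x - 1 ∈ n.asIdeal := by simpa using hx n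
  have hxn' : ∀ n' : MaximalSpectrum B, n' ≠ n → x ∈ n'.asIdeal := by
    intro n' h
    simpa [h] using hx n'
  -- the Jacobson radical of `B`
  set J : Ideal B := ⨅ n' : MaximalSpectrum B, n'.asIdeal with hJ
  have hIJ : I ≤ J := by
    rw [hJ, le_iInf_iff]
    intro n'
    haveI := n'.isMaximal
    exact map_le_of_isMaximal n'.asIdeal
  have hmemJ : ∀ y : B, y ∈ J ↔ ∀ n' : MaximalSpectrum B, y ∈ n'.asIdeal := fun y => by
    rw [hJ, Ideal.mem_iInf]
  let π : B ⧸ I →+* B ⧸ J := Ideal.Quotient.factor hIJ
  have hπ : ∀ y : B, π (Ideal.Quotient.mk I y) = Ideal.Quotient.mk J y := fun y => by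
    simp [π]
  have hnil : ∀ z ∈ RingHom.ker π, IsNilpotent z := by
    intro z hz
    obtain ⟨y, rfl⟩ := Ideal.Quotient.mk_surjective z
    rw [RingHom.mem_ker, hπ, Ideal.Quotient.eq_zero_iff_mem, hmemJ] at hz
    rw [← mem_nilradical, nilradical_eq_sInf, Ideal.mem_sInf]
    intro p hp
    have hp' : p.IsPrime := hp
    have hpm : p.IsMaximal := IsArtinianRing.isPrime_iff_isMaximal p |>.mp hp'
    have hc : (p.comap (Ideal.Quotient.mk I)).IsMaximal :=
      Ideal.comap_isMaximal_of_surjective _ Ideal.Quotient.mk_surjective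
    exact hz ⟨_, hc⟩
  have hidem : IsIdempotentElem (Ideal.Quotient.mk J x) := by
    rw [IsIdempotentElem, ← map_mul, ← sub_eq_zero, ← map_sub, Ideal.Quotient.eq_zero_iff_mem, hmemJ]
    intro n'
    have : x * x - x = x * (x - 1) := by ring
    rw [this]
    by_cases h : n' = n
    · subst h; exact Ideal.mul_mem_left _ _ hxn
    · exact Ideal.mul_mem_right _ _ (hxn' n' h)
  obtain ⟨ebar, hebar, hπe⟩ := exists_isIdempotentElem_eq_of_ker_isNilpotent π hnil
    (Ideal.Quotient.mk J x) ⟨Ideal.Quotient.mk I x, hπ x⟩ hidem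
  obtain ⟨e, he, hee⟩ := hlift hebar
  have he' : IsIdempotentElem e := he
  have hex : e - x ∈ J := by
    rw [← Ideal.Quotient.eq_zero_iff_mem, map_sub, ← hπ e, hee, hπe, sub_self]
  rw [hmemJ] at hex
  refine ⟨e, he', ?_, ?_⟩
  · have : 1 - e = -(e - x) - (x - 1) := by ring
    rw [this]
    exact n.asIdeal.sub_mem (n.asIdeal.neg_mem (hex n)) hxn
  · intro n' h
    have : e = (e - x) + x := by ring
    rw [this]
    exact n'.asIdeal.add_mem (hex n') (hxn' n' h)

theorem toPiLocalization_surjective_of_lift
    (hlift : Set.SurjOn (Ideal.Quotient.mk (Ideal.map (algebraMap A B) (maximalIdeal A)))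
        {e : B | IsIdempotentElem e} {e | IsIdempotentElem e}) :
    Function.Surjective (MaximalSpectrum.toPiLocalization B) := by
  classical
  have hfin := finite_maximalSpectrum A B
  have hft : Fintype (MaximalSpectrum B) := Fintype.ofFinite _
  choose e he he1 he2 using exists_separating_idempotent (A := A) (B := B) hlift
  -- orthogonality
  have horth : ∀ n n' : MaximalSpectrum B, n ≠ n' → e n * e n' = 0 := by
    intro n n' h
    apply idem_eq_zero_of_forall_mem_maximal ((he n).mul (he n'))
    intro n'' hn''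
    by_cases h1 : (⟨n'', hn''⟩ : MaximalSpectrum B) = n
    · have : (⟨n'', hn''⟩ : MaximalSpectrum B) ≠ n' := fun h2 => h (h1.symm.trans h2)
      exact Ideal.mul_mem_left _ _ (he2 n' ⟨n'', hn''⟩ this)
    · exact Ideal.mul_mem_right _ _ (he2 n ⟨n'', hn''⟩ h1)
  intro x
  have hrep : ∀ n : MaximalSpectrum B, ∃ (a : B) (s : n.asIdeal.primeCompl),
      x n = IsLocalization.mk' _ a s := fun n => by
    obtain ⟨a, s, h⟩ := IsLocalization.exists_mk'_eq n.asIdeal.primeCompl (x n)
    exact ⟨a, s, h.symm⟩
  choose a s hx using hrep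
  -- `s n` is invertible modulo `1 - e n`
  have hinv : ∀ n : MaximalSpectrum B, ∃ t c : B, t * (s n : B) + c * (1 - e n) = 1 := by
    intro n
    have htop : Ideal.span {(s n : B), 1 - e n} = ⊤ := by
      by_contra hne
      obtain ⟨n'', hn'', hle⟩ := Ideal.exists_le_maximal _ hne
      have h1 : (s n : B) ∈ n'' := hle (Ideal.subset_span (by simp))
      have h2 : 1 - e n ∈ n'' := hle (Ideal.subset_span (by simp))
      by_cases h : (⟨n'', hn''⟩ : MaximalSpectrum B) = n
      · subst h
        exact (s ⟨n'', hn''⟩).2 h1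
      · have h3 := he2 n ⟨n'', hn''⟩ h
        have := n''.add_mem h2 h3
        rw [sub_add_cancel] at this
        exact hn''.ne_top ((Ideal.eq_top_iff_one _).mpr this)
    have h1 : (1 : B) ∈ Ideal.span {(s n : B), 1 - e n} := by rw [htop]; trivial
    rw [Ideal.mem_span_pair] at h1
    obtain ⟨t, c, h⟩ := h1
    exact ⟨t, c, h⟩
  choose t c htc using hinv
  refine ⟨∑ n, a n * t n * e n, ?_⟩
  funext n
  rw [MaximalSpectrum.toPiLocalization_apply_apply, hx n, IsLocalization.eq_mk'_iff_mul_eq, ← map_mul,
    IsLocalization.eq_iff_exists n.asIdeal.primeCompl]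
  refine ⟨⟨e n, ?_⟩, ?_⟩
  · intro hmem
    have := n.asIdeal.add_mem (he1 n) hmem
    rw [sub_add_cancel] at this
    exact n.isMaximal.ne_top ((Ideal.eq_top_iff_one _).mpr this)
  · change e n * ((∑ n', a n' * t n' * e n') * (s n : B)) = e n * a n
    have hsum : e n * (∑ n', a n' * t n' * e n') = a n * t n * e n := by
      rw [Finset.mul_sum, Finset.sum_eq_single n]
      · have := (he n).eq
        linear_combination (a n * t n) * this
      · intro n' _ hne
        have := horth n n' (Ne.symm hne)
        linear_combination (a n' * t n') * this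
      · intro h; exact absurd (Finset.mem_univ n) h
    rw [← mul_assoc, hsum]
    have h1 := htc n
    have h2 : e n * (1 - e n) = 0 := by rw [mul_sub, mul_one, (he n).eq, sub_self]
    linear_combination (a n * e n) * h1 - (a n * c n) * h2

/-- idempotents of `B/𝔪B` lift when `B` is a finite product of local rings. -/
theorem surjOn_idem_of_equiv {ι : Type*} [Fintype ι] [DecidableEq ι] (C : ι → Type*)
    [∀ j, CommRing (C j)] [∀ j, IsLocalRing (C j)] (σ : B ≃+* ∀ j, C j) :
    Set.SurjOn (Ideal.Quotient.mk (Ideal.map (algebraMap A B) (maximalIdeal A)))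
      {e : B | IsIdempotentElem e} {e | IsIdempotentElem e} := by
  classical
  intro ebar hebar
  obtain ⟨b, rfl⟩ := Ideal.Quotient.mk_surjective ebar
  set I := Ideal.map (algebraMap A B) (maximalIdeal A) with hI
  have hebar' : IsIdempotentElem (Ideal.Quotient.mk I b) := hebar
  have hb : b * b - b ∈ I := by
    rw [← Ideal.Quotient.eq_zero_iff_mem, map_sub, map_mul, sub_eq_zero]; exact hebar'
  have hnj : ∀ j, I ≤ (piMax C j).comap (σ : B →+* ∀ j, C j) := fun j => by
    haveI : ((piMax C j).comap (σ : B →+* ∀ j, C j)).IsMaximal :=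
      Ideal.comap_isMaximal_of_surjective _ σ.surjective
    exact map_le_of_isMaximal _
  have hcj : ∀ j, σ b j * σ b j - σ b j ∈ maximalIdeal (C j) := fun j => by
    have := hnj j hb
    rw [Ideal.mem_comap, mem_piMax] at this
    simpa using this
  let ε : ∀ j, C j := fun j => if σ b j ∈ maximalIdeal (C j) then 0 else 1
  have hε : ε * ε = ε := by
    funext j
    simp only [ε, Pi.mul_apply]
    split_ifs <;> simp
  have hidem : IsIdempotentElem (σ.symm ε) := by
    rw [IsIdempotentElem, ← map_mul, hε]
  refine ⟨σ.symm ε, hidem, ?_⟩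
  apply idem_eq_of_forall_sub_mem_maximal (hidem.map (Ideal.Quotient.mk I)) hebar'
  intro nbar hnbar
  have hn : (nbar.comap (Ideal.Quotient.mk I)).IsMaximal :=
    Ideal.comap_isMaximal_of_surjective _ Ideal.Quotient.mk_surjective
  have hJ : ((nbar.comap (Ideal.Quotient.mk I)).map (σ : B →+* ∀ j, C j)).IsMaximal :=
    Ideal.map_isMaximal_of_equiv σ
  obtain ⟨j, hj⟩ := exists_eq_piMax C ((nbar.comap (Ideal.Quotient.mk I)).map (σ : B →+* ∀ j, C j))
  have hcm := Ideal.comap_map_of_bijective (σ : B →+* ∀ j, C j) σ.bijective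
    (I := nbar.comap (Ideal.Quotient.mk I))
  rw [hj] at hcm
  rw [← map_sub, ← Ideal.mem_comap, ← hcm, Ideal.mem_comap, mem_piMax]
  have h1 : ((σ : B →+* ∀ j, C j) (σ.symm ε - b)) j = ε j - σ b j := by simp
  rw [h1]
  by_cases hc : σ b j ∈ maximalIdeal (C j)
  · simp only [ε, if_pos hc, zero_sub]
    exact (maximalIdeal (C j)).neg_mem hc
  · simp only [ε, if_neg hc]
    have h2 : σ b j * (σ b j - 1) ∈ maximalIdeal (C j) := by
      have := hcj j
      rwa [mul_sub, mul_one]
    have h3 := ((maximalIdeal.isMaximal (C j)).isPrime.mem_or_mem h2).resolve_left hc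
    have : (1 : C j) - σ b j = -(σ b j - 1) := by ring
    rw [this]
    exact (maximalIdeal (C j)).neg_mem h3

end lift

end Groth.Agent.Lib.helper27.LocalProd
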