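import Mathlib

/-!
Helper library (helper27): Hopf algebras whose augmentation ideal is free of rank one
(group schemes of order two).
-/

set_option autoImplicit false

namespace Groth.Agent.Lib.helper27.OrderTwo

open scoped TensorProduct

universe u v

variable {R : Type u} [CommRing R] {A : Type v} [CommRing A] [Bialgebra R A]

/-- `x` generates freely the augmentation ideal. -/
structure Gen (R : Type u) [CommRing R] {A : Type v} [CommRing A] [Bialgebra R A] (x : A) : Prop where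
  hx : Bialgebra.counitAlgHom R A x = 0
  hgen : ∀ f : A, Bialgebra.counitAlgHom R A f = 0 → ∃ r : R, f = r • x
  hfree : ∀ r : R, r • x = 0 → r = 0

variable {x : A}

theorem Gen.decomp (h : Gen R x) (f : A) :
    ∃ r : R, f = (Bialgebra.counitAlgHom R A f) • (1 : A) + r • x := by
  have h0 : Bialgebra.counitAlgHom R A (f - (Bialgebra.counitAlgHom R A f) • (1 : A)) = 0 := by
    rw [map_sub, map_smul, map_one, smul_eq_mul, mul_one, sub_self]
  obtain ⟨r, hr⟩ := h.hgen _ h0
  exact ⟨r, by rw [← hr]; abel⟩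

theorem Gen.li (h : Gen R x) : LinearIndependent R ![(1 : A), x] := by
  rw [LinearIndependent.pair_iff]
  intro s t hst
  have h1 := congrArg (Bialgebra.counitAlgHom R A) hst
  rw [map_add, map_smul, map_smul, map_one, h.hx, smul_zero, add_zero, map_zero, smul_eq_mul,
    mul_one] at h1
  subst h1
  rw [zero_smul, zero_add] at hst
  exact ⟨rfl, h.hfree t hst⟩

theorem Gen.span (h : Gen R x) : ⊤ ≤ Submodule.span R (Set.range ![(1 : A), x]) := by
  intro f _
  obtain ⟨r, hr⟩ := h.decomp f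
  rw [hr]
  apply Submodule.add_mem
  · exact Submodule.smul_mem _ _ (Submodule.subset_span ⟨0, rfl⟩)
  · exact Submodule.smul_mem _ _ (Submodule.subset_span ⟨1, rfl⟩)

/-- The basis `{1, x}` of `A`. -/
noncomputable def Gen.basis (h : Gen R x) : Module.Basis (Fin 2) R A :=
  Module.Basis.mk h.li h.span

@[simp] theorem Gen.basis_zero (h : Gen R x) : h.basis 0 = 1 := by
  simp [Gen.basis]

@[simp] theorem Gen.basis_one (h : Gen R x) : h.basis 1 = x := by
  simp [Gen.basis]

/-- The basis `{1⊗1, 1⊗x, x⊗1, x⊗x}` of `A ⊗ A`. -/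
noncomputable def Gen.tbasis (h : Gen R x) : Module.Basis (Fin 2 × Fin 2) R (A ⊗[R] A) :=
  h.basis.tensorProduct h.basis

theorem Gen.tbasis_apply (h : Gen R x) (i j : Fin 2) : h.tbasis (i, j) = h.basis i ⊗ₜ[R] h.basis j := by
  simp [Gen.tbasis, Module.Basis.tensorProduct_apply]

/-- Every element of `A ⊗ A` is a combination of `1⊗1, 1⊗x, x⊗1, x⊗x`. -/
theorem Gen.tdecomp (h : Gen R x) (t : A ⊗[R] A) :
    ∃ α β γ δ : R, t = α • ((1 : A) ⊗ₜ[R] (1 : A)) + β • (x ⊗ₜ[R] (1 : A)) + γ • ((1 : A) ⊗ₜ[R] x)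
      + δ • (x ⊗ₜ[R] x) := by
  refine ⟨h.tbasis.repr t (0, 0), h.tbasis.repr t (1, 0), h.tbasis.repr t (0, 1),
    h.tbasis.repr t (1, 1), ?_⟩
  conv_lhs => rw [← h.tbasis.sum_repr t]
  rw [Fintype.sum_prod_type]
  simp only [Fin.sum_univ_two, h.tbasis_apply, h.basis_zero, h.basis_one]
  abel

/-- Uniqueness of coefficients in `A ⊗ A`. -/
theorem Gen.tcoeff_eq_zero (h : Gen R x) {α β γ δ : R}
    (h0 : α • ((1 : A) ⊗ₜ[R] (1 : A)) + β • (x ⊗ₜ[R] (1 : A)) + γ • ((1 : A) ⊗ₜ[R] x)
      + δ • (x ⊗ₜ[R] x) = 0) : α = 0 ∧ β = 0 ∧ γ = 0 ∧ δ = 0 := by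
  have hli := h.tbasis.linearIndependent
  rw [Fintype.linearIndependent_iff] at hli
  let g : Fin 2 × Fin 2 → R := fun ij =>
    if ij = (0, 0) then α else if ij = (1, 0) then β else if ij = (0, 1) then γ else δ
  have hg : ∑ i, g i • h.tbasis i = 0 := by
    rw [Fintype.sum_prod_type]
    simp only [Fin.sum_univ_two, h.tbasis_apply, h.basis_zero, h.basis_one]
    rw [← h0]
    simp only [g]
    simp
    abel
  have := hli g hg
  refine ⟨by simpa [g] using this (0, 0), by simpa [g] using this (1, 0),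
    by simpa [g] using this (0, 1), by simpa [g] using this (1, 1)⟩

section mkHom

variable {A' : Type v} [CommRing A'] [Bialgebra R A']

/-- The linear map `1 ↦ 1`, `x ↦ y`. -/
noncomputable def Gen.lin (h : Gen R x) (y : A') : A →ₗ[R] A' := h.basis.constr R ![1, y]

@[simp] theorem Gen.lin_one (h : Gen R x) (y : A') : h.lin y 1 = 1 := by
  have := h.basis.constr_basis R ![(1 : A'), y] 0
  simpa [Gen.lin] using this

@[simp] theorem Gen.lin_x (h : Gen R x) (y : A') : h.lin y x = y := by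
  have := h.basis.constr_basis R ![(1 : A'), y] 1
  simpa [Gen.lin] using this

theorem Gen.lin_mul (h : Gen R x) {a : R} (ha : x * x = a • x) (y : A') (hy : y * y = a • y)
    (f g : A) : h.lin y (f * g) = h.lin y f * h.lin y g := by
  have key : (LinearMap.mul R A).compr₂ (h.lin y) = (LinearMap.mul R A').compl₁₂ (h.lin y) (h.lin y) := by
    apply LinearMap.ext_basis h.basis h.basis
    intro i j
    fin_cases i <;> fin_cases j <;> simp [ha, hy]
  exact congr($key f g)

/-- The algebra hom `x ↦ y`, provided `y` satisfies the same quadratic relation. -/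
noncomputable def Gen.algHom (h : Gen R x) {a : R} (ha : x * x = a • x) (y : A') (hy : y * y = a • y) :
    A →ₐ[R] A' :=
  AlgHom.ofLinearMap (h.lin y) (h.lin_one y) (h.lin_mul ha y hy)

@[simp] theorem Gen.algHom_x (h : Gen R x) {a : R} (ha : x * x = a • x) (y : A') (hy : y * y = a • y) :
    h.algHom ha y hy x = y := by
  simp [Gen.algHom]

theorem Gen.algHom_ext (h : Gen R x) {B : Type*} [Semiring B] [Algebra R B] (f g : A →ₐ[R] B)
    (hfg : f x = g x) : f = g := by
  apply AlgHom.toLinearMap_injective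
  apply h.basis.ext
  intro i
  fin_cases i <;> simp [hfg]

/-- The bialgebra hom `x ↦ y`. -/
noncomputable def Gen.bialgHom (h : Gen R x) {a b : R} (ha : x * x = a • x)
    (hΔ : Coalgebra.comul (R := R) x = x ⊗ₜ[R] 1 + 1 ⊗ₜ[R] x + b • (x ⊗ₜ[R] x))
    (y : A') (hy : y * y = a • y) (hεy : Coalgebra.counit (R := R) y = 0)
    (hΔy : Coalgebra.comul (R := R) y = y ⊗ₜ[R] 1 + 1 ⊗ₜ[R] y + b • (y ⊗ₜ[R] y)) : A →ₐc[R] A' :=
  BialgHom.ofAlgHom (h.algHom ha y hy)
    (by
      apply h.algHom_ext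
      have hx := h.hx
      simp only [AlgHom.comp_apply, Gen.algHom_x, Bialgebra.counitAlgHom_apply] at hx ⊢
      rw [hεy, hx])
    (by
      apply h.algHom_ext
      simp only [AlgHom.comp_apply, Gen.algHom_x, Bialgebra.comulAlgHom_apply, hΔ, hΔy, map_add,
        map_smul, Algebra.TensorProduct.map_tmul, map_one])

@[simp] theorem Gen.bialgHom_x (h : Gen R x) {a b : R} (ha : x * x = a • x)
    (hΔ : Coalgebra.comul (R := R) x = x ⊗ₜ[R] 1 + 1 ⊗ₜ[R] x + b • (x ⊗ₜ[R] x))
    (y : A') (hy : y * y = a • y) (hεy : Coalgebra.counit (R := R) y = 0)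
    (hΔy : Coalgebra.comul (R := R) y = y ⊗ₜ[R] 1 + 1 ⊗ₜ[R] y + b • (y ⊗ₜ[R] y)) :
    h.bialgHom ha hΔ y hy hεy hΔy x = y := by
  simp [Gen.bialgHom]

end mkHom

end Groth.Agent.Lib.helper27.OrderTwo
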