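import Mathlib

/-! Two projective plane curves over an algebraically closed field meet. -/

namespace Groth.Agent.Lib.helper27.PlaneBezout

open MvPolynomial

variable {K : Type*} [Field K]

/-- φ₁ : kill X 0 -/
noncomputable def phi1 : MvPolynomial (Fin 3) K →ₐ[K] MvPolynomial (Fin 3) K :=
  aeval ![0, X 1, X 2]
noncomputable def phi2 : MvPolynomial (Fin 3) K →ₐ[K] MvPolynomial (Fin 3) K :=
  aeval ![0, 0, X 2]
noncomputable def phi3 : MvPolynomial (Fin 3) K →ₐ[K] K :=
  aeval (0 : Fin 3 → K)

theorem phi2_phi1 (p : MvPolynomial (Fin 3) K) : phi2 (phi1 p) = phi2 p := by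
  have : (phi2 (K := K)).comp phi1 = phi2 := by
    apply MvPolynomial.algHom_ext
    intro i
    fin_cases i <;> simp [phi1, phi2]
  exact congrArg (fun F : MvPolynomial (Fin 3) K →ₐ[K] MvPolynomial (Fin 3) K => F p) this

theorem phi3_phi2 (p : MvPolynomial (Fin 3) K) : phi3 (phi2 p) = phi3 p := by
  have : (phi3 (K := K)).comp phi2 = phi3 := by
    apply MvPolynomial.algHom_ext
    intro i
    fin_cases i <;> simp [phi3, phi2]
  exact congrArg (fun F : MvPolynomial (Fin 3) K →ₐ[K] K => F p) this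

theorem height_ker_phi3 : (3 : ℕ∞) ≤ (RingHom.ker (phi3 (K := K))).height := by
  have hp1 : (RingHom.ker (phi1 (K := K))).IsPrime := RingHom.ker_isPrime _
  have hp2 : (RingHom.ker (phi2 (K := K))).IsPrime := RingHom.ker_isPrime _
  have hp3 : (RingHom.ker (phi3 (K := K))).IsPrime := RingHom.ker_isPrime _
  have hbot : (⊥ : Ideal (MvPolynomial (Fin 3) K)).IsPrime := Ideal.isPrime_bot
  have l01 : (⊥ : Ideal (MvPolynomial (Fin 3) K)) < RingHom.ker (phi1 (K := K)) := by
    rw [bot_lt_iff_ne_bot]
    intro h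
    have : (X 0 : MvPolynomial (Fin 3) K) ∈ RingHom.ker (phi1 (K := K)) := by
      simp [RingHom.mem_ker, phi1]
    rw [h, Ideal.mem_bot] at this
    exact X_ne_zero _ this
  have l12 : RingHom.ker (phi1 (K := K)) < RingHom.ker (phi2 (K := K)) := by
    refine lt_of_le_of_ne ?_ ?_
    · intro p hp
      rw [RingHom.mem_ker] at hp ⊢
      rw [← phi2_phi1, hp, map_zero]
    · intro h
      have : (X 1 : MvPolynomial (Fin 3) K) ∈ RingHom.ker (phi2 (K := K)) := by
        simp [RingHom.mem_ker, phi2]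
      rw [← h, RingHom.mem_ker] at this
      simp [phi1] at this
  have l23 : RingHom.ker (phi2 (K := K)) < RingHom.ker (phi3 (K := K)) := by
    refine lt_of_le_of_ne ?_ ?_
    · intro p hp
      rw [RingHom.mem_ker] at hp ⊢
      rw [← phi3_phi2, hp, map_zero]
    · intro h
      have : (X 2 : MvPolynomial (Fin 3) K) ∈ RingHom.ker (phi3 (K := K)) := by
        simp [RingHom.mem_ker, phi3]
      rw [← h, RingHom.mem_ker] at this
      simp [phi2] at this
  have h1 := Ideal.height_strict_mono_of_isPrime_of_isPrime l01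
  have h2 := Ideal.height_strict_mono_of_isPrime_of_isPrime l12
  have h3 := Ideal.height_strict_mono_of_isPrime_of_isPrime l23
  have e1 := Order.add_one_le_of_lt h1
  have e2 := Order.add_one_le_of_lt h2
  have e3 := Order.add_one_le_of_lt h3
  calc (3 : ℕ∞) = 0 + 1 + 1 + 1 := by norm_num
    _ ≤ (⊥ : Ideal (MvPolynomial (Fin 3) K)).height + 1 + 1 + 1 := by gcongr; exact bot_le
    _ ≤ (RingHom.ker (phi1 (K := K))).height + 1 + 1 := by gcongr
    _ ≤ (RingHom.ker (phi2 (K := K))).height + 1 := by gcongr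
    _ ≤ _ := e3

theorem eval_zero_of_isHomogeneous {f : MvPolynomial (Fin 3) K} {d : ℕ} (hd : 0 < d)
    (hf : f.IsHomogeneous d) : eval (0 : Fin 3 → K) f = 0 := by
  rw [eval_zero, constantCoeff_eq]
  apply hf.coeff_eq_zero
  simpa using hd.ne

theorem exists_common_zero [IsAlgClosed K] (f g : MvPolynomial (Fin 3) K) {d e : ℕ}
    (hd : 0 < d) (he : 0 < e) (hf : f.IsHomogeneous d) (hg : g.IsHomogeneous e) :
    ∃ v : Fin 3 → K, v ≠ 0 ∧ eval v f = 0 ∧ eval v g = 0 := by
  classical
  by_contra hcon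
  push Not at hcon
  set I : Ideal (MvPolynomial (Fin 3) K) := Ideal.span ((({f, g} : Finset (MvPolynomial (Fin 3) K)) : Set _)) with hI
  set m : Ideal (MvPolynomial (Fin 3) K) := RingHom.ker (phi3 (K := K)) with hm
  have hmp : m.IsPrime := RingHom.ker_isPrime _
  have hIm : I ≤ m := by
    rw [hI, Ideal.span_le]
    intro p hp
    simp only [Finset.coe_insert, Finset.coe_singleton, Set.mem_insert_iff,
      Set.mem_singleton_iff] at hp
    rw [SetLike.mem_coe, hm, RingHom.mem_ker, phi3, aeval_eq_eval]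
    rcases hp with rfl | rfl
    · exact eval_zero_of_isHomogeneous hd hf
    · exact eval_zero_of_isHomogeneous he hg
  have hZ : zeroLocus K I ⊆ {0} := by
    intro v hv
    rw [Set.mem_singleton_iff]
    by_contra hv0
    have h1 := hv f (Ideal.subset_span (by simp))
    have h2 := hv g (Ideal.subset_span (by simp))
    rw [aeval_eq_eval] at h1 h2
    exact hcon v hv0 h1 h2
  have hmrad : m ≤ I.radical := by
    rw [← vanishingIdeal_zeroLocus_eq_radical (K := K)]
    intro p hp v hv
    have := hZ hv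
    rw [Set.mem_singleton_iff] at this
    rw [this]
    rw [hm, RingHom.mem_ker, phi3] at hp
    exact hp
  have hmin : m ∈ I.minimalPrimes := by
    refine ⟨⟨hmp, hIm⟩, ?_⟩
    rintro q ⟨hq, hIq⟩ _
    exact hmrad.trans (hq.radical_le_iff.mpr hIq)
  have h1 := Ideal.height_le_card_of_mem_minimalPrimes_span_finset hmin
  have h2 := height_ker_phi3 (K := K)
  have h3 : (({f, g} : Finset (MvPolynomial (Fin 3) K)).card : ℕ∞) ≤ 2 := by
    exact_mod_cast Finset.card_le_two
  have := h2.trans (h1.trans h3)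
  norm_num at this

end Groth.Agent.Lib.helper27.PlaneBezout
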