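import Mathlib
import Groth.Agent.Lib.helper27.CubicForm
import Groth.Agent.Lib.helper27.CubicTri
import Groth.Agent.Lib.helper27.PlaneBezout

/-! Plane cubics: Hessian and existence of a flex. -/

namespace Groth.Agent.Lib.helper27.PlaneCubicA

open MvPolynomial Groth.Agent.Lib.helper27.CubicForm Groth.Agent.Lib.helper27.CubicTri
  Groth.Agent.Lib.helper27.PlaneBezout

set_option linter.unusedSectionVars false
set_option linter.unusedVariables false

variable {k : Type*} [Field k] [CharZero k]

theorem tri_hess {σ : Type*} [Fintype σ] [DecidableEq σ] {f : MvPolynomial σ k}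
    (hf : f.IsHomogeneous 3) (i j : σ) (x : σ → k) :
    6 * tri f (Pi.single i 1) (Pi.single j 1) x = eval x (pderiv i (pderiv j f)) := by
  rw [tri_apply, dd_comm (Pi.single j 1) x, dd_comm (Pi.single i 1) x, dd_single, dd_single]
  have h1 : (pderiv i (pderiv j f)).IsHomogeneous 1 := by
    have := (hf.pderiv (i := j)).pderiv (i := i)
    simpa using this
  have h0 : (dd x (pderiv i (pderiv j f))).IsHomogeneous 0 := dd_isHomogeneous x h1
  rw [eval_of_isHomogeneous_zero h0 0 x, eval_dd_self x h1]
  have : (6 : k) ≠ 0 := by norm_num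
  field_simp
  norm_num


noncomputable def hessian (f : MvPolynomial (Fin 3) k) : MvPolynomial (Fin 3) k :=
  (Matrix.of fun i j : Fin 3 => pderiv i (pderiv j f)).det

theorem hessian_isHomogeneous {f : MvPolynomial (Fin 3) k} (hf : f.IsHomogeneous 3) :
    (hessian f).IsHomogeneous 3 := by
  have h1 : ∀ i j : Fin 3, (pderiv i (pderiv j f)).IsHomogeneous 1 := by
    intro i j
    have := (hf.pderiv (i := j)).pderiv (i := i)
    simpa using this
  have hm : ∀ a b c : MvPolynomial (Fin 3) k, a.IsHomogeneous 1 → b.IsHomogeneous 1 →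
      c.IsHomogeneous 1 → (a * b * c) ∈ homogeneousSubmodule (Fin 3) k 3 := by
    intro a b c ha hb hc
    have := (ha.mul hb).mul hc
    simpa using this
  rw [hessian, Matrix.det_fin_three]
  simp only [Matrix.of_apply]
  change _ ∈ homogeneousSubmodule (Fin 3) k 3
  refine Submodule.sub_mem _ (Submodule.add_mem _ (Submodule.add_mem _ (Submodule.sub_mem _
    (Submodule.sub_mem _ ?_ ?_) ?_) ?_) ?_) ?_ <;> exact hm _ _ _ (h1 _ _) (h1 _ _) (h1 _ _)

theorem eval_hessian (f : MvPolynomial (Fin 3) k) (v : Fin 3 → k) :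
    eval v (hessian f) = (Matrix.of fun i j : Fin 3 => eval v (pderiv i (pderiv j f))).det := by
  rw [hessian, RingHom.map_det]
  rfl

theorem exists_flex [IsAlgClosed k] {f : MvPolynomial (Fin 3) k} (hf : f.IsHomogeneous 3)
    (hsm : ∀ v : Fin 3 → k, v ≠ 0 → eval v f = 0 → ∃ i : Fin 3, eval v (pderiv i f) ≠ 0) :
    ∃ v w : Fin 3 → k, v ≠ 0 ∧ LinearIndependent k ![v, w] ∧ tri f v v v = 0 ∧
      tri f v v w = 0 ∧ tri f v w w = 0 := by
  obtain ⟨v, hv0, hfv, hHv⟩ := exists_common_zero f (hessian f) (by norm_num) (by norm_num) hf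
    (hessian_isHomogeneous hf)
  rw [eval_hessian] at hHv
  obtain ⟨u, hu0, hu⟩ := Matrix.exists_mulVec_eq_zero_iff.mpr hHv
  have s12 := tri_swap12 f
  have s23 := tri_swap23 f
  -- T(e_i, u, v) = 0
  have h1 : ∀ i : Fin 3, tri f (Pi.single i 1) u v = 0 := by
    intro i
    have hi := congrFun hu i
    simp only [Matrix.mulVec, dotProduct, Matrix.of_apply, Pi.zero_apply] at hi
    have hu' : u = ∑ j, u j • (Pi.single j (1 : k) : Fin 3 → k) := by
      ext l
      simp [Finset.sum_apply, Pi.single_apply]
    rw [hu']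
    simp only [map_sum, map_smul, LinearMap.sum_apply, LinearMap.smul_apply, smul_eq_mul]
    have h6 : (6 : k) ≠ 0 := by norm_num
    apply mul_left_cancel₀ h6
    rw [mul_zero, Finset.mul_sum, ← hi]
    refine Finset.sum_congr rfl fun j _ => ?_
    rw [← tri_hess hf i j v]
    ring
  have h2 : ∀ y : Fin 3 → k, tri f y u v = 0 := by
    intro y
    have hy' : y = ∑ j, y j • (Pi.single j (1 : k) : Fin 3 → k) := by
      ext l
      simp [Finset.sum_apply, Pi.single_apply]
    rw [hy']
    simp only [map_sum, map_smul, LinearMap.sum_apply, LinearMap.smul_apply, smul_eq_mul, h1,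
      mul_zero, Finset.sum_const_zero]
  obtain ⟨i, hi⟩ := hsm v hv0 hfv
  rw [← tri_grad hf] at hi
  have hvv : tri f v v v = 0 := by rw [tri_diag hf]; exact hfv
  refine ⟨v, u, hv0, ?_, hvv, ?_, ?_⟩
  · rw [LinearIndependent.pair_iff]
    intro a b hab
    by_cases hb : b = 0
    · subst hb
      simp only [zero_smul, add_zero] at hab
      rcases smul_eq_zero.mp hab with h | h
      · exact ⟨h, rfl⟩
      · exact absurd h hv0
    · exfalso
      have hu2 : u = (-a / b) • v := by
        have : b • u = -(a • v) := eq_neg_of_add_eq_zero_right hab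
        rw [div_eq_inv_mul, mul_smul, neg_smul, ← this, smul_smul, inv_mul_cancel₀ hb, one_smul]
      have hab0 : -a / b ≠ 0 := by
        intro h0
        rw [h0, zero_smul] at hu2
        exact hu0 hu2
      have := h2 (Pi.single i 1)
      rw [hu2, map_smul, LinearMap.smul_apply, smul_eq_mul] at this
      rcases mul_eq_zero.mp this with h | h
      · exact hab0 h
      · apply hi
        rw [h, mul_zero]
  · rw [s23]; exact h2 v
  · rw [s12, s23]; exact h2 u

end Groth.Agent.Lib.helper27.PlaneCubicA
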