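import Mathlib

/-! Plane cubics as functions on `k³`: smoothness via polarization, Weierstrass → Hesse. -/

namespace Groth.Agent.Lib.helper27.PlaneCubicB

set_option linter.unusedSectionVars false
set_option linter.unusedVariables false

variable {k : Type*} [Field k]

/-- smoothness of a cubic function on `k³`, phrased through the polarization
`G (x + u) - G (x - u) - 2 G u = 2 ∇G(x)·u`. -/
def SmoothFn (G : (Fin 3 → k) → k) : Prop :=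
  ∀ x : Fin 3 → k, x ≠ 0 → G x = 0 → ∃ u : Fin 3 → k, G (x + u) - G (x - u) - 2 * G u ≠ 0

theorem SmoothFn.comp {G : (Fin 3 → k) → k} (h : SmoothFn G) (M : Matrix (Fin 3) (Fin 3) k)
    (hM : IsUnit M.det) : SmoothFn (fun x => G (M.mulVec x)) := by
  have hMu : IsUnit M := (Matrix.isUnit_iff_isUnit_det M).mpr hM
  have hinj := Matrix.mulVec_injective_iff_isUnit.mpr hMu
  have hsurj := Matrix.mulVec_surjective_iff_isUnit.mpr hMu
  intro x hx hGx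
  have hx' : M.mulVec x ≠ 0 := by
    intro h0
    apply hx
    apply hinj
    rw [h0, Matrix.mulVec_zero]
  obtain ⟨u, hu⟩ := h _ hx' hGx
  obtain ⟨u', rfl⟩ := hsurj u
  refine ⟨u', ?_⟩
  simp only [Matrix.mulVec_add, Matrix.mulVec_sub]
  exact hu

/-- the Hesse cubic as a function -/
def hesseFn (κ : k) (y : Fin 3 → k) : k :=
  y 0 ^ 3 + y 1 ^ 3 + y 2 ^ 3 - 3 * κ * (y 0 * y 1 * y 2)

/-- the Weierstrass cubic as a function -/
def weierFn (A B : k) (x : Fin 3 → k) : k :=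
  x 1 ^ 2 * x 2 - x 0 ^ 3 - A * x 0 * x 2 ^ 2 - B * x 2 ^ 3

theorem vec3_ne_zero_of {a b c : k} (h : a ≠ 0 ∨ b ≠ 0 ∨ c ≠ 0) : (![a, b, c] : Fin 3 → k) ≠ 0 := by
  intro h0
  have h1 := congrFun h0 0
  have h2 := congrFun h0 1
  have h3 := congrFun h0 2
  simp at h1 h2 h3
  rcases h with h | h | h
  · exact h h1
  · exact h h2
  · exact h h3

theorem weier_disc [CharZero k] {G : (Fin 3 → k) → k} (hG : SmoothFn G) (C₀ A B : k) (hC : C₀ ≠ 0)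
    (hGf : ∀ x, G x = C₀ * weierFn A B x) : 4 * A ^ 3 + 27 * B ^ 2 ≠ 0 := by
  intro hΔ
  by_cases hA : A = 0
  · have hB : B = 0 := by
      rw [hA] at hΔ
      have : B ^ 2 = 0 := by
        have h27 : (27 : k) ≠ 0 := by norm_num
        have : 27 * B ^ 2 = 0 := by linear_combination hΔ
        exact (mul_eq_zero.mp this).resolve_left h27
      exact pow_eq_zero_iff (two_ne_zero) |>.mp this
    obtain ⟨u, hu⟩ := hG ![0, 0, 1] (vec3_ne_zero_of (Or.inr (Or.inr one_ne_zero))) (by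
      rw [hGf]; simp [weierFn, hA, hB])
    apply hu
    simp only [hGf, weierFn, hA, hB]
    simp
    ring
  · -- double root x₁ = -3B/(2A)
    set x₁ : k := -3 * B / (2 * A) with hx₁
    have e2 : 2 * A * x₁ + 3 * B = 0 := by rw [hx₁]; field_simp; ring
    clear_value x₁
    have e1 : 3 * x₁ ^ 2 + A = 0 := by
      have h4 : 4 * A ^ 2 * (3 * x₁ ^ 2 + A) = 0 := by
        linear_combination hΔ + (3 * (2 * A * x₁) - 9 * B) * e2
      have : (4 : k) * A ^ 2 ≠ 0 := mul_ne_zero (by norm_num) (pow_ne_zero 2 hA)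
      exact (mul_eq_zero.mp h4).resolve_left this
    obtain ⟨u, hu⟩ := hG ![x₁, 0, 1] (vec3_ne_zero_of (Or.inr (Or.inr one_ne_zero))) (by
      have : weierFn A B ![x₁, 0, 1] = 0 := by
        simp [weierFn]
        linear_combination (-x₁ / 3) * e1 + (-1 / 3 : k) * e2
      rw [hGf, this, mul_zero])
    apply hu
    simp only [hGf, weierFn]
    simp
    linear_combination (-2 * C₀ * u 0) * e1 + (-2 * C₀ * u 2) * e2


theorem hesse_identity (x₀ y₀ m A B ω κ r zc Z₀ Y₁ Y₂ : k)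
    (hy₀ : y₀ ^ 2 = x₀ ^ 3 + A * x₀ + B) (em1 : 2 * y₀ * m = 3 * x₀ ^ 2 + A) (em2 : m ^ 2 = 3 * x₀)
    (hω : ω ^ 2 + ω + 1 = 0) (ez : y₀ * zc = -m) (eκz : κ = -4 * m ^ 2 * zc)
    (er3 : r ^ 3 * (κ - 27) = κ) :
    (m * (ω ^ 2 - ω) * (Y₁ - Y₂)) ^ 2 * (zc * (r * Z₀ + Y₁ + Y₂))
      - (x₀ * (zc * (r * Z₀ + Y₁ + Y₂)) + 3 * (r * Z₀)) ^ 3
      - A * (x₀ * (zc * (r * Z₀ + Y₁ + Y₂)) + 3 * (r * Z₀)) * (zc * (r * Z₀ + Y₁ + Y₂)) ^ 2
      - B * (zc * (r * Z₀ + Y₁ + Y₂)) ^ 3 =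
    κ * (Z₀ ^ 3 + Y₁ ^ 3 + Y₂ ^ 3 - 3 * r * (Z₀ * Y₁ * Y₂)) := by
  have stage_a : ∀ x yy z : k, yy ^ 2 * z - x ^ 3 - A * x * z ^ 2 - B * z ^ 3 =
      z * (yy - y₀ * z - m * (x - x₀ * z)) * (yy + y₀ * z + m * (x - x₀ * z)) - (x - x₀ * z) ^ 3 := by
    intro x yy z
    linear_combination (z * (x - x₀ * z) ^ 2) * em2 + (z ^ 2 * (x - x₀ * z)) * em1 + z ^ 3 * hy₀
  rw [stage_a]
  set Y₀ := r * Z₀ with hY₀
  set U₁ := Y₀ + Y₁ + Y₂ with hU₁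
  have hb : m * (ω ^ 2 - ω) * (Y₁ - Y₂) - y₀ * (zc * U₁) - m * (x₀ * (zc * U₁) + 3 * Y₀ - x₀ * (zc * U₁))
      = -2 * m * (Y₀ + ω * Y₁ + ω ^ 2 * Y₂) := by
    rw [hU₁]
    linear_combination (m * (Y₁ + Y₂)) * hω + (-(Y₀ + Y₁ + Y₂)) * ez
  have hc : m * (ω ^ 2 - ω) * (Y₁ - Y₂) + y₀ * (zc * U₁) + m * (x₀ * (zc * U₁) + 3 * Y₀ - x₀ * (zc * U₁))
      = 2 * m * (Y₀ + ω ^ 2 * Y₁ + ω * Y₂) := by
    rw [hU₁]
    linear_combination (-m * (Y₁ + Y₂)) * hω + (Y₀ + Y₁ + Y₂) * ez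
  have hd : U₁ * (Y₀ + ω * Y₁ + ω ^ 2 * Y₂) * (Y₀ + ω ^ 2 * Y₁ + ω * Y₂) =
      Y₀ ^ 3 + Y₁ ^ 3 + Y₂ ^ 3 - 3 * Y₀ * Y₁ * Y₂ := by
    rw [hU₁]
    linear_combination ((3)*Y₀*Y₁*Y₂ + (-1)*Y₀*Y₁*Y₂*ω + (1)*Y₀*Y₁*Y₂*ω^2 + (1)*Y₀*Y₁^2*ω + (1)*Y₀*Y₂^2*ω + (1)*Y₀^2*Y₁ + (1)*Y₀^2*Y₂ + (1)*Y₁*Y₂^2*ω^2 + (1)*Y₁^2*Y₂*ω^2 + (-1)*Y₁^3 + (1)*Y₁^3*ω + (-1)*Y₂^3 + (1)*Y₂^3*ω) * hω
  rw [hb, hc]
  have he : x₀ * (zc * U₁) + 3 * Y₀ - x₀ * (zc * U₁) = 3 * Y₀ := by ring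
  rw [he]
  have hf : zc * U₁ * (-2 * m * (Y₀ + ω * Y₁ + ω ^ 2 * Y₂)) * (2 * m * (Y₀ + ω ^ 2 * Y₁ + ω * Y₂)) =
      κ * (Y₀ ^ 3 + Y₁ ^ 3 + Y₂ ^ 3 - 3 * Y₀ * Y₁ * Y₂) := by
    rw [← hd, eκz]; ring
  rw [hf, hY₀]
  linear_combination (Z₀ ^ 3) * er3

/-- a nonzero root of the 3-division polynomial -/
theorem exists_psi3_root [IsAlgClosed k] [CharZero k] (A B : k) (hΔ : 4 * A ^ 3 + 27 * B ^ 2 ≠ 0) :
    ∃ x₀ : k, x₀ ≠ 0 ∧ 3 * x₀ ^ 4 + 6 * A * x₀ ^ 2 + 12 * B * x₀ - A ^ 2 = 0 := by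
  by_cases hA : A = 0
  · have hB : B ≠ 0 := by
      rintro rfl
      apply hΔ
      rw [hA]; ring
    obtain ⟨x₀, hx₀⟩ := IsAlgClosed.exists_pow_nat_eq (-4 * B) (n := 3) (by norm_num)
    refine ⟨x₀, ?_, ?_⟩
    · rintro rfl
      have : (-4 : k) * B = 0 := by rw [← hx₀]; ring
      rcases mul_eq_zero.mp this with h | h
      · norm_num at h
      · exact hB h
    · rw [hA]
      linear_combination (3 * x₀) * hx₀
  · open Polynomial in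
    let p : k[X] := C 3 * X ^ 4 + C (6 * A) * X ^ 2 + C (12 * B) * X - C (A ^ 2)
    have hdeg : p.natDegree = 4 := by
      simp only [p]
      compute_degree!
    have hp : p.degree ≠ 0 := by
      intro h
      have := Polynomial.natDegree_eq_zero_iff_degree_le_zero.mpr h.le
      omega
    obtain ⟨x₀, hx₀⟩ := IsAlgClosed.exists_root p hp
    refine ⟨x₀, ?_, ?_⟩
    · rintro rfl
      simp [p] at hx₀
      exact hA hx₀
    · simpa [p] using hx₀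

theorem hesse_of_weier [IsAlgClosed k] [CharZero k] (C₀ A B : k) (hC : C₀ ≠ 0)
    (hΔ : 4 * A ^ 3 + 27 * B ^ 2 ≠ 0) :
    ∃ (M : Matrix (Fin 3) (Fin 3) k) (κ c : k), c ≠ 0 ∧ κ ^ 3 ≠ 1 ∧
      ∀ y : Fin 3 → k, C₀ * weierFn A B (M.mulVec y) = c * hesseFn κ y := by
  obtain ⟨x₀, hx₀, hψ⟩ := exists_psi3_root A B hΔ
  obtain ⟨y₀, hy₀⟩ := IsAlgClosed.exists_pow_nat_eq (x₀ ^ 3 + A * x₀ + B) (n := 2) (by norm_num)
  have hy₀ne : y₀ ≠ 0 := by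
    rintro rfl
    have h1 : (3 * x₀ ^ 2 + A) ^ 2 = 0 := by
      linear_combination (-1 : k) * hψ - 12 * x₀ * hy₀
    have h2 : 3 * x₀ ^ 2 + A = 0 := pow_eq_zero_iff (two_ne_zero) |>.mp h1
    have hA : A = -3 * x₀ ^ 2 := by linear_combination h2
    have hB : B = 2 * x₀ ^ 3 := by
      have : x₀ ^ 3 + A * x₀ + B = 0 := by rw [← hy₀]; ring
      rw [hA] at this
      linear_combination this
    apply hΔ
    rw [hA, hB]; ring
  set m : k := (3 * x₀ ^ 2 + A) / (2 * y₀) with hm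
  have em1 : 2 * y₀ * m = 3 * x₀ ^ 2 + A := by rw [hm]; field_simp
  have em2 : m ^ 2 = 3 * x₀ := by
    have h4 : 4 * y₀ ^ 2 * (m ^ 2 - 3 * x₀) = 0 := by
      linear_combination (2 * y₀ * m + 3 * x₀ ^ 2 + A) * em1 - hψ - 12 * x₀ * hy₀
    have : (4 : k) * y₀ ^ 2 ≠ 0 := mul_ne_zero (by norm_num) (pow_ne_zero 2 hy₀ne)
    have := (mul_eq_zero.mp h4).resolve_left this
    linear_combination this
  clear_value m
  have hm0 : m ≠ 0 := by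
    rintro rfl
    have : 3 * x₀ = 0 := by rw [← em2]; ring
    rcases mul_eq_zero.mp this with h | h
    · norm_num at h
    · exact hx₀ h
  -- cube root of unity
  obtain ⟨ω, hω⟩ : ∃ ω : k, ω ^ 2 + ω + 1 = 0 := by
    obtain ⟨s, hs⟩ := IsAlgClosed.exists_pow_nat_eq (-3 : k) (n := 2) (by norm_num)
    refine ⟨(-1 + s) / 2, ?_⟩
    field_simp
    linear_combination hs
  set κ : k := 4 * m ^ 3 / y₀ with hκ
  have eκ : κ * y₀ = 4 * m ^ 3 := by rw [hκ]; field_simp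
  have hκ0 : κ ≠ 0 := by
    rw [hκ]
    exact div_ne_zero (mul_ne_zero (by norm_num) (pow_ne_zero 3 hm0)) hy₀ne
  clear_value κ
  have hκ27 : κ ≠ 27 := by
    rintro rfl
    -- 27 y₀ = 4 m³
    have h1 : 3 * A = -x₀ ^ 2 := by
      have : 27 * (3 * x₀ ^ 2 + A) = 8 * (m ^ 2) ^ 2 := by
        linear_combination (27 : k) * (-1) * em1 + (2 * m) * eκ
      rw [em2] at this
      linear_combination (1 / 9 : k) * this
    have h2 : 27 * B = -2 * x₀ ^ 3 := by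
      have h3 : x₀ * (8 * x₀ ^ 3 + 108 * B) = 0 := by
        linear_combination 9 * hψ + (-18 * x₀ ^ 2 + 3 * A - x₀ ^ 2) * h1
      have := (mul_eq_zero.mp h3).resolve_left hx₀
      linear_combination (1 / 4 : k) * this
    apply hΔ
    have h27 : (729 : k) ≠ 0 := by norm_num
    apply mul_left_cancel₀ h27
    linear_combination (4 * 27 * ((3 * A) ^ 2 + (3 * A) * (-x₀ ^ 2) + x₀ ^ 4)) * h1 +
      (27 * (27 * B - 2 * x₀ ^ 3)) * h2
  obtain ⟨ρ, hρ⟩ := IsAlgClosed.exists_pow_nat_eq ((κ - 27) / κ) (n := 3) (by norm_num)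
  have hρ0 : ρ ≠ 0 := by
    rintro rfl
    have : (κ - 27) / κ = 0 := by rw [← hρ]; ring
    rcases div_eq_zero_iff.mp this with h | h
    · exact hκ27 (by linear_combination h)
    · exact hκ0 h
  have eρ : ρ ^ 3 * κ = κ - 27 := by rw [hρ]; field_simp
  set r : k := ρ⁻¹ with hr
  have er : r * ρ = 1 := by rw [hr]; exact inv_mul_cancel₀ hρ0
  have er3 : r ^ 3 * (κ - 27) = κ := by
    have h1 : r ^ 3 * ρ ^ 3 = 1 := by rw [← mul_pow, er, one_pow]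
    rw [← eρ]
    linear_combination κ * h1
  have hr0 : r ≠ 0 := by rw [hr]; exact inv_ne_zero hρ0
  clear_value r
  set zc : k := -m / y₀ with hzc
  have ez : y₀ * zc = -m := by rw [hzc]; field_simp
  have eκz : κ = -4 * m ^ 2 * zc := by
    have : y₀ * (κ + 4 * m ^ 2 * zc) = 0 := by linear_combination eκ + (4 * m ^ 2) * ez
    have := (mul_eq_zero.mp this).resolve_left hy₀ne
    linear_combination this
  clear_value zc
  refine ⟨!![x₀ * zc * r + 3 * r, x₀ * zc, x₀ * zc;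
             0, m * (ω ^ 2 - ω), -(m * (ω ^ 2 - ω));
             zc * r, zc, zc], r, C₀ * κ, mul_ne_zero hC hκ0, ?_, ?_⟩
  · intro h1
    -- r³ = 1 → κ - 27 = κ
    rw [h1, one_mul] at er3
    have : (27 : k) = 0 := by linear_combination -er3
    norm_num at this
  · intro y
    rw [mul_assoc C₀ κ]
    congr 1
    have h := hesse_identity x₀ y₀ m A B ω κ r zc (y 0) (y 1) (y 2) hy₀ em1 em2 hω ez eκz er3
    unfold hesseFn weierFn
    rw [← h]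
    simp [Matrix.mulVec, dotProduct, Fin.sum_univ_three, Matrix.vecHead, Matrix.vecTail]
    ring

end Groth.Agent.Lib.helper27.PlaneCubicB
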