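import Mathlib
import Groth.Agent.Lib.helper27.CubicTri
import Groth.Agent.Lib.helper27.PlaneCubicB

/-! Plane cubics: from a flex to the Weierstrass form; automatic invertibility. -/

namespace Groth.Agent.Lib.helper27.PlaneCubicC

open Groth.Agent.Lib.helper27.CubicTri Groth.Agent.Lib.helper27.PlaneCubicB

set_option linter.unusedSectionVars false
set_option linter.unusedVariables false

variable {k : Type*} [Field k] [CharZero k]

theorem isUnit_det_of_hesse (A : Matrix (Fin 3) (Fin 3) k) (G : (Fin 3 → k) → k) (c κ : k)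
    (hc : c ≠ 0) (h : ∀ y, G (A.mulVec y) = c * hesseFn κ y) : IsUnit A.det := by
  rw [← Matrix.isUnit_iff_isUnit_det, ← Matrix.mulVec_injective_iff_isUnit]
  intro x y hxy
  have hd : A.mulVec (x - y) = 0 := by rw [Matrix.mulVec_sub, hxy, sub_self]
  suffices hs : x - y = 0 from sub_eq_zero.mp hs
  set d := x - y with hdd
  clear_value d
  have key : ∀ (y' : Fin 3 → k) (t : k), hesseFn κ (y' + t • d) = hesseFn κ y' := by
    intro y' t
    have h1 := h (y' + t • d)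
    have h2 := h y'
    rw [Matrix.mulVec_add, Matrix.mulVec_smul, hd, smul_zero, add_zero] at h1
    exact mul_left_cancel₀ hc (h1.symm.trans h2)
  have e0 : d 0 = 0 := by
    have a1 := key ![1, 0, 0] 1
    have a2 := key ![1, 0, 0] (-1)
    have a3 := key ![1, 0, 0] 2
    have a4 := key ![1, 0, 0] (-2)
    simp [hesseFn] at a1 a2 a3 a4
    linear_combination (4 / 18 : k) * a1 - (4 / 18 : k) * a2 - (1 / 36 : k) * a3 + (1 / 36 : k) * a4
  have e1 : d 1 = 0 := by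
    have a1 := key ![0, 1, 0] 1
    have a2 := key ![0, 1, 0] (-1)
    have a3 := key ![0, 1, 0] 2
    have a4 := key ![0, 1, 0] (-2)
    simp [hesseFn] at a1 a2 a3 a4
    linear_combination (4 / 18 : k) * a1 - (4 / 18 : k) * a2 - (1 / 36 : k) * a3 + (1 / 36 : k) * a4
  have e2 : d 2 = 0 := by
    have a1 := key ![0, 0, 1] 1
    have a2 := key ![0, 0, 1] (-1)
    have a3 := key ![0, 0, 1] 2
    have a4 := key ![0, 0, 1] (-2)
    simp [hesseFn] at a1 a2 a3 a4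
    linear_combination (4 / 18 : k) * a1 - (4 / 18 : k) * a2 - (1 / 36 : k) * a3 + (1 / 36 : k) * a4
  ext i
  fin_cases i
  · exact e0
  · exact e1
  · exact e2


theorem weier_subst (c α β γ δ ε ζ : k) (hc : c ≠ 0) (hα : α ≠ 0) :
    ∃ (l1 l2 l3 t A B : k), t ≠ 0 ∧ ∀ x0 x1 x2 : k,
      c * (x0 + l1 * x2) ^ 3 + (t * x2) * (α * (x1 + l2 * x0 + l3 * x2) ^ 2
        + β * (x0 + l1 * x2) * (x1 + l2 * x0 + l3 * x2) + γ * (x1 + l2 * x0 + l3 * x2) * (t * x2)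
        + δ * (x0 + l1 * x2) ^ 2 + ε * (x0 + l1 * x2) * (t * x2) + ζ * (t * x2) ^ 2) =
      (-c) * (x1 ^ 2 * x2 - x0 ^ 3 - A * x0 * x2 ^ 2 - B * x2 ^ 3) := by
  obtain ⟨t, ht⟩ : ∃ t : k, t = -c / α := ⟨_, rfl⟩
  obtain ⟨δ', hδ'⟩ : ∃ δ' : k, δ' = δ - β ^ 2 / (4 * α) := ⟨_, rfl⟩
  obtain ⟨ε', hε'⟩ : ∃ ε' : k, ε' = ε - β * γ / (2 * α) := ⟨_, rfl⟩
  obtain ⟨ζ', hζ'⟩ : ∃ ζ' : k, ζ' = ζ - γ ^ 2 / (4 * α) := ⟨_, rfl⟩
  obtain ⟨lam, hlam⟩ : ∃ lam : k, lam = δ' / (3 * c) := ⟨_, rfl⟩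
  have ht0 : t ≠ 0 := by rw [ht]; exact div_ne_zero (neg_ne_zero.mpr hc) hα
  refine ⟨-lam * t, -β / (2 * α), (β * lam * t - γ * t) / (2 * α), t,
    (3 * c * lam ^ 2 - 2 * lam * δ' + ε') * t ^ 2 / c,
    (-c * lam ^ 3 + lam ^ 2 * δ' - lam * ε' + ζ') * t ^ 3 / c, ht0, ?_⟩
  intro x0 x1 x2
  subst hlam hδ' hε' hζ' ht
  field_simp
  ring

section flex
variable (T : (Fin 3 → k) →ₗ[k] (Fin 3 → k) →ₗ[k] (Fin 3 → k) →ₗ[k] k)
  (s12 : ∀ x y z, T x y z = T y x z) (s23 : ∀ x y z, T x y z = T x z y)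
include s12 s23

theorem polar_diag (x u : Fin 3 → k) :
    T (x + u) (x + u) (x + u) - T (x - u) (x - u) (x - u) - 2 * T u u u = 6 * T x x u := by
  tri_ring s12 s23

theorem frame_expand (w v n : Fin 3 → k) (x : Fin 3 → k) :
    T (x 0 • w + x 1 • v + x 2 • n) (x 0 • w + x 1 • v + x 2 • n) (x 0 • w + x 1 • v + x 2 • n) =
      x 0 ^ 3 * T w w w + 3 * x 0 ^ 2 * x 1 * T w w v + 3 * x 0 * x 1 ^ 2 * T w v v
        + x 1 ^ 3 * T v v v + 3 * x 0 ^ 2 * x 2 * T w w n + 6 * x 0 * x 1 * x 2 * T w v n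
        + 3 * x 1 ^ 2 * x 2 * T v v n + 3 * x 0 * x 2 ^ 2 * T w n n + 3 * x 1 * x 2 ^ 2 * T v n n
        + x 2 ^ 3 * T n n n := by
  tri_ring s12 s23


theorem weier_of_flex [IsAlgClosed k] (hsm : SmoothFn (fun x => T x x x))
    (v w : Fin 3 → k) (hvw : LinearIndependent k ![v, w]) (h1 : T v v v = 0) (h2 : T v v w = 0)
    (h3 : T v w w = 0) :
    ∃ (P : Matrix (Fin 3) (Fin 3) k) (C₀ A B : k), IsUnit P.det ∧ C₀ ≠ 0 ∧
      ∀ x, T (P.mulVec x) (P.mulVec x) (P.mulVec x) = C₀ * weierFn A B x := by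
  have hv0 : v ≠ 0 := hvw.ne_zero 0
  obtain ⟨n, hn⟩ := hsm v hv0 h1
  simp only [] at hn
  rw [polar_diag T s12 s23] at hn
  have hn' : T v v n ≠ 0 := fun h => hn (by rw [h, mul_zero])
  set P₀ : Matrix (Fin 3) (Fin 3) k := Matrix.of fun i j => ![w, v, n] j i with hP₀
  have hP₀x : ∀ x, P₀.mulVec x = x 0 • w + x 1 • v + x 2 • n := by
    intro x; ext i
    simp [hP₀, Matrix.mulVec, dotProduct, Fin.sum_univ_three]
    ring
  have hP₀inj : Function.Injective P₀.mulVec := by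
    intro x y hxy
    have hd : P₀.mulVec (x - y) = 0 := by rw [Matrix.mulVec_sub, hxy, sub_self]
    suffices hs : x - y = 0 from sub_eq_zero.mp hs
    set d := x - y with hdd
    clear_value d
    rw [hP₀x] at hd
    have e2 : d 2 = 0 := by
      have := congrArg (fun z => T v v z) hd
      simp only [map_add, map_smul, smul_eq_mul, map_zero, h1, h2, mul_zero, zero_add,
        add_zero] at this
      exact (mul_eq_zero.mp this).resolve_right hn'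
    rw [e2, zero_smul, add_zero] at hd
    have := LinearIndependent.pair_iff.mp hvw (d 1) (d 0) (by rw [add_comm]; exact hd)
    ext i; fin_cases i <;> simp [this.1, this.2, e2]
  have hP₀u : IsUnit P₀.det :=
    (Matrix.isUnit_iff_isUnit_det _).mp (Matrix.mulVec_injective_iff_isUnit.mp hP₀inj)
  have hsm₁ := hsm.comp P₀ hP₀u
  obtain ⟨c, hc⟩ : ∃ c : k, c = T w w w := ⟨_, rfl⟩
  obtain ⟨α, hα⟩ : ∃ α : k, α = 3 * T v v n := ⟨_, rfl⟩
  obtain ⟨β, hβ⟩ : ∃ β : k, β = 6 * T w v n := ⟨_, rfl⟩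
  obtain ⟨γ, hγ⟩ : ∃ γ : k, γ = 3 * T v n n := ⟨_, rfl⟩
  obtain ⟨δ, hδ⟩ : ∃ δ : k, δ = 3 * T w w n := ⟨_, rfl⟩
  obtain ⟨ε, hε⟩ : ∃ ε : k, ε = 3 * T w n n := ⟨_, rfl⟩
  obtain ⟨ζ, hζ⟩ : ∃ ζ : k, ζ = T n n n := ⟨_, rfl⟩
  have hG₁ : ∀ x : Fin 3 → k, T (P₀.mulVec x) (P₀.mulVec x) (P₀.mulVec x) =
      c * x 0 ^ 3 + x 2 * (α * x 1 ^ 2 + β * x 0 * x 1 + γ * x 1 * x 2 + δ * x 0 ^ 2
        + ε * x 0 * x 2 + ζ * x 2 ^ 2) := by
    intro x
    rw [hP₀x, frame_expand T s12 s23]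
    have e1 : T w w v = 0 := by rw [s23, s12]; exact h3
    have e2 : T w v v = 0 := by rw [s12, s23]; exact h2
    rw [e1, e2, h1, hc, hα, hβ, hγ, hδ, hε, hζ]; ring
  have hα0 : α ≠ 0 := by rw [hα]; exact mul_ne_zero (by norm_num) hn'
  have hc0 : c ≠ 0 := by
    intro hc0
    obtain ⟨q, hq⟩ : ∃ q : k, α * (q * q) + β * q + δ = 0 :=
      exists_quadratic_eq_zero hα0 (IsAlgClosed.exists_eq_mul_self _)
    obtain ⟨u, hu⟩ := hsm₁ ![1, q, 0] (vec3_ne_zero_of (Or.inl one_ne_zero)) (by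
      simp only [hG₁, hc0]; simp)
    apply hu
    simp only [hG₁, hc0]
    simp
    linear_combination (2 * u 2) * hq
  obtain ⟨l1, l2, l3, t, A, B, ht0, hsub⟩ := weier_subst c α β γ δ ε ζ hc0 hα0
  set M : Matrix (Fin 3) (Fin 3) k := !![1, 0, l1; l2, 1, l3; 0, 0, t] with hM
  have hMdet : M.det = t := by
    simp [hM, Matrix.det_fin_three]
  refine ⟨P₀ * M, -c, A, B, ?_, neg_ne_zero.mpr hc0, ?_⟩
  · rw [Matrix.det_mul, hMdet]
    exact hP₀u.mul ht0.isUnit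
  · intro x
    rw [← Matrix.mulVec_mulVec, hG₁]
    have := hsub (x 0) (x 1) (x 2)
    have m0 : (M.mulVec x) 0 = x 0 + l1 * x 2 := by
      simp [hM, Matrix.mulVec, dotProduct, Fin.sum_univ_three]
    have m1 : (M.mulVec x) 1 = x 1 + l2 * x 0 + l3 * x 2 := by
      simp [hM, Matrix.mulVec, dotProduct, Fin.sum_univ_three]
      ring
    have m2 : (M.mulVec x) 2 = t * x 2 := by
      simp [hM, Matrix.mulVec, dotProduct, Fin.sum_univ_three]
    unfold weierFn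
    rw [← this, m0, m1, m2]

end flex

end Groth.Agent.Lib.helper27.PlaneCubicC
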