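import Mathlib
import Groth.Agent.Lib.helper27.CubicForm
import Groth.Agent.Lib.helper27.CubicTri
import Groth.Agent.Lib.helper27.PlaneCubicA
import Groth.Agent.Lib.helper27.PlaneCubicB
import Groth.Agent.Lib.helper27.PlaneCubicC

/-! Every smooth plane cubic over an algebraically closed field of characteristic zero is
projectively equivalent to a Hesse cubic. -/

namespace Groth.Agent.Lib.helper27.PlaneCubicD

open MvPolynomial Groth.Agent.Lib.helper27.CubicForm Groth.Agent.Lib.helper27.CubicTri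
  Groth.Agent.Lib.helper27.PlaneCubicA Groth.Agent.Lib.helper27.PlaneCubicB
  Groth.Agent.Lib.helper27.PlaneCubicC

set_option linter.unusedSectionVars false
set_option linter.unusedVariables false

variable {k : Type*} [Field k] [CharZero k]

theorem smoothFn_of_poly {f : MvPolynomial (Fin 3) k} (hf : f.IsHomogeneous 3)
    (hsm : ∀ v : Fin 3 → k, v ≠ 0 → eval v f = 0 → ∃ i : Fin 3, eval v (pderiv i f) ≠ 0) :
    SmoothFn (fun x => tri f x x x) := by
  intro x hx hGx
  simp only [] at hGx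
  rw [tri_diag hf] at hGx
  obtain ⟨i, hi⟩ := hsm x hx hGx
  refine ⟨Pi.single i 1, ?_⟩
  rw [polar_diag (tri f) (tri_swap12 f) (tri_swap23 f)]
  rw [← tri_grad hf] at hi
  intro h0
  apply hi
  have : tri f (Pi.single i 1) x x = tri f x x (Pi.single i 1) := by
    rw [tri_swap12, tri_swap23]
  rw [this]
  have h6 : (6 : k) ≠ 0 := by norm_num
  rw [(mul_eq_zero.mp h0).resolve_left h6, mul_zero]

theorem exists_hesse [IsAlgClosed k] {f : MvPolynomial (Fin 3) k} (hf : f.IsHomogeneous 3)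
    (hsm : ∀ v : Fin 3 → k, v ≠ 0 → eval v f = 0 → ∃ i : Fin 3, eval v (pderiv i f) ≠ 0) :
    ∃ (A : Matrix (Fin 3) (Fin 3) k) (κ c : k), IsUnit A.det ∧ κ ^ 3 ≠ 1 ∧ c ≠ 0 ∧
      ∀ y : Fin 3 → k, eval (A.mulVec y) f = c * hesseFn κ y := by
  have s12 := tri_swap12 f
  have s23 := tri_swap23 f
  have hS := smoothFn_of_poly hf hsm
  obtain ⟨v, w, hv0, hvw, h1, h2, h3⟩ := exists_flex hf hsm
  obtain ⟨P, C₀, A, B, hP, hC, hW⟩ := weier_of_flex (tri f) s12 s23 hS v w hvw h1 h2 h3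
  have hΔ := weier_disc (hS.comp P hP) C₀ A B hC hW
  obtain ⟨M, κ, c, hc, hκ, hM⟩ := hesse_of_weier C₀ A B hC hΔ
  have hfin : ∀ y : Fin 3 → k, eval ((P * M).mulVec y) f = c * hesseFn κ y := by
    intro y
    rw [← Matrix.mulVec_mulVec, ← tri_diag hf, hW, hM]
  exact ⟨P * M, κ, c, isUnit_det_of_hesse (P * M) (fun x => eval x f) c κ hc hfin, hκ, hc, hfin⟩

end Groth.Agent.Lib.helper27.PlaneCubicD
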