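import Mathlib
import Groth.Agent.Lib.helper27.PlaneCubicB
import Groth.Agent.Lib.helper27.PlaneCubicC

/-! The Hesse group acting on the nine flexes of a Hesse cubic. -/

namespace Groth.Agent.Lib.helper27.PlaneCubicE

open Groth.Agent.Lib.helper27.PlaneCubicB Groth.Agent.Lib.helper27.PlaneCubicC

set_option linter.unusedSectionVars false
set_option linter.unusedVariables false

variable {k : Type*} [Field k] [CharZero k]

/-- matrices preserving the Hesse cubic -/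
def Pres (κ : k) (N : Matrix (Fin 3) (Fin 3) k) : Prop :=
  ∀ y : Fin 3 → k, hesseFn κ (N.mulVec y) = hesseFn κ y

theorem Pres.isUnit_det {κ : k} {N : Matrix (Fin 3) (Fin 3) k} (h : Pres κ N) : IsUnit N.det :=
  isUnit_det_of_hesse N (hesseFn κ) 1 κ one_ne_zero (fun y => by rw [h y, one_mul])

theorem Pres.one (κ : k) : Pres κ 1 := fun y => by rw [Matrix.one_mulVec]

theorem Pres.mul {κ : k} {N N' : Matrix (Fin 3) (Fin 3) k} (h : Pres κ N) (h' : Pres κ N') :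
    Pres κ (N * N') := fun y => by rw [← Matrix.mulVec_mulVec, h, h']

theorem Pres.inv {κ : k} {N : Matrix (Fin 3) (Fin 3) k} (h : Pres κ N) : Pres κ N⁻¹ := fun y => by
  have := h (N⁻¹.mulVec y)
  rw [Matrix.mulVec_mulVec, Matrix.mul_nonsing_inv _ h.isUnit_det, Matrix.one_mulVec] at this
  exact this.symm

theorem pres_S1 (κ : k) : Pres κ !![0, 1, 0; 0, 0, 1; 1, 0, 0] := fun y => by
  simp [hesseFn, Matrix.mulVec, dotProduct, Fin.sum_univ_three]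
  ring

theorem pres_S2 (κ : k) : Pres κ !![0, 0, 1; 1, 0, 0; 0, 1, 0] := fun y => by
  simp [hesseFn, Matrix.mulVec, dotProduct, Fin.sum_univ_three]
  ring

theorem pres_tau (κ ε : k) (hε : ε ^ 3 = 1) : Pres κ !![1, 0, 0; 0, ε, 0; 0, 0, ε ^ 2] := fun y => by
  simp [hesseFn, Matrix.mulVec, dotProduct, Fin.sum_univ_three]
  have h6 : ε ^ 6 = 1 := by
    have : ε ^ 6 = (ε ^ 3) ^ 2 := by ring
    rw [this, hε, one_pow]
  linear_combination (y 1 ^ 3 - 3 * κ * (y 0 * y 1 * y 2)) * hε + (y 2 ^ 3) * h6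

/-- the nine flexes -/
def Nine (q : Fin 3 → k) : Prop :=
  ∃ γ : k, γ ^ 3 = 1 ∧ (q = ![0, 1, -γ] ∨ q = ![-γ, 0, 1] ∨ q = ![1, -γ, 0])

theorem nine_to_A (κ : k) {q : Fin 3 → k} (hq : Nine q) :
    ∃ (N : Matrix (Fin 3) (Fin 3) k) (γ : k), Pres κ N ∧ γ ^ 3 = 1 ∧ N.mulVec q = ![0, 1, -γ] := by
  obtain ⟨γ, hγ, h | h | h⟩ := hq
  · exact ⟨1, γ, Pres.one κ, hγ, by rw [Matrix.one_mulVec, h]⟩
  · refine ⟨!![0, 1, 0; 0, 0, 1; 1, 0, 0], γ, pres_S1 κ, hγ, ?_⟩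
    rw [h]
    ext i; fin_cases i <;> simp [Matrix.mulVec, dotProduct, Fin.sum_univ_three]
  · refine ⟨!![0, 0, 1; 1, 0, 0; 0, 1, 0], γ, pres_S2 κ, hγ, ?_⟩
    rw [h]
    ext i; fin_cases i <;> simp [Matrix.mulVec, dotProduct, Fin.sum_univ_three]

theorem A_to_A (κ γ γ' : k) (hγ : γ ^ 3 = 1) (hγ' : γ' ^ 3 = 1) :
    ∃ (N : Matrix (Fin 3) (Fin 3) k) (s : k), Pres κ N ∧
      N.mulVec ![0, 1, -γ] = s • ![0, 1, -γ'] := by
  have hε : (γ' * γ ^ 2) ^ 3 = 1 := by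
    have : (γ' * γ ^ 2) ^ 3 = γ' ^ 3 * (γ ^ 3) ^ 2 := by ring
    rw [this, hγ, hγ', one_pow, one_mul]
  refine ⟨!![1, 0, 0; 0, γ' * γ ^ 2, 0; 0, 0, (γ' * γ ^ 2) ^ 2], γ' * γ ^ 2, pres_tau κ _ hε, ?_⟩
  ext i; fin_cases i
  · simp [Matrix.mulVec, dotProduct, Fin.sum_univ_three]
  · simp [Matrix.mulVec, dotProduct, Fin.sum_univ_three]
  · simp [Matrix.mulVec, dotProduct, Fin.sum_univ_three]
    linear_combination (γ' ^ 2 * γ ^ 2) * hγ

theorem nine_transitive (κ : k) {q q' : Fin 3 → k} (hq : Nine q) (hq' : Nine q') :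
    ∃ (N : Matrix (Fin 3) (Fin 3) k) (s : k), Pres κ N ∧ N.mulVec q = s • q' := by
  obtain ⟨N₁, γ, h₁, hγ, e₁⟩ := nine_to_A κ hq
  obtain ⟨N₂, γ', h₂, hγ', e₂⟩ := nine_to_A κ hq'
  obtain ⟨N₃, s, h₃, e₃⟩ := A_to_A κ γ γ' hγ hγ'
  refine ⟨N₂⁻¹ * (N₃ * N₁), s, h₂.inv.mul (h₃.mul h₁), ?_⟩
  rw [← Matrix.mulVec_mulVec, ← Matrix.mulVec_mulVec, e₁, e₃, Matrix.mulVec_smul, ← e₂,
    Matrix.mulVec_mulVec, Matrix.nonsing_inv_mul _ h₂.isUnit_det, Matrix.one_mulVec]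


theorem vand3 (ω : k) (hω : ω ^ 2 + ω + 1 = 0) (p q r : k) (h1 : p + q + r = 0)
    (h2 : p + q * ω + r * ω ^ 2 = 0) (h3 : p + q * ω ^ 2 + r * ω = 0) : p = 0 ∧ q = 0 ∧ r = 0 := by
  have hω1 : ω - 1 ≠ 0 := by
    intro h
    have : ω = 1 := by linear_combination h
    rw [this] at hω
    norm_num at hω
  have hω0 : ω ≠ 0 := by
    rintro rfl
    norm_num at hω
  have hp : p = 0 := by
    have : 3 * p = 0 := by linear_combination h1 + h2 + h3 - (q + r) * hω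
    have h3' : (3 : k) ≠ 0 := by norm_num
    exact (mul_eq_zero.mp this).resolve_left h3'
  subst hp
  have hr : r = 0 := by
    have : ω * (ω - 1) * r = 0 := by linear_combination h2 - ω * h1
    exact (mul_eq_zero.mp this).resolve_left (mul_ne_zero hω0 hω1)
  subst hr
  refine ⟨rfl, ?_, rfl⟩
  linear_combination h1

theorem scalar_of_nine (ω : k) (hω : ω ^ 2 + ω + 1 = 0) (M : Matrix (Fin 3) (Fin 3) k)
    (h : ∀ q : Fin 3 → k, Nine q → ∃ d : k, M.mulVec q = d • q) :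
    M = M 0 0 • (1 : Matrix (Fin 3) (Fin 3) k) := by
  have hω3 : ω ^ 3 = 1 := by linear_combination (ω - 1) * hω
  have hω6 : (ω ^ 2) ^ 3 = 1 := by
    have : (ω ^ 2) ^ 3 = (ω ^ 3) ^ 2 := by ring
    rw [this, hω3, one_pow]
  have h1 : (1 : k) ^ 3 = 1 := one_pow 3
  -- type A
  obtain ⟨a1, ha1⟩ := h ![0, 1, -1] ⟨1, h1, Or.inl rfl⟩
  obtain ⟨a2, ha2⟩ := h ![0, 1, -ω] ⟨ω, hω3, Or.inl rfl⟩
  obtain ⟨a3, ha3⟩ := h ![0, 1, -ω ^ 2] ⟨ω ^ 2, hω6, Or.inl rfl⟩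
  obtain ⟨b1, hb1⟩ := h ![-1, 0, 1] ⟨1, h1, Or.inr (Or.inl rfl)⟩
  obtain ⟨b2, hb2⟩ := h ![-ω, 0, 1] ⟨ω, hω3, Or.inr (Or.inl rfl)⟩
  obtain ⟨b3, hb3⟩ := h ![-ω ^ 2, 0, 1] ⟨ω ^ 2, hω6, Or.inr (Or.inl rfl)⟩
  obtain ⟨c1, hc1⟩ := h ![1, -1, 0] ⟨1, h1, Or.inr (Or.inr rfl)⟩
  obtain ⟨c2, hc2⟩ := h ![1, -ω, 0] ⟨ω, hω3, Or.inr (Or.inr rfl)⟩
  obtain ⟨c3, hc3⟩ := h ![1, -ω ^ 2, 0] ⟨ω ^ 2, hω6, Or.inr (Or.inr rfl)⟩
  have ha10 := congrFun ha1 0; have ha11 := congrFun ha1 1; have ha12 := congrFun ha1 2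
  have ha20 := congrFun ha2 0; have ha21 := congrFun ha2 1; have ha22 := congrFun ha2 2
  have ha30 := congrFun ha3 0; have ha31 := congrFun ha3 1; have ha32 := congrFun ha3 2
  have hb10 := congrFun hb1 0; have hb11 := congrFun hb1 1; have hb12 := congrFun hb1 2
  have hb20 := congrFun hb2 0; have hb21 := congrFun hb2 1; have hb22 := congrFun hb2 2
  have hb30 := congrFun hb3 0; have hb31 := congrFun hb3 1; have hb32 := congrFun hb3 2
  have hc10 := congrFun hc1 0; have hc11 := congrFun hc1 1; have hc12 := congrFun hc1 2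
  have hc20 := congrFun hc2 0; have hc21 := congrFun hc2 1; have hc22 := congrFun hc2 2
  have hc30 := congrFun hc3 0; have hc31 := congrFun hc3 1; have hc32 := congrFun hc3 2
  simp [Matrix.mulVec, dotProduct, Fin.sum_univ_three] at ha10 ha11 ha12 ha20 ha21 ha22 ha30 ha31 ha32
  simp [Matrix.mulVec, dotProduct, Fin.sum_univ_three] at hb10 hb11 hb12 hb20 hb21 hb22 hb30 hb31 hb32
  simp [Matrix.mulVec, dotProduct, Fin.sum_univ_three] at hc10 hc11 hc12 hc20 hc21 hc22 hc30 hc31 hc32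
  -- type A: rows 1,2 : m21 + γ (m11 - m22) - γ² m12 = 0
  obtain ⟨e21, e1122, e12⟩ := vand3 ω hω (M 2 1) (M 1 1 - M 2 2) (-M 1 2)
    (by linear_combination ha12 + ha11)
    (by linear_combination ha22 + ω * ha21)
    (by linear_combination ha32 + ω ^ 2 * ha31 + (M 1 2 * ω) * hω3)
  obtain ⟨e02, e2200, e20⟩ := vand3 ω hω (M 0 2) (M 2 2 - M 0 0) (-M 2 0)
    (by linear_combination hb10 + hb12)
    (by linear_combination hb20 + ω * hb22)
    (by linear_combination hb30 + ω ^ 2 * hb32 + (M 2 0 * ω) * hω3)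
  obtain ⟨e10, e0011, e01⟩ := vand3 ω hω (M 1 0) (M 0 0 - M 1 1) (-M 0 1)
    (by linear_combination hc11 + hc10)
    (by linear_combination hc21 + ω * hc20)
    (by linear_combination hc31 + ω ^ 2 * hc30 + (M 0 1 * ω) * hω3)
  have e12' : M 1 2 = 0 := by linear_combination -e12
  have e20' : M 2 0 = 0 := by linear_combination -e20
  have e01' : M 0 1 = 0 := by linear_combination -e01
  have e11 : M 1 1 = M 0 0 := by linear_combination -e0011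
  have e22 : M 2 2 = M 0 0 := by linear_combination e2200
  ext i j
  fin_cases i <;> fin_cases j <;> simp [e21, e02, e10, e12', e20', e01', e11, e22]

end Groth.Agent.Lib.helper27.PlaneCubicE
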