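import Mathlib
import Groth.Agent.Lib.helper27.CubicForm
import Groth.Agent.Lib.helper27.CubicTri
import Groth.Agent.Lib.helper27.PlaneCubicA
import Groth.Agent.Lib.helper27.PlaneCubicB

/-! Covariance of the Hessian; the Hesse pencil is fixed by automorphisms of a generic member. -/

namespace Groth.Agent.Lib.helper27.PlaneCubicF

open MvPolynomial Groth.Agent.Lib.helper27.CubicForm Groth.Agent.Lib.helper27.CubicTri
  Groth.Agent.Lib.helper27.PlaneCubicA Groth.Agent.Lib.helper27.PlaneCubicB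

set_option linter.unusedSectionVars false
set_option linter.unusedVariables false

variable {k : Type*} [Field k] [CharZero k]

theorem tri_comp {f : MvPolynomial (Fin 3) k} (hf : f.IsHomogeneous 3)
    (A : Matrix (Fin 3) (Fin 3) k) (c : k)
    (h : ∀ y : Fin 3 → k, eval (A.mulVec y) f = c * eval y f) (x y z : Fin 3 → k) :
    tri f (A.mulVec x) (A.mulVec y) (A.mulVec z) = c * tri f x y z := by
  have s12 := tri_swap12 f
  have s23 := tri_swap23 f
  have hd : ∀ u : Fin 3 → k, tri f (A.mulVec u) (A.mulVec u) (A.mulVec u) = c * tri f u u u := by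
    intro u; rw [tri_diag hf, tri_diag hf, h]
  have h1 := polar6 (tri f) s12 s23 (A.mulVec x) (A.mulVec y) (A.mulVec z)
  have h2 := polar6 (tri f) s12 s23 x y z
  simp only [← Matrix.mulVec_add, hd] at h1
  have h6 : (6 : k) ≠ 0 := by norm_num
  apply mul_left_cancel₀ h6
  rw [h1]
  linear_combination (-c) * h2

theorem hess_cov {f : MvPolynomial (Fin 3) k} (hf : f.IsHomogeneous 3)
    (A : Matrix (Fin 3) (Fin 3) k) (c : k)
    (h : ∀ y : Fin 3 → k, eval (A.mulVec y) f = c * eval y f) (v : Fin 3 → k) :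
    A.det ^ 2 * eval (A.mulVec v) (hessian f) = c ^ 3 * eval v (hessian f) := by
  rw [eval_hessian, eval_hessian]
  set M1 : Matrix (Fin 3) (Fin 3) k :=
    Matrix.of fun i j : Fin 3 => eval (A.mulVec v) (pderiv i (pderiv j f)) with hM1
  set M0 : Matrix (Fin 3) (Fin 3) k :=
    Matrix.of fun i j : Fin 3 => eval v (pderiv i (pderiv j f)) with hM0
  have key : A.transpose * M1 * A = c • M0 := by
    ext i j
    have hcol : ∀ j : Fin 3, A.mulVec (Pi.single j 1) = fun a => A a j := by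
      intro j; ext a; simp [Matrix.mulVec, dotProduct, Pi.single_apply]
    have hexp : ∀ u : Fin 3 → k, u = ∑ a, u a • (Pi.single a (1 : k) : Fin 3 → k) := by
      intro u; ext l; simp [Finset.sum_apply, Pi.single_apply]
    have h1 := tri_comp hf A c h (Pi.single i 1) (Pi.single j 1) v
    rw [hcol, hcol] at h1
    rw [hexp (fun a => A a i), hexp (fun a => A a j)] at h1
    simp only [map_sum, map_smul, LinearMap.sum_apply, LinearMap.smul_apply, smul_eq_mul] at h1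
    simp only [Matrix.mul_apply, Matrix.transpose_apply, Matrix.smul_apply, smul_eq_mul, hM1, hM0,
      Matrix.of_apply]
    rw [← tri_hess hf i j v]
    have h6 : (6 : k) ≠ 0 := by norm_num
    calc ∑ b, (∑ a, A a i * eval (A.mulVec v) (pderiv a (pderiv b f))) * A b j
        = 6 * ∑ b, A b j * ∑ a, A a i * tri f (Pi.single a 1) (Pi.single b 1) (A.mulVec v) := by
          simp only [← tri_hess hf _ _ (A.mulVec v)]
          simp only [Finset.mul_sum, Finset.sum_mul]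
          refine Finset.sum_congr rfl fun b _ => Finset.sum_congr rfl fun a _ => ?_
          ring
      _ = 6 * (c * tri f (Pi.single i 1) (Pi.single j 1) v) := by rw [h1]
      _ = c * (6 * tri f (Pi.single i 1) (Pi.single j 1) v) := by ring
  have hdet := congrArg Matrix.det key
  rw [Matrix.det_mul, Matrix.det_mul, Matrix.det_transpose, Matrix.det_smul, Fintype.card_fin] at hdet
  linear_combination hdet


/-- the Hesse cubic polynomial (same as `HesseCubic.form`) -/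
noncomputable def hpoly (κ : k) : MvPolynomial (Fin 3) k :=
  X 0 ^ 3 + X 1 ^ 3 + X 2 ^ 3 - C (3 * κ) * (X 0 * X 1 * X 2)

theorem eval_hpoly (κ : k) (v : Fin 3 → k) : eval v (hpoly κ) = hesseFn κ v := by
  simp [hpoly, hesseFn]

theorem hpoly_isHomogeneous (κ : k) : (hpoly κ).IsHomogeneous 3 := by
  unfold hpoly
  refine IsHomogeneous.sub (IsHomogeneous.add (IsHomogeneous.add ?_ ?_) ?_) ?_
  · exact isHomogeneous_X_pow _ _
  · exact isHomogeneous_X_pow _ _
  · exact isHomogeneous_X_pow _ _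
  · have h1 := ((isHomogeneous_X k (0 : Fin 3)).mul (isHomogeneous_X k (1 : Fin 3))).mul
      (isHomogeneous_X k (2 : Fin 3))
    have := (isHomogeneous_C (Fin 3) (3 * κ)).mul h1
    simpa using this

theorem eval_hessian_hpoly (κ : k) (v : Fin 3 → k) :
    eval v (hessian (hpoly κ)) =
      -54 * κ ^ 2 * (v 0 ^ 3 + v 1 ^ 3 + v 2 ^ 3) + (216 - 54 * κ ^ 3) * (v 0 * v 1 * v 2) := by
  rw [eval_hessian, Matrix.det_fin_three]
  have h3 : ∀ i : Fin 3, pderiv i (3 : MvPolynomial (Fin 3) k) = 0 := by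
    intro i
    have : (3 : MvPolynomial (Fin 3) k) = C 3 := (map_ofNat C 3).symm
    rw [this, pderiv_C]
  simp [hpoly, pderiv_X, Pi.single_apply, h3]
  ring


/-- the parameter of the Hessian of the Hesse cubic -/
noncomputable def hk (κ : k) : k := (4 - κ ^ 3) / (3 * κ ^ 2)

theorem hess_step (κ : k) (hκ : κ ≠ 0) (A : Matrix (Fin 3) (Fin 3) k) (hA : A.det ≠ 0) (c : k)
    (h : ∀ y : Fin 3 → k, hesseFn κ (A.mulVec y) = c * hesseFn κ y) (y : Fin 3 → k) :
    hesseFn (hk κ) (A.mulVec y) = (c ^ 3 / A.det ^ 2) * hesseFn (hk κ) y := by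
  have h1 := hess_cov (hpoly_isHomogeneous κ) A c (fun y => by
    rw [eval_hpoly, eval_hpoly]; exact h y) y
  rw [eval_hessian_hpoly, eval_hessian_hpoly] at h1
  have e : ∀ v : Fin 3 → k, -54 * κ ^ 2 * (v 0 ^ 3 + v 1 ^ 3 + v 2 ^ 3) +
      (216 - 54 * κ ^ 3) * (v 0 * v 1 * v 2) = (-54 * κ ^ 2) * hesseFn (hk κ) v := by
    intro v
    unfold hesseFn hk
    field_simp
    ring
  rw [e, e] at h1
  have h54 : (-54 : k) * κ ^ 2 ≠ 0 := mul_ne_zero (by norm_num) (pow_ne_zero 2 hκ)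
  have hd2 : A.det ^ 2 ≠ 0 := pow_ne_zero 2 hA
  apply mul_left_cancel₀ h54
  apply mul_left_cancel₀ hd2
  rw [div_mul_eq_mul_div, mul_div_assoc', mul_div_assoc', eq_div_iff hd2]
  linear_combination (A.det ^ 2) * h1

theorem pencil_fixed (κ : k) (h0 : κ ≠ 0) (h0' : hk κ ≠ 0) (d1 : hk κ ≠ κ)
    (d2 : hk (hk κ) ≠ κ) (d3 : hk (hk κ) ≠ hk κ)
    (A : Matrix (Fin 3) (Fin 3) k) (hA : A.det ≠ 0) (c : k)
    (h : ∀ y : Fin 3 → k, hesseFn κ (A.mulVec y) = c * hesseFn κ y) (y : Fin 3 → k) :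
    (A.mulVec y) 0 ^ 3 + (A.mulVec y) 1 ^ 3 + (A.mulVec y) 2 ^ 3 = c * (y 0 ^ 3 + y 1 ^ 3 + y 2 ^ 3) ∧
    (A.mulVec y) 0 * (A.mulVec y) 1 * (A.mulVec y) 2 = c * (y 0 * y 1 * y 2) := by
  have hs1 := hess_step κ h0 A hA c h
  have hs2 := hess_step (hk κ) h0' A hA _ hs1
  obtain ⟨κ', hκ'⟩ : ∃ κ' : k, κ' = hk κ := ⟨_, rfl⟩
  rw [← hκ'] at hs1 hs2 h0' d1 d2 d3
  obtain ⟨κ'', hκ''⟩ : ∃ κ'' : k, κ'' = hk κ' := ⟨_, rfl⟩
  rw [← hκ''] at hs2 d2 d3
  obtain ⟨c₁, hc₁⟩ : ∃ c₁ : k, c₁ = c ^ 3 / A.det ^ 2 := ⟨_, rfl⟩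
  rw [← hc₁] at hs1 hs2
  obtain ⟨c₂, hc₂⟩ : ∃ c₂ : k, c₂ = c₁ ^ 3 / A.det ^ 2 := ⟨_, rfl⟩
  rw [← hc₂] at hs2
  -- relation valid for all y
  have hrel : ∀ y : Fin 3 → k,
      ((κ - κ'') * (c - c₁) - (κ - κ') * (c - c₂)) * (y 0 ^ 3 + y 1 ^ 3 + y 2 ^ 3)
        - 3 * ((κ - κ'') * (c * κ - c₁ * κ') - (κ - κ') * (c * κ - c₂ * κ'')) * (y 0 * y 1 * y 2)
        = 0 := by
    intro y
    have e1 := h y
    have e2 := hs1 y
    have e3 := hs2 y
    unfold hesseFn at e1 e2 e3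
    linear_combination (κ'' - κ') * e1 + (κ - κ'') * e2 + (κ' - κ) * e3
  have ha := hrel ![1, 0, 0]
  have hb := hrel ![1, 1, 1]
  simp at ha hb
  have hα : (κ - κ'') * (c - c₁) - (κ - κ') * (c - c₂) = 0 := by linear_combination ha
  have hβ : (κ - κ'') * (c * κ - c₁ * κ') - (κ - κ') * (c * κ - c₂ * κ'') = 0 := by
    linear_combination ha - (1 / 3 : k) * hb
  have hu : (κ - κ'') * (κ'' - κ') * (c - c₁) = 0 := by linear_combination κ'' * hα - hβ
  have hw : (κ - κ') * (κ'' - κ') * (c - c₂) = 0 := by linear_combination κ' * hα - hβ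
  have n1 : κ - κ'' ≠ 0 := sub_ne_zero.mpr (Ne.symm d2)
  have n2 : κ'' - κ' ≠ 0 := sub_ne_zero.mpr d3
  have n3 : κ - κ' ≠ 0 := sub_ne_zero.mpr (Ne.symm d1)
  have hc1 : c₁ = c := by
    have := (mul_eq_zero.mp hu).resolve_left (mul_ne_zero n1 n2)
    linear_combination -this
  have e1 := h y
  have e2 := hs1 y
  rw [hc1] at e2
  unfold hesseFn at e1 e2
  have hE2 : (A.mulVec y) 0 * (A.mulVec y) 1 * (A.mulVec y) 2 = c * (y 0 * y 1 * y 2) := by
    have : (κ - κ') * ((A.mulVec y) 0 * (A.mulVec y) 1 * (A.mulVec y) 2 - c * (y 0 * y 1 * y 2)) = 0 := by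
      linear_combination (-1 / 3 : k) * e1 + (1 / 3 : k) * e2
    have := (mul_eq_zero.mp this).resolve_left n3
    linear_combination this
  refine ⟨?_, hE2⟩
  linear_combination e1 + 3 * κ * hE2

end Groth.Agent.Lib.helper27.PlaneCubicF
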