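import Mathlib

/-! Matrices preserving `xyz` and `x³+y³+z³` up to a common scalar are monomial. -/

namespace Groth.Agent.Lib.helper27.PlaneCubicG

set_option linter.unusedSectionVars false
set_option linter.unusedVariables false

variable {k : Type*} [Field k] [CharZero k]

theorem mulVec_two (A : Matrix (Fin 3) (Fin 3) k) (l₁ l₂ : Fin 3) (s : k) (i : Fin 3) :
    (A.mulVec (s • Pi.single l₁ 1 + Pi.single l₂ 1)) i = s * A i l₁ + A i l₂ := by
  rw [Matrix.mulVec_add, Matrix.mulVec_smul]
  simp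

theorem row_zero_of_prod (A : Matrix (Fin 3) (Fin 3) k) (c : k)
    (h : ∀ y : Fin 3 → k, (A.mulVec y) 0 * (A.mulVec y) 1 * (A.mulVec y) 2 = c * (y 0 * y 1 * y 2))
    (l₁ l₂ j : Fin 3) (hj1 : j ≠ l₁) (hj2 : j ≠ l₂) : ∃ i, A i l₁ = 0 ∧ A i l₂ = 0 := by
  open Polynomial in
  have hP : (∏ i : Fin 3, (C (A i l₁) * X + C (A i l₂)) : k[X]) = 0 := by
    apply Polynomial.funext
    intro s
    rw [Polynomial.eval_prod, Fin.prod_univ_three]
    simp only [eval_add, eval_mul, eval_C, eval_X, eval_zero]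
    have := h (s • Pi.single l₁ 1 + Pi.single l₂ 1)
    rw [mulVec_two, mulVec_two, mulVec_two] at this
    have hz : (s • Pi.single l₁ (1 : k) + Pi.single l₂ (1 : k) : Fin 3 → k) 0 *
        (s • Pi.single l₁ (1 : k) + Pi.single l₂ (1 : k) : Fin 3 → k) 1 *
        (s • Pi.single l₁ (1 : k) + Pi.single l₂ (1 : k) : Fin 3 → k) 2 = 0 := by
      have hj : (s • Pi.single l₁ (1 : k) + Pi.single l₂ (1 : k) : Fin 3 → k) j = 0 := by
        simp [hj1, hj2]
      fin_cases j
      · rw [show ((⟨0, by decide⟩ : Fin 3)) = 0 from rfl] at hj; rw [hj]; ring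
      · rw [show ((⟨1, by decide⟩ : Fin 3)) = 1 from rfl] at hj; rw [hj]; ring
      · rw [show ((⟨2, by decide⟩ : Fin 3)) = 2 from rfl] at hj; rw [hj]; ring
    rw [hz, mul_zero] at this
    linear_combination this
  rw [Finset.prod_eq_zero_iff] at hP
  obtain ⟨i, _, hi⟩ := hP
  refine ⟨i, ?_, ?_⟩
  · have := congrArg (fun p : Polynomial k => p.coeff 1) hi
    simpa using this
  · have := congrArg (fun p : Polynomial k => p.coeff 0) hi
    simpa using this


/-- monomial matrix: column `j` has the single entry `d j` in row `ρ j`. -/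
def Mon (ρ : Equiv.Perm (Fin 3)) (d : Fin 3 → k) : Matrix (Fin 3) (Fin 3) k :=
  Matrix.of fun i j => if i = ρ j then d j else 0

theorem Mon_mulVec (ρ : Equiv.Perm (Fin 3)) (d : Fin 3 → k) (y : Fin 3 → k) (i : Fin 3) :
    (Mon ρ d).mulVec y i = d (ρ.symm i) * y (ρ.symm i) := by
  simp only [Matrix.mulVec, dotProduct, Mon, Matrix.of_apply]
  rw [Finset.sum_eq_single (ρ.symm i)]
  · simp
  · intro j _ hj
    have : i ≠ ρ j := by
      intro h
      apply hj
      rw [h, Equiv.symm_apply_apply]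
    simp [this]
  · simp

theorem monomial_of_pres (A : Matrix (Fin 3) (Fin 3) k) (hA : A.det ≠ 0) (c : k)
    (h : ∀ y : Fin 3 → k, (A.mulVec y) 0 * (A.mulVec y) 1 * (A.mulVec y) 2 = c * (y 0 * y 1 * y 2)) :
    ∃ (ρ : Equiv.Perm (Fin 3)) (d : Fin 3 → k), A = Mon ρ d := by
  have hr : ∀ j : Fin 3, ∃ i : Fin 3, ∀ l : Fin 3, l ≠ j → A i l = 0 := by
    intro j
    fin_cases j
    · obtain ⟨i, h1, h2⟩ := row_zero_of_prod A c h 1 2 0 (by decide) (by decide)
      refine ⟨i, fun l hl => ?_⟩
      fin_cases l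
      · exact absurd rfl hl
      · exact h1
      · exact h2
    · obtain ⟨i, h1, h2⟩ := row_zero_of_prod A c h 0 2 1 (by decide) (by decide)
      refine ⟨i, fun l hl => ?_⟩
      fin_cases l
      · exact h1
      · exact absurd rfl hl
      · exact h2
    · obtain ⟨i, h1, h2⟩ := row_zero_of_prod A c h 0 1 2 (by decide) (by decide)
      refine ⟨i, fun l hl => ?_⟩
      fin_cases l
      · exact h1
      · exact h2
      · exact absurd rfl hl
  choose r hr using hr
  have hinj : Function.Injective r := by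
    intro j j' hjj
    by_contra hne
    apply hA
    apply Matrix.det_eq_zero_of_row_eq_zero (r j)
    intro l
    by_cases hl : l = j
    · rw [hjj]
      apply hr j'
      rw [hl]; exact hne
    · exact hr j l hl
  have hbij : Function.Bijective r := Finite.injective_iff_bijective.mp hinj
  refine ⟨Equiv.ofBijective r hbij, fun j => A (r j) j, ?_⟩
  ext i l
  simp only [Mon, Matrix.of_apply, Equiv.ofBijective_apply]
  split_ifs with hil
  · rw [hil]
  · obtain ⟨j, rfl⟩ := hbij.2 i
    apply hr j l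
    rintro rfl
    exact hil rfl


/-- the sign of a permutation as an element of the field -/
def sgn (ρ : Equiv.Perm (Fin 3)) : k := (((Equiv.Perm.sign ρ : ℤˣ) : ℤ) : k)

theorem sgn_sq (ρ : Equiv.Perm (Fin 3)) : (sgn ρ : k) ^ 2 = 1 := by
  unfold sgn
  rcases Int.units_eq_one_or (Equiv.Perm.sign ρ) with h | h <;> simp [h]

theorem sgn_ne_zero (ρ : Equiv.Perm (Fin 3)) : (sgn ρ : k) ≠ 0 := by
  intro h
  have := sgn_sq (k := k) ρ
  rw [h] at this
  norm_num at this

theorem Mon_det (ρ : Equiv.Perm (Fin 3)) (d : Fin 3 → k) :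
    (Mon ρ d).det = sgn ρ * ∏ j, d j := by
  rw [Matrix.det_apply', Finset.sum_eq_single ρ]
  · unfold sgn
    congr 1
    apply Finset.prod_congr rfl
    intro j _
    simp [Mon]
  · intro σ _ hσ
    have : ∃ j, σ j ≠ ρ j := by
      by_contra hcon
      push Not at hcon
      exact hσ (Equiv.ext hcon)
    obtain ⟨j, hj⟩ := this
    rw [Finset.prod_eq_zero (Finset.mem_univ j), mul_zero]
    simp [Mon, hj]
  · simp

end Groth.Agent.Lib.helper27.PlaneCubicG
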