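import Mathlib
import Groth.Agent.Lib.helper27.PlaneCubicB
import Groth.Agent.Lib.helper27.PlaneCubicF
import Groth.Agent.Lib.helper27.PlaneCubicG

/-! Counting the automorphisms of a generic Hesse cubic. -/

namespace Groth.Agent.Lib.helper27.PlaneCubicH

open Groth.Agent.Lib.helper27.PlaneCubicB Groth.Agent.Lib.helper27.PlaneCubicF
  Groth.Agent.Lib.helper27.PlaneCubicG

set_option linter.unusedSectionVars false
set_option linter.unusedVariables false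

variable {k : Type*} [Field k] [CharZero k]

theorem hesseFn_eq (κ : k) (y : Fin 3 → k) :
    hesseFn κ y = ∑ i, y i ^ 3 - 3 * κ * ∏ i, y i := by
  rw [Fin.sum_univ_three, Fin.prod_univ_three]; rfl

theorem Mon_e1 (ρ : Equiv.Perm (Fin 3)) (d y : Fin 3 → k) :
    ∑ i, ((Mon ρ d).mulVec y i) ^ 3 = ∑ j, d j ^ 3 * y j ^ 3 := by
  simp only [Mon_mulVec]
  rw [Equiv.sum_comp ρ.symm (fun j => (d j * y j) ^ 3)]
  exact Finset.sum_congr rfl fun j _ => by ring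

theorem Mon_e2 (ρ : Equiv.Perm (Fin 3)) (d y : Fin 3 → k) :
    ∏ i, (Mon ρ d).mulVec y i = (∏ j, d j) * ∏ j, y j := by
  simp only [Mon_mulVec]
  rw [Equiv.prod_comp ρ.symm (fun j => d j * y j), Finset.prod_mul_distrib]

/-- the function-level automorphism condition -/
def IsAut (κ : k) (A : Matrix (Fin 3) (Fin 3) k) : Prop :=
  A.det = 1 ∧ ∃ c : k, ∀ y : Fin 3 → k, hesseFn κ (A.mulVec y) = c * hesseFn κ y

theorem isAut_Mon (κ : k) (ρ : Equiv.Perm (Fin 3)) (d : Fin 3 → k)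
    (hd3 : ∀ j, d j ^ 3 = sgn ρ) (hdp : ∏ j, d j = sgn ρ) : IsAut κ (Mon ρ d) := by
  refine ⟨?_, sgn ρ, fun y => ?_⟩
  · rw [Mon_det, hdp, ← pow_two, sgn_sq]
  · rw [hesseFn_eq, hesseFn_eq, Mon_e1, Mon_e2, hdp]
    simp only [hd3]
    rw [← Finset.mul_sum]
    ring

/-- generic parameter -/
def Generic (κ : k) : Prop :=
  κ ≠ 0 ∧ hk κ ≠ 0 ∧ hk κ ≠ κ ∧ hk (hk κ) ≠ κ ∧ hk (hk κ) ≠ hk κ

theorem isAut_structure (κ : k) (hκ : Generic κ) (A : Matrix (Fin 3) (Fin 3) k) (hA : IsAut κ A) :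
    ∃ (ρ : Equiv.Perm (Fin 3)) (d : Fin 3 → k), A = Mon ρ d ∧ (∀ j, d j ^ 3 = sgn ρ) ∧
      ∏ j, d j = sgn ρ := by
  obtain ⟨hdet, c, hc⟩ := hA
  obtain ⟨h0, h0', d1, d2, d3⟩ := hκ
  have hdet0 : A.det ≠ 0 := by rw [hdet]; exact one_ne_zero
  have hpf := pencil_fixed κ h0 h0' d1 d2 d3 A hdet0 c hc
  obtain ⟨ρ, d, rfl⟩ := monomial_of_pres A hdet0 c (fun y => (hpf y).2)
  have hprod : ∏ j, d j = c := by
    have := (hpf (fun _ => 1)).2
    have h2 := Mon_e2 ρ d (fun _ => 1)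
    rw [Fin.prod_univ_three] at h2
    rw [this] at h2
    simpa using h2.symm
  have hcube : ∀ j, d j ^ 3 = c := by
    intro j
    have := (hpf (Pi.single j 1)).1
    have h1 := Mon_e1 ρ d (Pi.single j 1)
    rw [Fin.sum_univ_three] at h1
    rw [this, Fin.sum_univ_three] at h1
    fin_cases j <;> simp at h1 ⊢ <;> exact h1.symm
  have hc1 : sgn ρ * c = 1 := by
    rw [Mon_det, hprod] at hdet; exact hdet
  have hcs : c = sgn ρ := by
    have := sgn_sq (k := k) ρ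
    linear_combination (sgn ρ) * hc1 - c * this
  exact ⟨ρ, d, rfl, fun j => by rw [hcube, hcs], by rw [hprod, hcs]⟩


section count
variable (ω : k) (hω : ω ^ 2 + ω + 1 = 0)

/-- the diagonal entries attached to `(ρ, a, b)` -/
def dvec (ρ : Equiv.Perm (Fin 3)) (a b : Fin 3) : Fin 3 → k :=
  fun j => sgn ρ * ![ω ^ (a : ℕ), ω ^ (b : ℕ), ω ^ (2 * (a : ℕ) + 2 * (b : ℕ))] j

include hω

theorem omega_cube : ω ^ 3 = 1 := by linear_combination (ω - 1) * hω

theorem omega_ne_zero : ω ≠ 0 := by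
  rintro rfl
  norm_num at hω

theorem omega_pow_cube (n : ℕ) : (ω ^ n) ^ 3 = 1 := by
  rw [← pow_mul, mul_comm, pow_mul, omega_cube ω hω, one_pow]

theorem sgn_cube (ρ : Equiv.Perm (Fin 3)) : (sgn ρ : k) ^ 3 = sgn ρ := by
  have := sgn_sq (k := k) ρ
  linear_combination (sgn ρ) * this

theorem dvec_cube (ρ : Equiv.Perm (Fin 3)) (a b j : Fin 3) : dvec ω ρ a b j ^ 3 = sgn ρ := by
  unfold dvec
  rw [mul_pow, sgn_cube ω hω]
  fin_cases j <;> simp [omega_pow_cube ω hω]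

theorem dvec_prod (ρ : Equiv.Perm (Fin 3)) (a b : Fin 3) : ∏ j, dvec ω ρ a b j = sgn ρ := by
  unfold dvec
  rw [Fin.prod_univ_three]
  simp only [Matrix.cons_val_zero, Matrix.cons_val_one, Matrix.cons_val_two, Matrix.head_cons,
    Matrix.tail_cons]
  have h1 : ω ^ (a : ℕ) * ω ^ (b : ℕ) * ω ^ (2 * (a : ℕ) + 2 * (b : ℕ)) = 1 := by
    rw [← pow_add, ← pow_add]
    have : (a : ℕ) + (b : ℕ) + (2 * (a : ℕ) + 2 * (b : ℕ)) = 3 * ((a : ℕ) + (b : ℕ)) := by ring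
    rw [this, pow_mul, omega_cube ω hω, one_pow]
  have h2 := sgn_cube (k := k) ω hω ρ
  calc sgn ρ * ω ^ (a : ℕ) * (sgn ρ * ω ^ (b : ℕ)) * (sgn ρ * ω ^ (2 * (a : ℕ) + 2 * (b : ℕ)))
      = sgn ρ ^ 3 * (ω ^ (a : ℕ) * ω ^ (b : ℕ) * ω ^ (2 * (a : ℕ) + 2 * (b : ℕ))) := by ring
    _ = sgn ρ := by rw [h1, h2, mul_one]

theorem pow_inj3 (a a' : Fin 3) (h : ω ^ (a : ℕ) = ω ^ (a' : ℕ)) : a = a' := by
  have n1 : ω ≠ 1 := by
    rintro rfl
    norm_num at hω
  have n2 : ω ^ 2 ≠ 1 := by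
    intro h2
    have : ω = -2 := by linear_combination hω - h2
    rw [this] at h2
    norm_num at h2
  have n3 : ω ^ 2 ≠ ω := by
    intro h3
    have : ω = -1 / 2 := by
      have : 2 * ω + 1 = 0 := by linear_combination hω - h3
      linear_combination (1 / 2 : k) * this
    rw [this] at h3
    norm_num at h3
  have n01 : ω ^ 0 ≠ ω ^ 1 := by rw [pow_zero, pow_one]; exact Ne.symm n1
  have n02 : ω ^ 0 ≠ ω ^ 2 := by rw [pow_zero]; exact Ne.symm n2
  have n12 : ω ^ 1 ≠ ω ^ 2 := by rw [pow_one]; exact Ne.symm n3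
  fin_cases a <;> fin_cases a'
  · rfl
  · exact absurd h n01
  · exact absurd h n02
  · exact absurd h.symm n01
  · rfl
  · exact absurd h n12
  · exact absurd h.symm n02
  · exact absurd h.symm n12
  · rfl

theorem cube_root (z : k) (hz : z ^ 3 = 1) : ∃ a : Fin 3, z = ω ^ (a : ℕ) := by
  have h : (z - 1) * ((z - ω) * (z - ω ^ 2)) = 0 := by
    linear_combination hz + (z - 1) * (ω - 1 - z) * hω
  rcases mul_eq_zero.mp h with h | h
  · exact ⟨0, by simp; linear_combination h⟩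
  · rcases mul_eq_zero.mp h with h | h
    · exact ⟨1, by simp; linear_combination h⟩
    · exact ⟨2, by simp; linear_combination h⟩

theorem Mon_injective (ρ ρ' : Equiv.Perm (Fin 3)) (d d' : Fin 3 → k) (hd : ∀ j, d j ≠ 0)
    (h : Mon ρ d = Mon ρ' d') : ρ = ρ' ∧ d = d' := by
  have h1 : ∀ j, ρ j = ρ' j := by
    intro j
    have := congrFun (congrFun h (ρ j)) j
    simp only [Mon, Matrix.of_apply, if_true] at this
    by_contra hne
    rw [if_neg hne] at this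
    exact hd j this
  have hρ : ρ = ρ' := Equiv.ext h1
  refine ⟨hρ, ?_⟩
  funext j
  have := congrFun (congrFun h (ρ j)) j
  simp only [Mon, Matrix.of_apply, if_true] at this
  rw [if_pos (h1 j)] at this
  exact this

theorem card_isAut (κ : k) (hκ : Generic κ) :
    Nat.card {A : Matrix (Fin 3) (Fin 3) k // IsAut κ A} = 54 := by
  let F : Equiv.Perm (Fin 3) × Fin 3 × Fin 3 → {A : Matrix (Fin 3) (Fin 3) k // IsAut κ A} :=
    fun p => ⟨Mon p.1 (dvec ω p.1 p.2.1 p.2.2),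
      isAut_Mon κ p.1 _ (dvec_cube ω hω p.1 p.2.1 p.2.2) (dvec_prod ω hω p.1 p.2.1 p.2.2)⟩
  have hne : ∀ (ρ : Equiv.Perm (Fin 3)) (a b j : Fin 3), dvec ω ρ a b j ≠ 0 := by
    intro ρ a b j h0
    have := dvec_cube ω hω ρ a b j
    rw [h0] at this
    exact sgn_ne_zero (k := k) ρ (by rw [← this]; ring)
  have hinj : Function.Injective F := by
    rintro ⟨ρ, a, b⟩ ⟨ρ', a', b'⟩ h
    have h' : Mon ρ (dvec ω ρ a b) = Mon ρ' (dvec ω ρ' a' b') := congrArg Subtype.val h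
    obtain ⟨rfl, hd⟩ := Mon_injective ω hω ρ ρ' _ _ (hne ρ a b) h'
    have h0 := congrFun hd 0
    have h1 := congrFun hd 1
    simp only [dvec, Matrix.cons_val_zero, Matrix.cons_val_one] at h0 h1
    have ha := pow_inj3 ω hω a a' (mul_left_cancel₀ (sgn_ne_zero ρ) h0)
    have hb := pow_inj3 ω hω b b' (mul_left_cancel₀ (sgn_ne_zero ρ) h1)
    rw [ha, hb]
  have hsurj : Function.Surjective F := by
    rintro ⟨A, hA⟩
    obtain ⟨ρ, d, rfl, hd3, hdp⟩ := isAut_structure κ hκ A hA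
    have hs2 := sgn_sq (k := k) ρ
    have hz : ∀ j, (sgn ρ * d j) ^ 3 = 1 := by
      intro j
      rw [mul_pow, hd3, sgn_cube ω hω, ← pow_two, hs2]
    obtain ⟨a, ha⟩ := cube_root ω hω _ (hz 0)
    obtain ⟨b, hb⟩ := cube_root ω hω _ (hz 1)
    have hd0 : d 0 = sgn ρ * ω ^ (a : ℕ) := by
      rw [← ha, ← mul_assoc, ← pow_two, hs2, one_mul]
    have hd1 : d 1 = sgn ρ * ω ^ (b : ℕ) := by
      rw [← hb, ← mul_assoc, ← pow_two, hs2, one_mul]
    have hd2 : d 2 = sgn ρ * ω ^ (2 * (a : ℕ) + 2 * (b : ℕ)) := by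
      rw [Fin.prod_univ_three, hd0, hd1] at hdp
      have h3 : ω ^ (a : ℕ) * ω ^ (b : ℕ) * ω ^ (2 * (a : ℕ) + 2 * (b : ℕ)) = 1 := by
        rw [← pow_add, ← pow_add]
        have : (a : ℕ) + (b : ℕ) + (2 * (a : ℕ) + 2 * (b : ℕ)) = 3 * ((a : ℕ) + (b : ℕ)) := by ring
        rw [this, pow_mul, omega_cube ω hω, one_pow]
      have hx0 : ω ^ (a : ℕ) ≠ 0 := pow_ne_zero _ (omega_ne_zero ω hω)
      have hy0 : ω ^ (b : ℕ) ≠ 0 := pow_ne_zero _ (omega_ne_zero ω hω)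
      generalize ω ^ (a : ℕ) = x at *
      generalize ω ^ (b : ℕ) = y at *
      generalize ω ^ (2 * (a : ℕ) + 2 * (b : ℕ)) = v at *
      apply mul_left_cancel₀ (mul_ne_zero hx0 hy0)
      linear_combination hdp - (x * y * d 2) * hs2 - sgn ρ * h3
    refine ⟨(ρ, a, b), ?_⟩
    apply Subtype.ext
    simp only [F]
    congr 1
    funext j
    fin_cases j
    · simp [dvec, hd0]
    · simp [dvec, hd1]
    · simp [dvec, hd2]
  rw [← Nat.card_congr (Equiv.ofBijective F ⟨hinj, hsurj⟩)]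
  simp [Nat.card_eq_fintype_card, Fintype.card_perm]
  rfl

end count

end Groth.Agent.Lib.helper27.PlaneCubicH
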