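import Mathlib
import Groth.Prelude.Def_RelSpec2

set_option autoImplicit false
universe u

namespace Groth.Agent.Lib.helper27.PointedCone
open CategoryTheory CategoryTheory.Limits AlgebraicGeometry Opposite TopologicalSpace
open scoped HomogeneousIdeal

variable {Y : Scheme.{u}} (𝒮 : RelProj.QCGrAlg Y)

/-- restriction to a basic open: the vertex condition is unchanged. -/
theorem irrelevant_le_iff_basic (U : Y.Opens) (hU : IsAffineOpen U) (r : Γ(Y, U))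
    (w : Spec (𝒮.presheaf.obj (op (Y.basicOpen r)))) :
    (HomogeneousIdeal.irrelevant (𝒮.deg U hU)).toIdeal ≤
        ((Spec.map (𝒮.presheaf.map (homOfLE (Y.basicOpen_le r)).op)).base w).asIdeal ↔
      (HomogeneousIdeal.irrelevant (𝒮.deg (Y.basicOpen r) (hU.basicOpen r))).toIdeal ≤ w.asIdeal := by
  set ψ := 𝒮.res hU (hU.basicOpen r) (Y.basicOpen_le r) with hψ
  have hcomap : ((Spec.map (𝒮.presheaf.map (homOfLE (Y.basicOpen_le r)).op)).base w).asIdeal =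
      Ideal.comap ψ w.asIdeal := rfl
  rw [hcomap]
  constructor
  · intro h
    have h1 : (HomogeneousIdeal.irrelevant (𝒮.deg (Y.basicOpen r) (hU.basicOpen r))).toIdeal ≤
        Ideal.map ψ (HomogeneousIdeal.irrelevant (𝒮.deg U hU)).toIdeal :=
      𝒮.irrelevant_le_map U hU r
    exact h1.trans ((Ideal.map_mono h).trans Ideal.map_comap_le)
  · intro h
    rw [HomogeneousIdeal.toIdeal_irrelevant_le]
    intro i hi x hx
    have hx' : ψ x ∈ 𝒮.deg (Y.basicOpen r) (hU.basicOpen r) i := GradedFunLike.map_mem ψ hx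
    exact h (HomogeneousIdeal.mem_irrelevant_of_mem _ hi hx')

theorem irrelevant_le_iff_of_le {U V : Y.AffineZariskiSite} (h : V ≤ U)
    (w : Spec (𝒮.presheaf.obj (op V.1))) :
    (HomogeneousIdeal.irrelevant (𝒮.deg U.1 U.2)).toIdeal ≤
        ((Spec.map (𝒮.presheaf.map
          (homOfLE (Scheme.AffineZariskiSite.toOpens_mono h)).op)).base w).asIdeal ↔
      (HomogeneousIdeal.irrelevant (𝒮.deg V.1 V.2)).toIdeal ≤ w.asIdeal := by
  obtain ⟨U, hU⟩ := U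
  obtain ⟨V, hV⟩ := V
  obtain ⟨r, hr⟩ := h
  change Y.basicOpen r = V at hr
  subst hr
  exact irrelevant_le_iff_basic 𝒮 U hU r w

/-- chart independence of the vertex condition. -/
theorem irrelevant_le_iff_of_eq (U₁ : Y.Opens) (hU₁ : IsAffineOpen U₁) (U₂ : Y.Opens)
    (hU₂ : IsAffineOpen U₂) (w₁ : Spec (𝒮.presheaf.obj (op U₁))) (w₂ : Spec (𝒮.presheaf.obj (op U₂)))
    (heq : (𝒮.toQCAlg.ι U₁ hU₁).base w₁ = (𝒮.toQCAlg.ι U₂ hU₂).base w₂) :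
    (HomogeneousIdeal.irrelevant (𝒮.deg U₁ hU₁)).toIdeal ≤ w₁.asIdeal ↔
      (HomogeneousIdeal.irrelevant (𝒮.deg U₂ hU₂)).toIdeal ≤ w₂.asIdeal := by
  set c := (𝒮.toQCAlg.ι U₁ hU₁).base w₁ with hc
  have hy₁ : 𝒮.toQCAlg.π.base c ∈ U₁ := by
    have : c ∈ 𝒮.toQCAlg.π ⁻¹ᵁ U₁ := by
      rw [𝒮.toQCAlg.π_preimage U₁ hU₁]; exact ⟨w₁, rfl⟩
    exact this
  have hy₂ : 𝒮.toQCAlg.π.base c ∈ U₂ := by
    have : c ∈ 𝒮.toQCAlg.π ⁻¹ᵁ U₂ := by
      rw [𝒮.toQCAlg.π_preimage U₂ hU₂]; exact ⟨w₂, heq.symm⟩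
    exact this
  obtain ⟨f, g, hfg, hy⟩ := exists_basicOpen_le_affine_inter hU₁ hU₂ (𝒮.toQCAlg.π.base c) ⟨hy₁, hy₂⟩
  let V : Y.AffineZariskiSite := ⟨Y.basicOpen f, hU₁.basicOpen f⟩
  have hV₁ : V ≤ (⟨U₁, hU₁⟩ : Y.AffineZariskiSite) := ⟨f, rfl⟩
  have hV₂ : V ≤ (⟨U₂, hU₂⟩ : Y.AffineZariskiSite) := ⟨g, hfg.symm⟩
  have hcV : c ∈ (𝒮.toQCAlg.ι V.1 V.2).opensRange := by
    rw [← 𝒮.toQCAlg.π_preimage V.1 V.2]; exact hy
  obtain ⟨wV, hwV⟩ := hcV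
  have e₁ : w₁ = (Spec.map (𝒮.presheaf.map
      (homOfLE (Scheme.AffineZariskiSite.toOpens_mono hV₁)).op)).base wV := by
    apply (𝒮.toQCAlg.ι U₁ hU₁).isOpenEmbedding.injective
    have := congrArg (fun k => k.base wV) (𝒮.toQCAlg.ι_res (U := ⟨U₁, hU₁⟩) (V := V) (homOfLE hV₁))
    simp only [Scheme.Hom.comp_base, TopCat.hom_comp, ContinuousMap.comp_apply] at this
    rw [this]
    exact hwV.symm
  have e₂ : w₂ = (Spec.map (𝒮.presheaf.map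
      (homOfLE (Scheme.AffineZariskiSite.toOpens_mono hV₂)).op)).base wV := by
    apply (𝒮.toQCAlg.ι U₂ hU₂).isOpenEmbedding.injective
    have := congrArg (fun k => k.base wV) (𝒮.toQCAlg.ι_res (U := ⟨U₂, hU₂⟩) (V := V) (homOfLE hV₂))
    simp only [Scheme.Hom.comp_base, TopCat.hom_comp, ContinuousMap.comp_apply] at this
    rw [this]
    exact (hwV.trans heq).symm
  rw [e₁, e₂]
  exact (irrelevant_le_iff_of_le 𝒮 hV₁ wV).trans (irrelevant_le_iff_of_le 𝒮 hV₂ wV).symm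

theorem mem_pointedCone_iff (U : Y.Opens) (hU : IsAffineOpen U) (w : Spec (𝒮.presheaf.obj (op U))) :
    (𝒮.toQCAlg.ι U hU).base w ∈ RelCone.pointedCone 𝒮 ↔
      ¬ (HomogeneousIdeal.irrelevant (𝒮.deg U hU)).toIdeal ≤ w.asIdeal := by
  constructor
  · intro hc
    unfold RelCone.pointedCone at hc
    rw [Opens.mem_iSup] at hc
    obtain ⟨⟨U₂, hU₂⟩, w₂, hw₂, heq⟩ := hc
    rw [irrelevant_le_iff_of_eq 𝒮 U hU U₂ hU₂ w w₂ heq.symm]
    intro hle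
    exact hw₂ ((PrimeSpectrum.mem_zeroLocus _ _).mpr hle)
  · intro h
    unfold RelCone.pointedCone
    rw [Opens.mem_iSup]
    refine ⟨⟨U, hU⟩, w, ?_, rfl⟩
    intro hmem
    exact h ((PrimeSpectrum.mem_zeroLocus _ _).mp hmem)

theorem exists_chart (c : 𝒮.toQCAlg.spec) :
    ∃ (U : Y.Opens) (hU : IsAffineOpen U) (w : Spec (𝒮.presheaf.obj (op U))),
      (𝒮.toQCAlg.ι U hU).base w = c := by
  obtain ⟨U, hU, hyU⟩ : ∃ U : Y.Opens, IsAffineOpen U ∧ 𝒮.toQCAlg.π.base c ∈ U := by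
    obtain ⟨U, hxU⟩ := Opens.mem_iSup.mp
      ((iSup_affineOpens_eq_top Y).symm ▸ (Opens.mem_top (𝒮.toQCAlg.π.base c)) :
        𝒮.toQCAlg.π.base c ∈ ⨆ i : Y.affineOpens, (i : Y.Opens))
    exact ⟨U.1, U.2, hxU⟩
  have : c ∈ 𝒮.toQCAlg.π ⁻¹ᵁ U := hyU
  rw [𝒮.toQCAlg.π_preimage U hU] at this
  obtain ⟨w, hw⟩ := this
  exact ⟨U, hU, w, hw⟩

end Groth.Agent.Lib.helper27.PointedCone
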