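import Mathlib

set_option autoImplicit false
set_option linter.unusedSectionVars false
universe u

namespace Groth.Agent.Lib.helper27.ProjBC
open TensorProduct HomogeneousLocalization

variable {R R' A B : Type u} [CommRing R'] [CommRing R] [Algebra R' R]
    [CommRing B] [Algebra R' B] (ℬ : ℕ → Submodule R' B) [GradedAlgebra ℬ]
    [CommRing A] [Algebra R A] [Algebra R' A] [IsScalarTower R' R A] (𝒜 : ℕ → Submodule R A)
    [GradedAlgebra 𝒜]
    [Algebra B A] [IsScalarTower R' B A] [Algebra.IsPushout R' R B A]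

/-- projection to the `k`-th graded piece. -/
noncomputable def pk (k : ℕ) : B →ₗ[R'] ℬ k :=
  (DirectSum.component R' ℕ (fun i => ℬ i) k).comp (DirectSum.decomposeLinearEquiv ℬ).toLinearMap

theorem pk_coe (k : ℕ) (b : ℬ k) : pk ℬ k (b : B) = b := by
  change (DirectSum.decompose ℬ (b : B)) k = b
  rw [DirectSum.decompose_coe, DirectSum.of_eq_same]

theorem pk_val (k : ℕ) (b : B) : ((pk ℬ k b : ℬ k) : B) = GradedRing.proj ℬ k b := rfl

/-- the comparison map `R ⊗ ℬ_k → A`. -/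
noncomputable def θ (k : ℕ) : R ⊗[R'] ℬ k →ₗ[R'] A :=
  ((Algebra.IsPushout.equiv R' R B A).toLinearEquiv.restrictScalars R').toLinearMap.comp
    (LinearMap.lTensor R (ℬ k).subtype)

omit [GradedAlgebra ℬ] in
theorem θ_tmul (k : ℕ) (r : R) (b : ℬ k) :
    θ (A := A) ℬ k (r ⊗ₜ b) = algebraMap R A r * algebraMap B A (b : B) := by
  unfold θ
  simp only [LinearMap.coe_comp, Function.comp_apply, LinearMap.lTensor_tmul, Submodule.subtype_apply]
  exact Algebra.IsPushout.equiv_tmul R' R B A r (b : B)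

theorem θ_injective (k : ℕ) : Function.Injective (θ (R := R) (A := A) ℬ k) := by
  unfold θ
  have h1 : Function.Injective (LinearMap.lTensor R (ℬ k).subtype) := by
    have : (LinearMap.lTensor R (pk ℬ k)).comp (LinearMap.lTensor R (ℬ k).subtype) = LinearMap.id := by
      rw [← LinearMap.lTensor_comp]
      have : (pk ℬ k).comp (ℬ k).subtype = LinearMap.id := by
        ext b; exact congrArg Subtype.val (pk_coe ℬ k b)
      rw [this, LinearMap.lTensor_id]
    intro x y hxy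
    have e := congrArg (LinearMap.lTensor R (pk ℬ k)) hxy
    have hx : LinearMap.lTensor R (pk ℬ k) (LinearMap.lTensor R (ℬ k).subtype x) = x :=
      LinearMap.congr_fun this x
    have hy : LinearMap.lTensor R (pk ℬ k) (LinearMap.lTensor R (ℬ k).subtype y) = y :=
      LinearMap.congr_fun this y
    rw [hx, hy] at e
    exact e
  intro x y hxy
  apply h1
  exact ((Algebra.IsPushout.equiv R' R B A).toLinearEquiv.restrictScalars R').injective hxy

variable (φ : ℬ →+*ᵍ 𝒜) (hφA : ∀ b : B, φ b = algebraMap B A b)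

include hφA in
theorem θ_mem (k : ℕ) (y : R ⊗[R'] ℬ k) : θ (A := A) ℬ k y ∈ 𝒜 k := by
  induction y using TensorProduct.induction_on with
  | zero => rw [map_zero]; exact zero_mem _
  | tmul r b =>
    rw [θ_tmul, ← hφA, ← Algebra.smul_def]
    exact Submodule.smul_mem _ _ (GradedFunLike.map_mem φ b.2)
  | add x y hx hy => rw [map_add]; exact add_mem hx hy

include hφA in
theorem θ_proj (k : ℕ) (z : R ⊗[R'] B) :
    θ (A := A) ℬ k (LinearMap.lTensor R (pk ℬ k) z) =
      GradedRing.proj 𝒜 k (Algebra.IsPushout.equiv R' R B A z) := by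
  induction z using TensorProduct.induction_on with
  | zero => simp
  | tmul r b =>
    rw [LinearMap.lTensor_tmul, θ_tmul, Algebra.IsPushout.equiv_tmul, pk_val, ← hφA, ← hφA,
      ← Algebra.smul_def, ← Algebra.smul_def]
    change r • φ (DirectSum.decompose ℬ b k) = (DirectSum.decompose 𝒜 (r • φ b) k : A)
    rw [GradedRingHom.map_directSumDecompose, DirectSum.decompose_smul]
    rfl
  | add x y hx hy => rw [map_add, map_add, map_add, map_add, hx, hy]

include hφA in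
theorem θ_surj (k : ℕ) (a : A) (ha : a ∈ 𝒜 k) : ∃ y : R ⊗[R'] ℬ k, θ (A := A) ℬ k y = a := by
  refine ⟨LinearMap.lTensor R (pk ℬ k) ((Algebra.IsPushout.equiv R' R B A).symm a), ?_⟩
  rw [θ_proj ℬ 𝒜 φ hφA, AlgEquiv.apply_symm_apply]
  change (DirectSum.decompose 𝒜 a k : A) = a
  rw [DirectSum.decompose_of_mem_same 𝒜 ha]

section away
variable {d : ℕ} (f : B) (hf : f ∈ ℬ d)

theorem awayB_mk_congr (n : ℕ) (b b' : B) (hb : b ∈ ℬ (n • d)) (hb' : b' ∈ ℬ (n • d)) (e : b = b') :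
    Away.mk ℬ hf n b hb = Away.mk ℬ hf n b' hb' := by subst e; rfl

theorem awayB_mk_add (n : ℕ) (b b' : B) (hb : b ∈ ℬ (n • d)) (hb' : b' ∈ ℬ (n • d)) :
    Away.mk ℬ hf n (b + b') (add_mem hb hb') = Away.mk ℬ hf n b hb + Away.mk ℬ hf n b' hb' := by
  apply HomogeneousLocalization.val_injective
  rw [HomogeneousLocalization.val_add, Away.val_mk, Away.val_mk, Away.val_mk, Localization.add_mk_self]

theorem awayB_mk_shift (n m : ℕ) (b : B) (hb : b ∈ ℬ (n • d)) :
    Away.mk ℬ hf (n + m) (f ^ m * b)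
      (by rw [add_smul, add_comm]; exact SetLike.mul_mem_graded (SetLike.pow_mem_graded m hf) hb) =
      Away.mk ℬ hf n b hb := by
  apply HomogeneousLocalization.val_injective
  rw [Away.val_mk, Away.val_mk, Localization.mk_eq_mk_iff, Localization.r_iff_exists]
  refine ⟨1, ?_⟩
  simp only [OneMemClass.coe_one, one_mul]
  ring

theorem awayB_mk_eq_zero (n : ℕ) (b : B) (hb : b ∈ ℬ (n • d)) (h : Away.mk ℬ hf n b hb = 0) :
    ∃ m : ℕ, f ^ m * b = 0 := by
  have h1 := congrArg HomogeneousLocalization.val h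
  rw [Away.val_mk, HomogeneousLocalization.val_zero, Localization.mk_eq_mk',
    IsLocalization.mk'_eq_zero_iff] at h1
  obtain ⟨⟨_, m, rfl⟩, hm⟩ := h1
  exact ⟨m, hm⟩

/-- the structure map `R' → B_(f)`. -/
noncomputable def βhom : R' →+* Away ℬ f :=
  (fromZeroRingHom ℬ (Submonoid.powers f)).comp (algebraMap R' (ℬ 0))

theorem βhom_val (r : R') :
    (βhom ℬ f r).val = Localization.mk (algebraMap R' B r) (1 : Submonoid.powers f) := by
  rfl

theorem βhom_mul_mk (r : R') (n : ℕ) (b : B) (hb : b ∈ ℬ (n • d)) :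
    βhom ℬ f r * Away.mk ℬ hf n b hb =
      Away.mk ℬ hf n (r • b) (Submodule.smul_mem _ _ hb) := by
  apply HomogeneousLocalization.val_injective
  rw [HomogeneousLocalization.val_mul, Away.val_mk, Away.val_mk, βhom_val, Localization.mk_mul,
    one_mul, Algebra.smul_def]

theorem βhom_eq_mk (r : R') :
    βhom ℬ f r = Away.mk ℬ hf 0 (algebraMap R' B r)
      (by rw [zero_smul]; exact (algebraMap R' (ℬ 0) r).2) := by
  apply HomogeneousLocalization.val_injective
  rw [βhom_val, Away.val_mk]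
  congr 1
  exact Subtype.ext (pow_zero f).symm

end away

section main
variable {d : ℕ} (f : B) (hf : f ∈ ℬ d)

/-- `B_(f)` as an `R'`-algebra. -/
@[reducible] noncomputable def algB : Algebra R' (Away ℬ f) := (βhom ℬ f).toAlgebra
/-- `A_(φ f)` as an `R'`-algebra. -/
@[reducible] noncomputable def algS : Algebra R' (Away 𝒜 (φ f)) :=
  ((βhom 𝒜 (φ f)).comp (algebraMap R' R)).toAlgebra

attribute [local instance] algB algS

include hφA hf in
theorem map_βhom (r : R') :
    Away.map φ f (βhom ℬ f r) = βhom 𝒜 (φ f) (algebraMap R' R r) := by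
  rw [βhom_eq_mk ℬ f hf, βhom_eq_mk 𝒜 (φ f) (GradedFunLike.map_mem φ hf), Away.map_mk]
  apply awayB_mk_congr
  rw [hφA, ← IsScalarTower.algebraMap_apply, ← IsScalarTower.algebraMap_apply]

/-- `R → A_(φ f)` as an algebra hom. -/
noncomputable def fA : R →ₐ[R'] Away 𝒜 (φ f) :=
  { toRingHom := βhom 𝒜 (φ f), commutes' := fun _ => rfl }

/-- `B_(f) → A_(φ f)` as an algebra hom. -/
noncomputable def gA : Away ℬ f →ₐ[R'] Away 𝒜 (φ f) :=
  { toRingHom := Away.map φ f, commutes' := fun r => map_βhom ℬ 𝒜 φ hφA f hf r }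

/-- the comparison map. -/
noncomputable def Ψ : R ⊗[R'] Away ℬ f →ₐ[R'] Away 𝒜 (φ f) :=
  Algebra.TensorProduct.productMap (fA ℬ 𝒜 φ f) (gA ℬ 𝒜 φ hφA f hf)

theorem Ψ_tmul (r : R) (t : Away ℬ f) :
    Ψ ℬ 𝒜 φ hφA f hf (r ⊗ₜ t) = βhom 𝒜 (φ f) r * Away.map φ f t := rfl

/-- `b ↦ b / f^n`. -/
noncomputable def lamL (n : ℕ) : ℬ (n • d) →ₗ[R'] Away ℬ f where
  toFun b := Away.mk ℬ hf n b b.2
  map_add' b b' := awayB_mk_add ℬ f hf n b b' b.2 b'.2
  map_smul' r b := by
    change Away.mk ℬ hf n (r • (b : B)) _ = βhom ℬ f r * Away.mk ℬ hf n b b.2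
    rw [βhom_mul_mk]

theorem awayB_mk_zero (n : ℕ) : Away.mk ℬ hf n 0 (zero_mem _) = 0 := by
  apply HomogeneousLocalization.val_injective
  rw [Away.val_mk, HomogeneousLocalization.val_zero, Localization.mk_zero]

include hφA in
theorem Ψ_lam (n : ℕ) (y : R ⊗[R'] ℬ (n • d)) :
    Ψ ℬ 𝒜 φ hφA f hf (LinearMap.lTensor R (lamL ℬ f hf n) y) =
      Away.mk 𝒜 (GradedFunLike.map_mem φ hf) n (θ (A := A) ℬ (n • d) y)
        (θ_mem ℬ 𝒜 φ hφA (n • d) y) := by
  induction y using TensorProduct.induction_on with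
  | zero =>
    rw [map_zero, map_zero]
    rw [← awayB_mk_zero 𝒜 (φ f) (GradedFunLike.map_mem φ hf) n]
    apply awayB_mk_congr
    rw [map_zero]
  | tmul r b =>
    rw [LinearMap.lTensor_tmul, Ψ_tmul]
    change βhom 𝒜 (φ f) r * Away.map φ f (Away.mk ℬ hf n b b.2) = _
    rw [Away.map_mk, βhom_mul_mk 𝒜 (φ f) (GradedFunLike.map_mem φ hf)]
    apply awayB_mk_congr
    rw [θ_tmul, Algebra.smul_def, hφA]
  | add x y hx hy =>
    rw [map_add, map_add, hx, hy, ← awayB_mk_add]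
    apply awayB_mk_congr
    rw [map_add]

/-- multiplication by `f^m`. -/
noncomputable def shiftL (n N m : ℕ) (h : N = n + m) : ℬ (n • d) →ₗ[R'] ℬ (N • d) where
  toFun b := ⟨f ^ m * b, by
    subst h
    rw [add_smul, add_comm]
    exact SetLike.mul_mem_graded (SetLike.pow_mem_graded m hf) b.2⟩
  map_add' b b' := Subtype.ext (mul_add _ _ _)
  map_smul' r b := Subtype.ext (mul_smul_comm _ _ _)

theorem lam_shift (n N m : ℕ) (h : N = n + m) (y : R ⊗[R'] ℬ (n • d)) :
    LinearMap.lTensor R (lamL ℬ f hf N) (LinearMap.lTensor R (shiftL ℬ f hf n N m h) y) =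
      LinearMap.lTensor R (lamL ℬ f hf n) y := by
  have e : (lamL ℬ f hf N).comp (shiftL ℬ f hf n N m h) = lamL ℬ f hf n :=
    LinearMap.ext fun b => by
      subst h
      exact awayB_mk_shift ℬ f hf n m b b.2
  rw [← LinearMap.comp_apply, ← LinearMap.lTensor_comp, e]

theorem θ_shift (n N m : ℕ) (h : N = n + m) (y : R ⊗[R'] ℬ (n • d)) :
    θ (A := A) ℬ (N • d) (LinearMap.lTensor R (shiftL ℬ f hf n N m h) y) =
      (algebraMap B A f) ^ m * θ (A := A) ℬ (n • d) y := by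
  induction y using TensorProduct.induction_on with
  | zero => simp
  | tmul r b =>
    rw [LinearMap.lTensor_tmul, θ_tmul, θ_tmul]
    change algebraMap R A r * algebraMap B A (f ^ m * (b : B)) = _
    rw [map_mul, map_pow]
    ring
  | add x y hx hy => rw [map_add, map_add, map_add, hx, hy, mul_add]

theorem repr (x : R ⊗[R'] Away ℬ f) :
    ∃ (n : ℕ) (y : R ⊗[R'] ℬ (n • d)), x = LinearMap.lTensor R (lamL ℬ f hf n) y := by
  induction x using TensorProduct.induction_on with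
  | zero => exact ⟨0, 0, (map_zero _).symm⟩
  | tmul r t =>
    obtain ⟨n, b, hb, rfl⟩ := Away.mk_surjective ℬ hf t
    exact ⟨n, r ⊗ₜ ⟨b, hb⟩, rfl⟩
  | add x₁ x₂ h₁ h₂ =>
    obtain ⟨n₁, y₁, rfl⟩ := h₁
    obtain ⟨n₂, y₂, rfl⟩ := h₂
    refine ⟨n₁ + n₂, LinearMap.lTensor R (shiftL ℬ f hf n₁ (n₁ + n₂) n₂ rfl) y₁ +
      LinearMap.lTensor R (shiftL ℬ f hf n₂ (n₁ + n₂) n₁ (add_comm _ _)) y₂, ?_⟩
    rw [map_add, lam_shift, lam_shift]

include hφA in
theorem Ψ_bijective : Function.Bijective (Ψ ℬ 𝒜 φ hφA f hf) := by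
  constructor
  · rw [injective_iff_map_eq_zero]
    intro x hx
    obtain ⟨n, y, rfl⟩ := repr ℬ f hf x
    rw [Ψ_lam] at hx
    obtain ⟨m, hm⟩ := awayB_mk_eq_zero 𝒜 (φ f) (GradedFunLike.map_mem φ hf) n _ _ hx
    have h0 : θ (A := A) ℬ ((n + m) • d) (LinearMap.lTensor R (shiftL ℬ f hf n (n + m) m rfl) y) =
        θ (A := A) ℬ ((n + m) • d) (0 : R ⊗[R'] ℬ ((n + m) • d)) := by
      rw [θ_shift, ← hφA, hm, map_zero]
    have h1 := θ_injective (R := R) (A := A) ℬ ((n + m) • d) h0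
    rw [← lam_shift ℬ f hf n (n + m) m rfl, h1, map_zero]
  · intro t
    obtain ⟨n, a, ha, rfl⟩ := Away.mk_surjective 𝒜 (GradedFunLike.map_mem φ hf) t
    obtain ⟨y, hy⟩ := θ_surj ℬ 𝒜 φ hφA (n • d) a ha
    refine ⟨LinearMap.lTensor R (lamL ℬ f hf n) y, ?_⟩
    rw [Ψ_lam]
    exact awayB_mk_congr 𝒜 (φ f) _ n _ _ _ _ hy

open CategoryTheory in
include hφA hf in
theorem isPushout_away :
    IsPushout (CommRingCat.ofHom (algebraMap R' R)) (CommRingCat.ofHom (βhom ℬ f))
      (CommRingCat.ofHom (βhom 𝒜 (φ f))) (CommRingCat.ofHom (Away.map φ f)) := by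
  let e : R ⊗[R'] Away ℬ f ≃+* Away 𝒜 (φ f) :=
    RingEquiv.ofBijective (Ψ ℬ 𝒜 φ hφA f hf) (Ψ_bijective ℬ 𝒜 φ hφA f hf)
  refine (CommRingCat.isPushout_tensorProduct R' R (Away ℬ f)).of_iso (Iso.refl _) (Iso.refl _)
    (Iso.refl _) e.toCommRingCatIso ?_ ?_ ?_ ?_
  · simp
  · simp only [Iso.refl_hom, Category.comp_id, Category.id_comp]
  · simp only [Iso.refl_hom, Category.id_comp]
    refine CommRingCat.hom_ext (RingHom.ext fun r => ?_)
    change Ψ ℬ 𝒜 φ hφA f hf (r ⊗ₜ 1) = βhom 𝒜 (φ f) r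
    rw [Ψ_tmul, map_one, mul_one]
  · simp only [Iso.refl_hom, Category.id_comp]
    refine CommRingCat.hom_ext (RingHom.ext fun t => ?_)
    change Ψ ℬ 𝒜 φ hφA f hf (1 ⊗ₜ t) = Away.map φ f t
    rw [Ψ_tmul, map_one, one_mul]

end main

end Groth.Agent.Lib.helper27.ProjBC
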