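import Mathlib
import Groth.Prelude.Def_RelSpec2
import Groth.Agent.Lib.helper27.PolyGr
import Groth.Agent.Lib.helper27.ProjQMap
import Groth.Agent.Lib.helper27.ProjCone
import Groth.Agent.Lib.helper27.ProjCone2

set_option autoImplicit false
universe u

namespace Groth.Agent.Lib.helper27.ProjCone
open CategoryTheory CategoryTheory.Limits AlgebraicGeometry Opposite TopologicalSpace
open scoped HomogeneousIdeal

/-- injectivity on sections can be checked on a commutative square of charts. -/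
theorem app_injective_of_sq {X Z A' B' : Scheme.{u}} (f : X ⟶ Z) (κ : A' ⟶ Z) [IsOpenImmersion κ]
    (lam : B' ⟶ X) (g : B' ⟶ A') (e : lam ≫ f = g ≫ κ) (W : Z.Opens) (hW : W ≤ κ.opensRange)
    (hg : Function.Injective (g.app (κ ⁻¹ᵁ W)).hom) : Function.Injective (f.app W).hom := by
  rw [injective_iff_map_eq_zero]
  intro s hs
  have h1 : ((lam ≫ f).app W).hom s = 0 := by
    change (lam.app (f ⁻¹ᵁ W)).hom ((f.app W).hom s) = 0
    rw [hs, map_zero]
  rw [Scheme.Hom.congr_app e W, CommRingCat.comp_apply] at h1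
  have h3 : ((g ≫ κ).app W).hom s = 0 := by
    apply (ConcreteCategory.bijective_of_isIso (B'.presheaf.map (eqToHom _).op)).1
    rw [map_zero]
    exact h1
  change (g.app (κ ⁻¹ᵁ W)).hom ((κ.app W).hom s) = 0 at h3
  have h4 : (κ.app W).hom s = 0 := hg (by rw [h3, map_zero])
  have : IsIso (κ.app W) := κ.isIso_app W hW
  apply (ConcreteCategory.bijective_of_isIso (κ.app W)).1
  rw [map_zero]
  exact h4

theorem specMap_app_injective {R S : CommRingCat.{u}} (φ : R ⟶ S) (hφ : Function.Injective φ.hom)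
    (V : (Spec R).Opens) (hV : V = ⊤) : Function.Injective ((Spec.map φ).app V).hom := by
  subst hV
  have h := Scheme.ΓSpecIso_naturality φ
  have h2 : (Spec.map φ).appTop = (Scheme.ΓSpecIso R).hom ≫ φ ≫ (Scheme.ΓSpecIso S).inv := by
    rw [← Category.assoc, ← h, Category.assoc, Iso.hom_inv_id, Category.comp_id]
  change Function.Injective ((Spec.map φ).appTop).hom
  rw [h2]
  simp only [CommRingCat.hom_comp, RingHom.coe_comp]
  exact ((ConcreteCategory.bijective_of_isIso (Scheme.ΓSpecIso S).inv).1.comp hφ).comp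
    (ConcreteCategory.bijective_of_isIso (Scheme.ΓSpecIso R).hom).1

section congr
variable {A σ : Type u} [CommRing A] [SetLike σ A] [AddSubgroupClass σ A] {𝒜 : ℕ → σ} [GradedRing 𝒜]

theorem awayι_congr' {m m' : ℕ} (h : m = m') {x : A} (hx : x ∈ 𝒜 m) (hm : 0 < m) (hx' : x ∈ 𝒜 m')
    (hm' : 0 < m') : Proj.awayι 𝒜 x hx hm = Proj.awayι 𝒜 x hx' hm' := by
  subst h; rfl

end congr

section ker
variable {Y PC : Scheme.{u}} {𝒮 𝒮h : RelProj.QCGrAlg Y}
    {ι : 𝒮.toQCAlg ⟶ 𝒮h.toQCAlg} {z : 𝒮h.presheaf.obj (op ⊤)} (hz : RelCone.IsPolyOver 𝒮 𝒮h ι z)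
    (U : Y.Opens) (hU : IsAffineOpen U) (f : 𝒮.presheaf.obj (op U))

/-- `𝒮h(U) → 𝒮(U)_f`, "set `z = 1`" then localize. -/
noncomputable def G : 𝒮h.presheaf.obj (op U) →+* Localization.Away f :=
  (algebraMap (𝒮.presheaf.obj (op U)) (Localization.Away f)).comp (hz.evalOne U hU)

/-- the induced map on homogeneous localizations. -/
noncomputable def Psi (s : 𝒮h.presheaf.obj (op U)) (hs : IsUnit (G hz U hU f s)) :
    HomogeneousLocalization.Away (𝒮h.deg U hU) s →+* Localization.Away f :=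
  (IsLocalization.Away.lift s (g := G hz U hU f) hs).comp
    (algebraMap (HomogeneousLocalization.Away (𝒮h.deg U hU) s) (Localization.Away s))

theorem Psi_awayMap {n : ℕ} (s t x : 𝒮h.presheaf.obj (op U)) (ht : t ∈ 𝒮h.deg U hU n) (hx : x = s * t)
    (hs : IsUnit (G hz U hU f s)) (hxu : IsUnit (G hz U hU f x)) :
    (Psi hz U hU f x hxu).comp (HomogeneousLocalization.awayMap (𝒮h.deg U hU) ht hx) =
      Psi hz U hU f s hs := by
  ext a
  simp only [Psi, RingHom.comp_apply, HomogeneousLocalization.algebraMap_apply,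
    HomogeneousLocalization.val_awayMap]
  have key : (IsLocalization.Away.lift x (g := G hz U hU f) hxu).comp
      (Localization.awayLift (algebraMap _ (Localization.Away x)) s
        (isUnit_of_dvd_unit (map_dvd _ ⟨_, hx⟩) (IsLocalization.Away.algebraMap_isUnit x))) =
      IsLocalization.Away.lift s (g := G hz U hU f) hs := by
    apply IsLocalization.ringHom_ext (Submonoid.powers s)
    ext b
    simp only [RingHom.comp_apply, Localization.awayLift, IsLocalization.Away.lift_eq]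
  exact congrArg (fun φ => φ a.val) key

theorem G_z : G hz U hU f (RelCone.restrictTop 𝒮h z U) = 1 := by
  rw [G, RingHom.comp_apply, hz.evalOne_z, map_one]

theorem G_ι (a : 𝒮.presheaf.obj (op U)) :
    G hz U hU f ((ι.hom.app (op U)).hom a) = algebraMap _ (Localization.Away f) a := by
  rw [G, RingHom.comp_apply, hz.evalOne_ι]

theorem isUnit_G_z : IsUnit (G hz U hU f (RelCone.restrictTop 𝒮h z U)) := by
  rw [G_z]; exact isUnit_one

theorem isUnit_G_ιf : IsUnit (G hz U hU f ((ι.hom.app (op U)).hom f)) := by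
  rw [G_ι]; exact IsLocalization.Away.algebraMap_isUnit f

theorem Psi_z :
    Psi hz U hU f (RelCone.restrictTop 𝒮h z U) (isUnit_G_z hz U hU f) =
      (algebraMap (𝒮.presheaf.obj (op U)) (Localization.Away f)).comp (hz.awayZToBase U hU) := by
  unfold Psi RelCone.IsPolyOver.awayZToBase
  rw [← RingHom.comp_assoc]
  congr 1
  apply IsLocalization.ringHom_ext (Submonoid.powers (RelCone.restrictTop 𝒮h z U))
  ext b
  simp only [RingHom.comp_apply, IsLocalization.Away.lift_eq, G]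

include hz in
theorem Psi_ιf_injective {d : ℕ} (hf : f ∈ 𝒮.deg U hU d) :
    Function.Injective (Psi hz U hU f ((ι.hom.app (op U)).hom f) (isUnit_G_ιf hz U hU f)) := by
  rw [injective_iff_map_eq_zero]
  intro t ht
  have hιf := hz.graded U hU d f hf
  obtain ⟨n, y, hy, rfl⟩ := t.mk_surjective _ hιf
  have hv : G hz U hU f ((ι.hom.app (op U)).hom f) * IsLocalization.Away.invSelf f = 1 := by
    rw [G_ι]; exact IsLocalization.Away.mul_invSelf f
  have h1 : Psi hz U hU f ((ι.hom.app (op U)).hom f) (isUnit_G_ιf hz U hU f)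
      (HomogeneousLocalization.Away.mk _ hιf n y hy) =
      G hz U hU f y * IsLocalization.Away.invSelf f ^ n := by
    simp only [Psi, RingHom.comp_apply, HomogeneousLocalization.algebraMap_apply,
      HomogeneousLocalization.Away.val_mk]
    exact Localization.awayLift_mk (G hz U hU f) _ y _ hv n
  rw [h1] at ht
  have hunit : IsUnit (IsLocalization.Away.invSelf f ^ n : Localization.Away f) := by
    apply IsUnit.pow
    exact IsUnit.of_mul_eq_one _ (by rw [mul_comm]; exact IsLocalization.Away.mul_invSelf f)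
  have h2 : G hz U hU f y = 0 := (hunit.mul_left_eq_zero).mp ht
  rw [G, RingHom.comp_apply, IsLocalization.map_eq_zero_iff (Submonoid.powers f)] at h2
  obtain ⟨⟨_, m, rfl⟩, hm⟩ := h2
  simp only at hm
  have h3 : hz.evalOne U hU (((ι.hom.app (op U)).hom f) ^ m * y) = 0 := by
    rw [map_mul, map_pow, hz.evalOne_ι, hm]
  have hmem : ((ι.hom.app (op U)).hom f) ^ m * y ∈ 𝒮h.deg U hU (m • d + n • d) :=
    SetLike.mul_mem_graded (SetLike.pow_mem_graded m hιf) hy
  have h4 : ((ι.hom.app (op U)).hom f) ^ m * y = 0 :=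
    PolyGr.eq_zero_of_mem_of_eval_one (𝒮.deg U hU) (𝒮h.deg U hU)
      (ι.hom.app (op U)).hom (RelCone.restrictTop 𝒮h z U) (hz.graded U hU) (hz.deg_z U hU)
      (hz.bij U hU) hmem ((hz.polyEquiv U hU).symm _) ((hz.polyEquiv U hU).apply_symm_apply _) h3
  apply HomogeneousLocalization.val_injective
  rw [HomogeneousLocalization.Away.val_mk, HomogeneousLocalization.val_zero,
    Localization.mk_eq_mk', IsLocalization.mk'_eq_zero_iff]
  exact ⟨⟨_, m, rfl⟩, h4⟩

end ker

section ker2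
variable {Y PC : Scheme.{u}} {𝒮 𝒮h : RelProj.QCGrAlg Y}
    {ι : 𝒮.toQCAlg ⟶ 𝒮h.toQCAlg} {z : 𝒮h.presheaf.obj (op ⊤)} (hz : RelCone.IsPolyOver 𝒮 𝒮h ι z)
    (pC : PC ⟶ Y)
    (chartC : ∀ (U : Y.Opens) (hU : IsAffineOpen U),
      (((pC ⁻¹ᵁ U : PC.Opens) : Scheme.{u}) ≅ Proj (𝒮h.deg U hU)))
    (hPC : RelProj.IsRelProj 𝒮h pC chartC)
    (i : 𝒮.toQCAlg.spec ⟶ PC) (hi : RelCone.IsConeImm 𝒮 hz pC chartC i)

include hi in
theorem sq_f (U : Y.Opens) (hU : IsAffineOpen U) {d : ℕ} (hd : 0 < d) (f : 𝒮.presheaf.obj (op U))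
    (hf : f ∈ 𝒮.deg U hU d) :
    (Spec.map (CommRingCat.ofHom (algebraMap (𝒮.presheaf.obj (op U)) (Localization.Away f))) ≫
        𝒮.toQCAlg.ι U hU) ≫ i =
      Spec.map (CommRingCat.ofHom (Psi hz U hU f ((ι.hom.app (op U)).hom f) (isUnit_G_ιf hz U hU f))) ≫
        (Proj.awayι (𝒮h.deg U hU) ((ι.hom.app (op U)).hom f) (hz.graded U hU d f hf) hd ≫
          RelProj.emb pC chartC U hU) := by
  have hιf := hz.graded U hU d f hf
  obtain ⟨x, hx⟩ : ∃ x, x = RelCone.restrictTop 𝒮h z U * (ι.hom.app (op U)).hom f := ⟨_, rfl⟩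
  have hx' : x = (ι.hom.app (op U)).hom f * RelCone.restrictTop 𝒮h z U := by rw [hx, mul_comm]
  have hxu : IsUnit (G hz U hU f x) := by
    rw [hx, map_mul]
    exact (isUnit_G_z hz U hU f).mul (isUnit_G_ιf hz U hU f)
  have e1 := Psi_awayMap hz U hU f _ _ x hιf hx (isUnit_G_z hz U hU f) hxu
  have e2 := Psi_awayMap hz U hU f _ _ x (hz.deg_z U hU) hx' (isUnit_G_ιf hz U hU f) hxu
  have hL : (Spec.map (CommRingCat.ofHom (algebraMap (𝒮.presheaf.obj (op U)) (Localization.Away f))) ≫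
        𝒮.toQCAlg.ι U hU) ≫ i =
      Spec.map (CommRingCat.ofHom (Psi hz U hU f x hxu)) ≫
        Proj.awayι (𝒮h.deg U hU) x (hx ▸ SetLike.mul_mem_graded (hz.deg_z U hU) hιf)
          (one_pos.trans_le (Nat.le_add_right 1 d)) ≫ RelProj.emb pC chartC U hU := by
    rw [Category.assoc, hi U hU, ← Spec.map_comp_assoc, ← CommRingCat.ofHom_comp, ← Psi_z, ← e1,
      CommRingCat.ofHom_comp, Spec.map_comp, Category.assoc,
      Proj.SpecMap_awayMap_awayι_assoc]
  have hR : Spec.map (CommRingCat.ofHom (Psi hz U hU f ((ι.hom.app (op U)).hom f)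
        (isUnit_G_ιf hz U hU f))) ≫
        (Proj.awayι (𝒮h.deg U hU) ((ι.hom.app (op U)).hom f) hιf hd ≫
          RelProj.emb pC chartC U hU) =
      Spec.map (CommRingCat.ofHom (Psi hz U hU f x hxu)) ≫
        Proj.awayι (𝒮h.deg U hU) x (hx' ▸ SetLike.mul_mem_graded hιf (hz.deg_z U hU))
          (hd.trans_le (Nat.le_add_right d 1)) ≫ RelProj.emb pC chartC U hU := by
    rw [← e2, CommRingCat.ofHom_comp, Spec.map_comp, Category.assoc,
      Proj.SpecMap_awayMap_awayι_assoc]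
  rw [hL, hR, awayι_congr' (Nat.add_comm 1 d)]

end ker2

section ker3
variable {Y PC : Scheme.{u}} {𝒮 𝒮h : RelProj.QCGrAlg Y}
    {ι : 𝒮.toQCAlg ⟶ 𝒮h.toQCAlg} {z : 𝒮h.presheaf.obj (op ⊤)} (hz : RelCone.IsPolyOver 𝒮 𝒮h ι z)
    (pC : PC ⟶ Y)
    (chartC : ∀ (U : Y.Opens) (hU : IsAffineOpen U),
      (((pC ⁻¹ᵁ U : PC.Opens) : Scheme.{u}) ≅ Proj (𝒮h.deg U hU)))
    (hPC : RelProj.IsRelProj 𝒮h pC chartC)
    (i : 𝒮.toQCAlg.spec ⟶ PC) (hi : RelCone.IsConeImm 𝒮 hz pC chartC i)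

/-- the `z`-chart of the projective cone. -/
noncomputable def kz (U : Y.Opens) (hU : IsAffineOpen U) :
    Spec (CommRingCat.of (HomogeneousLocalization.Away (𝒮h.deg U hU) (RelCone.restrictTop 𝒮h z U))) ⟶ PC :=
  Proj.awayι (𝒮h.deg U hU) (RelCone.restrictTop 𝒮h z U) (hz.deg_z U hU) one_pos ≫
    RelProj.emb pC chartC U hU

instance (U : Y.Opens) (hU : IsAffineOpen U) : IsOpenImmersion (kz hz pC chartC U hU) := by
  unfold kz RelProj.emb; infer_instance

/-- the `f`-chart of the projective cone. -/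
noncomputable def kf (U : Y.Opens) (hU : IsAffineOpen U) {d : ℕ} (hd : 0 < d)
    (f : 𝒮.presheaf.obj (op U)) (hf : f ∈ 𝒮.deg U hU d) :
    Spec (CommRingCat.of (HomogeneousLocalization.Away (𝒮h.deg U hU) ((ι.hom.app (op U)).hom f))) ⟶ PC :=
  Proj.awayι (𝒮h.deg U hU) ((ι.hom.app (op U)).hom f) (hz.graded U hU d f hf) hd ≫
    RelProj.emb pC chartC U hU

instance (U : Y.Opens) (hU : IsAffineOpen U) {d : ℕ} (hd : 0 < d)
    (f : 𝒮.presheaf.obj (op U)) (hf : f ∈ 𝒮.deg U hU d) :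
    IsOpenImmersion (kf hz pC chartC U hU hd f hf) := by
  unfold kf RelProj.emb; infer_instance

include hi in
theorem app_injective_kz (U : Y.Opens) (hU : IsAffineOpen U) :
    Function.Injective (i.app (kz hz pC chartC U hU).opensRange).hom := by
  refine app_injective_of_sq i (kz hz pC chartC U hU) (𝒮.toQCAlg.ι U hU)
    (Spec.map (CommRingCat.ofHom (hz.awayZToBase U hU))) (hi U hU) _ le_rfl ?_
  exact specMap_app_injective _ (awayZ_injective hz U hU) _
    (kz hz pC chartC U hU).preimage_opensRange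

include hi in
theorem app_injective_kf (U : Y.Opens) (hU : IsAffineOpen U) {d : ℕ} (hd : 0 < d)
    (f : 𝒮.presheaf.obj (op U)) (hf : f ∈ 𝒮.deg U hU d) :
    Function.Injective (i.app (kf hz pC chartC U hU hd f hf).opensRange).hom := by
  refine app_injective_of_sq i (kf hz pC chartC U hU hd f hf) _ _
    (sq_f hz pC chartC i hi U hU hd f hf) _ le_rfl ?_
  exact specMap_app_injective _ (Psi_ιf_injective hz U hU f hf) _
    (kf hz pC chartC U hU hd f hf).preimage_opensRange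

include hz in
theorem cover_k (x : PC) :
    (∃ (U : Y.Opens) (hU : IsAffineOpen U), x ∈ (kz hz pC chartC U hU).opensRange) ∨
      ∃ (U : Y.Opens) (hU : IsAffineOpen U) (d : ℕ) (hd : 0 < d) (f : 𝒮.presheaf.obj (op U))
        (hf : f ∈ 𝒮.deg U hU d), x ∈ (kf hz pC chartC U hU hd f hf).opensRange := by
  obtain ⟨⟨U, hU⟩, q, rfl⟩ := cover_emb pC chartC x
  by_cases hzq : RelCone.restrictTop 𝒮h z U ∈ q.asHomogeneousIdeal
  · right
    have hq : q ∈ RelCone.domOpen (RelProj.gradedHomAt ι hz.graded U hU) := by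
      by_contra h
      exact (z_not_mem_of_not_mem_domOpen hz U hU q h) hzq
    rw [RelCone.mem_domOpen] at hq
    obtain ⟨g, hg, hgq⟩ := hq
    have hnot : ¬ (HomogeneousIdeal.irrelevant (𝒮.deg U hU)).toIdeal ≤
        Ideal.comap (ι.hom.app (op U)).hom q.asHomogeneousIdeal.toIdeal := by
      intro h
      exact hgq (h hg)
    rw [HomogeneousIdeal.toIdeal_irrelevant_le] at hnot
    push Not at hnot
    obtain ⟨d, hd, hnle⟩ := hnot
    obtain ⟨f, hf, hfq⟩ := SetLike.not_le_iff_exists.mp hnle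
    have hmem : q ∈ Proj.basicOpen (𝒮h.deg U hU) ((ι.hom.app (op U)).hom f) := by
      rw [Proj.mem_basicOpen]; exact hfq
    rw [← Proj.opensRange_awayι _ _ (hz.graded U hU d f hf) hd] at hmem
    obtain ⟨q', rfl⟩ := hmem
    exact ⟨U, hU, d, hd, f, hf, q', rfl⟩
  · left
    have hmem : q ∈ Proj.basicOpen (𝒮h.deg U hU) (RelCone.restrictTop 𝒮h z U) := by
      rw [Proj.mem_basicOpen]; exact hzq
    rw [← Proj.opensRange_awayι _ _ (hz.deg_z U hU) one_pos] at hmem
    obtain ⟨q', rfl⟩ := hmem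
    exact ⟨U, hU, q', rfl⟩

include hi in
theorem ker_i : i.ker = ⊥ := by
  let J₁ := Y.affineOpens
  let J₂ := Σ (U : Y.affineOpens),
    {p : ℕ × 𝒮.presheaf.obj (op U.1) // 0 < p.1 ∧ p.2 ∈ 𝒮.deg U.1 U.2 p.1}
  let W : J₁ ⊕ J₂ → PC.affineOpens := Sum.elim
    (fun U => ⟨(kz hz pC chartC U.1 U.2).opensRange, isAffineOpen_opensRange _⟩)
    (fun k => ⟨(kf hz pC chartC k.1.1 k.1.2 k.2.2.1 k.2.1.2 k.2.2.2).opensRange,
      isAffineOpen_opensRange _⟩)
  refine Scheme.IdealSheafData.ext_of_iSup_eq_top W ?_ ?_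
  · rw [eq_top_iff]
    intro x _
    rw [Opens.mem_iSup]
    rcases cover_k hz pC chartC x with ⟨U, hU, hx⟩ | ⟨U, hU, d, hd, f, hf, hx⟩
    · exact ⟨Sum.inl ⟨U, hU⟩, hx⟩
    · exact ⟨Sum.inr ⟨⟨U, hU⟩, ⟨(d, f), hd, hf⟩⟩, hx⟩
  · rintro (U | k)
    · rw [Scheme.IdealSheafData.ideal_bot, Pi.bot_apply, eq_bot_iff]
      refine (i.ideal_ker_le _).trans ?_
      rw [le_bot_iff, ← RingHom.injective_iff_ker_eq_bot]
      exact app_injective_kz hz pC chartC i hi U.1 U.2
    · rw [Scheme.IdealSheafData.ideal_bot, Pi.bot_apply, eq_bot_iff]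
      refine (i.ideal_ker_le _).trans ?_
      rw [le_bot_iff, ← RingHom.injective_iff_ker_eq_bot]
      exact app_injective_kf hz pC chartC i hi k.1.1 k.1.2 k.2.2.1 k.2.1.2 k.2.2.2

end ker3

end Groth.Agent.Lib.helper27.ProjCone
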