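import Mathlib
import Groth.Prelude.Def_RelProj4
import Groth.Prelude.Def_RelSpec2
import Groth.Agent.Lib.helper27.ProjQMap
import Groth.Agent.Lib.helper27.ProjCone2
import Groth.Agent.Lib.helper27.DomQ

set_option autoImplicit false
universe u

namespace Groth.Agent.Lib.helper27.ProjQGlue
open CategoryTheory CategoryTheory.Limits AlgebraicGeometry Opposite TopologicalSpace
open scoped HomogeneousIdeal

section alg
variable {A : Type*} [CommRing A] {𝒜 : ℕ → AddSubgroup A} [GradedRing 𝒜]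

theorem mk_congr {f : A} {d : ℕ} (hf : f ∈ 𝒜 d) (k : ℕ) (y y' : A) (h : y = y') (hy : y ∈ 𝒜 (k • d))
    (hy' : y' ∈ 𝒜 (k • d)) :
    HomogeneousLocalization.Away.mk 𝒜 hf k y hy = HomogeneousLocalization.Away.mk 𝒜 hf k y' hy' := by
  subst h; rfl

end alg

variable {Y Y' P P' : Scheme.{u}} {g : Y' ⟶ Y} {𝒮 : RelProj.QCGrAlg Y} {𝒮' : RelProj.QCGrAlg Y'}
  (u : RelProj.QGrHom g 𝒮 𝒮')
  (p : P ⟶ Y) (chart : ∀ (U : Y.Opens) (hU : IsAffineOpen U), (((p ⁻¹ᵁ U : P.Opens) : Scheme.{u}) ≅ Proj (𝒮.deg U hU)))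
  (p' : P' ⟶ Y') (chart' : ∀ (U : Y'.Opens) (hU : IsAffineOpen U), (((p' ⁻¹ᵁ U : P'.Opens) : Scheme.{u}) ≅ Proj (𝒮'.deg U hU)))

variable (g 𝒮) in
/-- index of a standard chart of `G(u)`. -/
structure Idx where
  U : Y.Opens
  hU : IsAffineOpen U
  U' : Y'.Opens
  hU' : IsAffineOpen U'
  hle : U' ≤ g ⁻¹ᵁ U
  d : ℕ
  hd : 0 < d
  f : 𝒮.presheaf.obj (op U)
  hf : f ∈ 𝒮.deg U hU d

/-- the graded homomorphism of the chart. -/
noncomputable abbrev Idx.ψ (i : Idx g 𝒮) : 𝒮.deg i.U i.hU →+*ᵍ 𝒮'.deg i.U' i.hU' :=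
  u.gradedAt i.U i.hU i.U' i.hU' i.hle

/-- the ring of the chart. -/
noncomputable abbrev Idx.A (i : Idx g 𝒮) : CommRingCat.{u} :=
  CommRingCat.of (HomogeneousLocalization.Away (𝒮'.deg i.U' i.hU') (i.ψ u i.f))

/-- the chart into `P'`. -/
noncomputable def eC (i : Idx g 𝒮) : Spec (i.A u) ⟶ P' :=
  RelProj.awayEmb u p' chart' i.U i.hU i.U' i.hU' i.hle i.hd i.f i.hf

/-- the morphism on the chart. -/
noncomputable def cC (i : Idx g 𝒮) : Spec (i.A u) ⟶ P :=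
  Spec.map (CommRingCat.ofHom (HomogeneousLocalization.Away.map (i.ψ u) i.f)) ≫
    Proj.awayι (𝒮.deg i.U i.hU) i.f i.hf i.hd ≫ RelProj.emb p chart i.U i.hU

/-- `k` refines `i`. -/
def Ref (k i : Idx g 𝒮) : Prop :=
  ∃ ρ : Spec (k.A u) ⟶ Spec (i.A u), ρ ≫ eC u p' chart' i = eC u p' chart' k ∧ ρ ≫ cC u p chart i = cC u p chart k

variable {u p chart p' chart'}

theorem Ref.trans {k j i : Idx g 𝒮} (h1 : Ref u p chart p' chart' k j) (h2 : Ref u p chart p' chart' j i) :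
    Ref u p chart p' chart' k i := by
  obtain ⟨ρ1, h11, h12⟩ := h1
  obtain ⟨ρ2, h21, h22⟩ := h2
  exact ⟨ρ1 ≫ ρ2, by rw [Category.assoc, h21, h11], by rw [Category.assoc, h22, h12]⟩

variable (u p chart p' chart') in
/-- refinement by multiplying the element. -/
theorem ref_mul (i : Idx g 𝒮) {e' : ℕ} (h' : 𝒮.presheaf.obj (op i.U)) (hh' : h' ∈ 𝒮.deg i.U i.hU e')
    (x' : 𝒮.presheaf.obj (op i.U)) (hx : x' = i.f * h') (m : ℕ) (hm : m = i.d + e')
    (hx' : x' ∈ 𝒮.deg i.U i.hU m) (hmpos : 0 < m) :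
    Ref u p chart p' chart' ⟨i.U, i.hU, i.U', i.hU', i.hle, m, hmpos, x', hx'⟩ i := by
  subst hm
  subst hx
  have hψx : i.ψ u (i.f * h') = i.ψ u i.f * i.ψ u h' := map_mul _ _ _
  refine ⟨Spec.map (CommRingCat.ofHom (HomogeneousLocalization.awayMap (𝒮'.deg i.U' i.hU')
    ((i.ψ u).map_mem hh') hψx)), ?_, ?_⟩
  · unfold eC RelProj.awayEmb
    rw [Proj.SpecMap_awayMap_awayι_assoc]
  · unfold cC
    have h1 := Proj.SpecMap_awayMap_awayι (𝒮.deg i.U i.hU) i.hf i.hd hh' (rfl : i.f * h' = i.f * h')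
    rw [← Category.assoc (Spec.map _) (Proj.awayι _ (i.f * h') _ _), ← h1]
    simp only [Category.assoc]
    rw [← Spec.map_comp_assoc, ← Spec.map_comp_assoc]
    congr 2
    refine CommRingCat.hom_ext (RingHom.ext fun t => ?_)
    obtain ⟨n, a, ha, rfl⟩ := t.mk_surjective _ i.hf
    change HomogeneousLocalization.awayMap (𝒮'.deg i.U' i.hU') ((i.ψ u).map_mem hh') hψx
        (HomogeneousLocalization.Away.map (i.ψ u) i.f _) =
      HomogeneousLocalization.Away.map (i.ψ u) (i.f * h')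
        (HomogeneousLocalization.awayMap (𝒮.deg i.U i.hU) hh' rfl _)
    rw [HomogeneousLocalization.Away.map_mk, HomogeneousLocalization.awayMap_mk,
      HomogeneousLocalization.awayMap_mk, HomogeneousLocalization.Away.map_mk]
    refine mk_congr (𝒜 := 𝒮'.deg i.U' i.hU') _ n _ _ ?_ _ _
    rw [map_mul, map_pow]
    rfl

variable (u p chart p' chart') in
theorem ref_tgt_gen (hP' : RelProj.IsRelProj 𝒮' p' chart') (i : Idx g 𝒮) (ρ' : Γ(Y', i.U'))
    (t : 𝒮'.presheaf.obj (op (Y'.basicOpen ρ')))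
    (e : t = (𝒮'.res i.hU' (i.hU'.basicOpen ρ') (Y'.basicOpen_le ρ')) (i.ψ u i.f))
    (ht : t ∈ 𝒮'.deg (Y'.basicOpen ρ') (i.hU'.basicOpen ρ') i.d)
    (τ : HomogeneousLocalization.Away (𝒮.deg i.U i.hU) i.f →+*
      HomogeneousLocalization.Away (𝒮'.deg (Y'.basicOpen ρ') (i.hU'.basicOpen ρ')) t)
    (hτ : ∀ (n : ℕ) (a : 𝒮.presheaf.obj (op i.U)) (ha : a ∈ 𝒮.deg i.U i.hU (n • i.d)),
      τ (HomogeneousLocalization.Away.mk (𝒮.deg i.U i.hU) i.hf n a ha) =
        HomogeneousLocalization.Away.mk (𝒮'.deg (Y'.basicOpen ρ') (i.hU'.basicOpen ρ')) ht n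
          (u.gradedAt i.U i.hU (Y'.basicOpen ρ') (i.hU'.basicOpen ρ')
            ((Y'.basicOpen_le ρ').trans i.hle) a)
          ((u.gradedAt i.U i.hU (Y'.basicOpen ρ') (i.hU'.basicOpen ρ')
            ((Y'.basicOpen_le ρ').trans i.hle)).map_mem ha)) :
    ∃ ρ : Spec (CommRingCat.of (HomogeneousLocalization.Away
        (𝒮'.deg (Y'.basicOpen ρ') (i.hU'.basicOpen ρ')) t)) ⟶ Spec (i.A u),
      ρ ≫ eC u p' chart' i = Proj.awayι (𝒮'.deg (Y'.basicOpen ρ') (i.hU'.basicOpen ρ')) t ht i.hd ≫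
        RelProj.emb p' chart' (Y'.basicOpen ρ') (i.hU'.basicOpen ρ') ∧
      ρ ≫ Spec.map (CommRingCat.ofHom (HomogeneousLocalization.Away.map (i.ψ u) i.f)) =
        Spec.map (CommRingCat.ofHom τ) := by
  subst e
  refine ⟨Spec.map (CommRingCat.ofHom (HomogeneousLocalization.Away.map
    (𝒮'.res i.hU' (i.hU'.basicOpen ρ') (Y'.basicOpen_le ρ')) (i.ψ u i.f))), ?_, ?_⟩
  · unfold eC RelProj.awayEmb
    rw [← ProjCone.emb_res p' chart' hP' i.U' i.hU' ρ',
      ← Proj.awayι_comp_map_assoc (𝒮'.res i.hU' (i.hU'.basicOpen ρ') (Y'.basicOpen_le ρ'))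
        (𝒮'.irrelevant_le_map i.U' i.hU' ρ') i.hd (i.ψ u i.f) ((i.ψ u).map_mem i.hf)]
  · rw [← Spec.map_comp]
    congr 1
    refine CommRingCat.hom_ext (RingHom.ext fun x => ?_)
    obtain ⟨n, a, ha, rfl⟩ := x.mk_surjective _ i.hf
    rw [CommRingCat.hom_comp, CommRingCat.hom_ofHom, CommRingCat.hom_ofHom, CommRingCat.hom_ofHom,
      RingHom.comp_apply]
    rw [HomogeneousLocalization.Away.map_mk, HomogeneousLocalization.Away.map_mk, hτ]
    refine mk_congr (𝒜 := 𝒮'.deg (Y'.basicOpen ρ') (i.hU'.basicOpen ρ')) _ n _ _ ?_ _ _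
    exact congrArg (fun t => t.hom a) (u.toQHom.appLE_map i.hle (Y'.basicOpen_le ρ'))

variable (u p chart p' chart') in
theorem ref_tgt_basic (hP' : RelProj.IsRelProj 𝒮' p' chart') (i : Idx g 𝒮) (ρ' : Γ(Y', i.U')) :
    Ref u p chart p' chart' ⟨i.U, i.hU, Y'.basicOpen ρ', i.hU'.basicOpen ρ',
      (Y'.basicOpen_le ρ').trans i.hle, i.d, i.hd, i.f, i.hf⟩ i := by
  obtain ⟨ρ, h1, h2⟩ := ref_tgt_gen u p' chart' hP' i ρ'
    (u.gradedAt i.U i.hU (Y'.basicOpen ρ') (i.hU'.basicOpen ρ') ((Y'.basicOpen_le ρ').trans i.hle) i.f)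
    (congrArg (fun t => t.hom i.f) (u.toQHom.appLE_map i.hle (Y'.basicOpen_le ρ'))).symm
    ((u.gradedAt i.U i.hU (Y'.basicOpen ρ') (i.hU'.basicOpen ρ')
      ((Y'.basicOpen_le ρ').trans i.hle)).map_mem i.hf)
    (HomogeneousLocalization.Away.map (u.gradedAt i.U i.hU (Y'.basicOpen ρ') (i.hU'.basicOpen ρ')
      ((Y'.basicOpen_le ρ').trans i.hle)) i.f)
    (fun n a ha => HomogeneousLocalization.Away.map_mk _ _ _ _ _ _)
  refine ⟨ρ, h1, ?_⟩
  unfold cC
  rw [← Category.assoc, h2]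

variable (u p chart p' chart') in
theorem ref_tgt_site (hP' : RelProj.IsRelProj 𝒮' p' chart') (i : Idx g 𝒮)
    {D : Y'.AffineZariskiSite} (h : D ≤ (⟨i.U', i.hU'⟩ : Y'.AffineZariskiSite)) :
    Ref u p chart p' chart' ⟨i.U, i.hU, D.1, D.2,
      (Scheme.AffineZariskiSite.toOpens_mono h).trans i.hle, i.d, i.hd, i.f, i.hf⟩ i := by
  obtain ⟨D, hD⟩ := D
  obtain ⟨ρ', hρ'⟩ := h
  change Y'.basicOpen ρ' = D at hρ'
  subst hρ'
  exact ref_tgt_basic u p chart p' chart' hP' i ρ'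

variable (u p chart p' chart') in
theorem ref_src_gen (hP : RelProj.IsRelProj 𝒮 p chart) (i : Idx g 𝒮) (r : Γ(Y, i.U))
    (hle₂ : i.U' ≤ g ⁻¹ᵁ (Y.basicOpen r))
    (t : 𝒮'.presheaf.obj (op i.U')) (e : t = i.ψ u i.f) (ht : t ∈ 𝒮'.deg i.U' i.hU' i.d)
    (τ : HomogeneousLocalization.Away (𝒮.deg (Y.basicOpen r) (i.hU.basicOpen r))
        ((𝒮.res i.hU (i.hU.basicOpen r) (Y.basicOpen_le r)) i.f) →+*
      HomogeneousLocalization.Away (𝒮'.deg i.U' i.hU') t)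
    (hτ : ∀ (n : ℕ) (a : 𝒮.presheaf.obj (op (Y.basicOpen r)))
      (ha : a ∈ 𝒮.deg (Y.basicOpen r) (i.hU.basicOpen r) (n • i.d)),
      τ (HomogeneousLocalization.Away.mk (𝒮.deg (Y.basicOpen r) (i.hU.basicOpen r))
          (GradedFunLike.map_mem (𝒮.res i.hU (i.hU.basicOpen r) (Y.basicOpen_le r)) i.hf) n a ha) =
        HomogeneousLocalization.Away.mk (𝒮'.deg i.U' i.hU') ht n
          (u.gradedAt (Y.basicOpen r) (i.hU.basicOpen r) i.U' i.hU' hle₂ a)
          ((u.gradedAt (Y.basicOpen r) (i.hU.basicOpen r) i.U' i.hU' hle₂).map_mem ha)) :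
    ∃ ρ : Spec (CommRingCat.of (HomogeneousLocalization.Away (𝒮'.deg i.U' i.hU') t)) ⟶ Spec (i.A u),
      ρ ≫ eC u p' chart' i = Proj.awayι (𝒮'.deg i.U' i.hU') t ht i.hd ≫
        RelProj.emb p' chart' i.U' i.hU' ∧
      ρ ≫ cC u p chart i = Spec.map (CommRingCat.ofHom τ) ≫
        Proj.awayι (𝒮.deg (Y.basicOpen r) (i.hU.basicOpen r))
          ((𝒮.res i.hU (i.hU.basicOpen r) (Y.basicOpen_le r)) i.f)
          (GradedFunLike.map_mem (𝒮.res i.hU (i.hU.basicOpen r) (Y.basicOpen_le r)) i.hf) i.hd ≫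
        RelProj.emb p chart (Y.basicOpen r) (i.hU.basicOpen r) := by
  subst e
  refine ⟨𝟙 _, ?_, ?_⟩
  · unfold eC RelProj.awayEmb
    rw [Category.id_comp]
  · unfold cC
    have hring : CommRingCat.ofHom (HomogeneousLocalization.Away.map (i.ψ u) i.f) =
        CommRingCat.ofHom (HomogeneousLocalization.Away.map
          (𝒮.res i.hU (i.hU.basicOpen r) (Y.basicOpen_le r)) i.f) ≫ CommRingCat.ofHom τ := by
      refine CommRingCat.hom_ext (RingHom.ext fun x => ?_)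
      obtain ⟨n, a, ha, rfl⟩ := x.mk_surjective _ i.hf
      rw [CommRingCat.hom_comp, CommRingCat.hom_ofHom, CommRingCat.hom_ofHom, CommRingCat.hom_ofHom,
        RingHom.comp_apply]
      rw [HomogeneousLocalization.Away.map_mk, HomogeneousLocalization.Away.map_mk, hτ]
      refine mk_congr (𝒜 := 𝒮'.deg i.U' i.hU') _ n _ _ ?_ _ _
      exact (congrArg (fun t => t.hom a) (u.toQHom.map_appLE (Y.basicOpen_le r) hle₂)).symm
    rw [Category.id_comp, ← ProjCone.emb_res p chart hP i.U i.hU r,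
      Proj.awayι_comp_map_assoc (𝒮.res i.hU (i.hU.basicOpen r) (Y.basicOpen_le r))
        (𝒮.irrelevant_le_map i.U i.hU r) i.hd i.f i.hf, ← Spec.map_comp_assoc, hring]

variable (u p chart p' chart') in
theorem ref_src_basic (hP : RelProj.IsRelProj 𝒮 p chart) (i : Idx g 𝒮) (r : Γ(Y, i.U))
    (hle₂ : i.U' ≤ g ⁻¹ᵁ (Y.basicOpen r)) :
    Ref u p chart p' chart' ⟨Y.basicOpen r, i.hU.basicOpen r, i.U', i.hU', hle₂, i.d, i.hd,
      (𝒮.res i.hU (i.hU.basicOpen r) (Y.basicOpen_le r)) i.f,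
      GradedFunLike.map_mem (𝒮.res i.hU (i.hU.basicOpen r) (Y.basicOpen_le r)) i.hf⟩ i := by
  obtain ⟨ρ, h1, h2⟩ := ref_src_gen u p chart p' chart' hP i r hle₂
    (u.gradedAt (Y.basicOpen r) (i.hU.basicOpen r) i.U' i.hU' hle₂
      ((𝒮.res i.hU (i.hU.basicOpen r) (Y.basicOpen_le r)) i.f))
    (congrArg (fun t => t.hom i.f) (u.toQHom.map_appLE (Y.basicOpen_le r) hle₂))
    ((u.gradedAt (Y.basicOpen r) (i.hU.basicOpen r) i.U' i.hU' hle₂).map_mem
      (GradedFunLike.map_mem (𝒮.res i.hU (i.hU.basicOpen r) (Y.basicOpen_le r)) i.hf))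
    (HomogeneousLocalization.Away.map (u.gradedAt (Y.basicOpen r) (i.hU.basicOpen r) i.U' i.hU' hle₂)
      ((𝒮.res i.hU (i.hU.basicOpen r) (Y.basicOpen_le r)) i.f))
    (fun n a ha => HomogeneousLocalization.Away.map_mk _ _ _ _ _ _)
  exact ⟨ρ, h1, h2⟩

variable (u p chart p' chart') in
theorem ref_src_site (hP : RelProj.IsRelProj 𝒮 p chart) (i : Idx g 𝒮)
    {W : Y.AffineZariskiSite} (h : W ≤ (⟨i.U, i.hU⟩ : Y.AffineZariskiSite))
    (hle₂ : i.U' ≤ g ⁻¹ᵁ W.1) :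
    Ref u p chart p' chart' ⟨W.1, W.2, i.U', i.hU', hle₂, i.d, i.hd,
      (𝒮.res i.hU W.2 (Scheme.AffineZariskiSite.toOpens_mono h)) i.f,
      GradedFunLike.map_mem (𝒮.res i.hU W.2 (Scheme.AffineZariskiSite.toOpens_mono h)) i.hf⟩ i := by
  obtain ⟨W, hW⟩ := W
  obtain ⟨r, hr⟩ := h
  change Y.basicOpen r = W at hr
  subst hr
  exact ref_src_basic u p chart p' chart' hP i r hle₂

variable (p' chart') in
theorem mem_iff_of_emb_eq (hP' : RelProj.IsRelProj 𝒮' p' chart') {U'' D : Y'.AffineZariskiSite}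
    (h : D ≤ U'') (pt : Proj (𝒮'.deg U''.1 U''.2)) (pt'' : Proj (𝒮'.deg D.1 D.2))
    (heq : (RelProj.emb p' chart' D.1 D.2).base pt'' = (RelProj.emb p' chart' U''.1 U''.2).base pt)
    (s : 𝒮'.presheaf.obj (op U''.1)) :
    s ∈ pt.asHomogeneousIdeal ↔
      (𝒮'.presheaf.map (homOfLE (Scheme.AffineZariskiSite.toOpens_mono h)).op).hom s ∈
        pt''.asHomogeneousIdeal := by
  obtain ⟨U', hU'⟩ := U''
  obtain ⟨D, hD⟩ := D
  obtain ⟨ρ, hρ⟩ := h
  change Y'.basicOpen ρ = D at hρ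
  subst hρ
  have h1 : pt = (Proj.map (𝒮'.res hU' (hU'.basicOpen ρ) (Y'.basicOpen_le ρ))
      (𝒮'.irrelevant_le_map U' hU' ρ)).base pt'' := by
    apply DomQ.emb_injective p' chart' U' hU'
    have := congrArg (fun k => k.base pt'') (ProjCone.emb_res p' chart' hP' U' hU' ρ)
    simp only [Scheme.Hom.comp_base, TopCat.hom_comp, ContinuousMap.comp_apply] at this
    rw [this]
    exact heq.symm
  subst h1
  exact Iff.rfl

variable (u p' chart') in
theorem eC_base (i : Idx g 𝒮) (w : Spec (i.A u)) :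
    (eC u p' chart' i).base w = (RelProj.emb p' chart' i.U' i.hU').base
      ((Proj.awayι (𝒮'.deg i.U' i.hU') (i.ψ u i.f) ((i.ψ u).map_mem i.hf) i.hd).base w) := rfl

variable (u p' chart') in
theorem mem_range_eC_iff (i : Idx g 𝒮) (pt : Proj (𝒮'.deg i.U' i.hU')) :
    (RelProj.emb p' chart' i.U' i.hU').base pt ∈ Set.range (eC u p' chart' i).base ↔
      i.ψ u i.f ∉ pt.asHomogeneousIdeal := by
  constructor
  · rintro ⟨w, hw⟩
    rw [eC_base] at hw
    have h1 := DomQ.emb_injective p' chart' i.U' i.hU' hw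
    rw [← h1]
    have hb : (Proj.awayι (𝒮'.deg i.U' i.hU') (i.ψ u i.f) ((i.ψ u).map_mem i.hf) i.hd).base w ∈
        Proj.basicOpen (𝒮'.deg i.U' i.hU') (i.ψ u i.f) :=
      (Proj.opensRange_awayι (𝒮'.deg i.U' i.hU') _ ((i.ψ u).map_mem i.hf) i.hd).le ⟨w, rfl⟩
    exact (ProjectiveSpectrum.mem_basicOpen _ _ _).mp hb
  · intro h
    have hmem : pt ∈ Proj.basicOpen (𝒮'.deg i.U' i.hU') (i.ψ u i.f) := by
      rw [Proj.mem_basicOpen]; exact h
    have hmem' : pt ∈ (Proj.awayι (𝒮'.deg i.U' i.hU') (i.ψ u i.f)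
        ((i.ψ u).map_mem i.hf) i.hd).opensRange := by
      rw [Proj.opensRange_awayι]; exact hmem
    obtain ⟨w, rfl⟩ := hmem'
    exact ⟨w, rfl⟩

variable (u p chart p' chart') in
theorem exists_common_ref (hP : RelProj.IsRelProj 𝒮 p chart) (hP' : RelProj.IsRelProj 𝒮' p' chart')
    (i j : Idx g 𝒮) (x : P')
    (hxi : x ∈ Set.range (eC u p' chart' i).base) (hxj : x ∈ Set.range (eC u p' chart' j).base) :
    ∃ k : Idx g 𝒮, Ref u p chart p' chart' k i ∧ Ref u p chart p' chart' k j ∧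
      x ∈ Set.range (eC u p' chart' k).base := by
  obtain ⟨wi, hwi⟩ := hxi
  obtain ⟨wj, hwj⟩ := hxj
  rw [eC_base] at hwi hwj
  set pti := (Proj.awayι (𝒮'.deg i.U' i.hU') (i.ψ u i.f) ((i.ψ u).map_mem i.hf) i.hd).base wi with hpti
  set ptj := (Proj.awayι (𝒮'.deg j.U' j.hU') (j.ψ u j.f) ((j.ψ u).map_mem j.hf) j.hd).base wj with hptj
  have hnoti : i.ψ u i.f ∉ pti.asHomogeneousIdeal :=
    (mem_range_eC_iff u p' chart' i pti).mp ⟨wi, rfl⟩
  have hnotj : j.ψ u j.f ∉ ptj.asHomogeneousIdeal :=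
    (mem_range_eC_iff u p' chart' j ptj).mp ⟨wj, rfl⟩
  have hxUi : p'.base x ∈ i.U' := by
    rw [← hwi]
    have : (RelProj.emb p' chart' i.U' i.hU').base pti ∈ (RelProj.emb p' chart' i.U' i.hU').opensRange :=
      ⟨pti, rfl⟩
    rw [ProjCone.range_emb] at this
    exact this
  have hxUj : p'.base x ∈ j.U' := by
    rw [← hwj]
    have : (RelProj.emb p' chart' j.U' j.hU').base ptj ∈ (RelProj.emb p' chart' j.U' j.hU').opensRange :=
      ⟨ptj, rfl⟩
    rw [ProjCone.range_emb] at this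
    exact this
  have hqUi : g.base (p'.base x) ∈ i.U := i.hle hxUi
  have hqUj : g.base (p'.base x) ∈ j.U := j.hle hxUj
  obtain ⟨r₁, r₂, hrs, hyW⟩ := exists_basicOpen_le_affine_inter i.hU j.hU _ ⟨hqUi, hqUj⟩
  obtain ⟨ρ₁, ρ₂, hρσ, hy'⟩ := exists_basicOpen_le_affine_inter i.hU' j.hU' _ ⟨hxUi, hxUj⟩
  obtain ⟨τ, hτle, hτmem⟩ := (i.hU'.basicOpen ρ₁).exists_basicOpen_le
    (V := g ⁻¹ᵁ (Y.basicOpen r₁)) ⟨p'.base x, hyW⟩ hy'
  let sW : Y.AffineZariskiSite := ⟨Y.basicOpen r₁, i.hU.basicOpen r₁⟩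
  have hWi : sW ≤ (⟨i.U, i.hU⟩ : Y.AffineZariskiSite) := ⟨r₁, rfl⟩
  have hWj : sW ≤ (⟨j.U, j.hU⟩ : Y.AffineZariskiSite) := ⟨r₂, hrs.symm⟩
  let sW0 : Y'.AffineZariskiSite := ⟨Y'.basicOpen ρ₁, i.hU'.basicOpen ρ₁⟩
  let sW'' : Y'.AffineZariskiSite := ⟨Y'.basicOpen τ, (i.hU'.basicOpen ρ₁).basicOpen τ⟩
  have h0i : sW0 ≤ (⟨i.U', i.hU'⟩ : Y'.AffineZariskiSite) := ⟨ρ₁, rfl⟩
  have h0j : sW0 ≤ (⟨j.U', j.hU'⟩ : Y'.AffineZariskiSite) := ⟨ρ₂, hρσ.symm⟩
  have h''0 : sW'' ≤ sW0 := ⟨τ, rfl⟩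
  have h''i : sW'' ≤ (⟨i.U', i.hU'⟩ : Y'.AffineZariskiSite) := h''0.trans h0i
  have h''j : sW'' ≤ (⟨j.U', j.hU'⟩ : Y'.AffineZariskiSite) := h''0.trans h0j
  have hτle' : sW''.1 ≤ g ⁻¹ᵁ sW.1 := hτle
  -- refinements
  let i₁ : Idx g 𝒮 := ⟨i.U, i.hU, sW''.1, sW''.2,
    (Scheme.AffineZariskiSite.toOpens_mono h''i).trans i.hle, i.d, i.hd, i.f, i.hf⟩
  have Ri₁ : Ref u p chart p' chart' i₁ i := ref_tgt_site u p chart p' chart' hP' i h''i
  let i₂ : Idx g 𝒮 := ⟨sW.1, sW.2, sW''.1, sW''.2, hτle', i.d, i.hd,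
    (𝒮.res i.hU sW.2 (Scheme.AffineZariskiSite.toOpens_mono hWi)) i.f,
    GradedFunLike.map_mem (𝒮.res i.hU sW.2 (Scheme.AffineZariskiSite.toOpens_mono hWi)) i.hf⟩
  have Ri₂ : Ref u p chart p' chart' i₂ i₁ := ref_src_site u p chart p' chart' hP i₁ hWi hτle'
  let j₁ : Idx g 𝒮 := ⟨j.U, j.hU, sW''.1, sW''.2,
    (Scheme.AffineZariskiSite.toOpens_mono h''j).trans j.hle, j.d, j.hd, j.f, j.hf⟩
  have Rj₁ : Ref u p chart p' chart' j₁ j := ref_tgt_site u p chart p' chart' hP' j h''j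
  let j₂ : Idx g 𝒮 := ⟨sW.1, sW.2, sW''.1, sW''.2, hτle', j.d, j.hd,
    (𝒮.res j.hU sW.2 (Scheme.AffineZariskiSite.toOpens_mono hWj)) j.f,
    GradedFunLike.map_mem (𝒮.res j.hU sW.2 (Scheme.AffineZariskiSite.toOpens_mono hWj)) j.hf⟩
  have Rj₂ : Ref u p chart p' chart' j₂ j₁ := ref_src_site u p chart p' chart' hP j₁ hWj hτle'
  have hkmem : i₂.f * j₂.f ∈ 𝒮.deg sW.1 sW.2 (i.d + j.d) := SetLike.mul_mem_graded i₂.hf j₂.hf
  have hkpos : 0 < i.d + j.d := Nat.add_pos_left i.hd _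
  let k : Idx g 𝒮 := ⟨sW.1, sW.2, sW''.1, sW''.2, hτle', i.d + j.d, hkpos, i₂.f * j₂.f, hkmem⟩
  have Rki : Ref u p chart p' chart' k i₂ :=
    ref_mul u p chart p' chart' i₂ j₂.f j₂.hf (i₂.f * j₂.f) rfl (i.d + j.d) rfl hkmem hkpos
  have Rkj : Ref u p chart p' chart' k j₂ :=
    ref_mul u p chart p' chart' j₂ i₂.f i₂.hf (i₂.f * j₂.f) (mul_comm _ _) (i.d + j.d) (add_comm _ _)
      hkmem hkpos
  refine ⟨k, Rki.trans (Ri₂.trans Ri₁), Rkj.trans (Rj₂.trans Rj₁), ?_⟩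
  -- the point lies in the chart k
  obtain ⟨pt'', hpt''⟩ : ∃ pt'' : Proj (𝒮'.deg sW''.1 sW''.2),
      (RelProj.emb p' chart' sW''.1 sW''.2).base pt'' = x := by
    have : x ∈ (RelProj.emb p' chart' sW''.1 sW''.2).opensRange := by
      rw [ProjCone.range_emb]; exact hτmem
    exact this
  rw [← hpt'']
  refine (mem_range_eC_iff u p' chart' k pt'').mpr ?_
  have hTi := (mem_iff_of_emb_eq p' chart' hP' h''i pti pt'' (hpt''.trans hwi.symm) (i.ψ u i.f)).not.mp hnoti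
  have hTj := (mem_iff_of_emb_eq p' chart' hP' h''j ptj pt'' (hpt''.trans hwj.symm) (j.ψ u j.f)).not.mp hnotj
  have ei : k.ψ u i₂.f = (𝒮'.presheaf.map (homOfLE (Scheme.AffineZariskiSite.toOpens_mono h''i)).op).hom
      (i.ψ u i.f) := by
    have e1 := congrArg (fun t => t.hom i.f) (u.toQHom.map_appLE
      (Scheme.AffineZariskiSite.toOpens_mono hWi) hτle')
    have e2 := congrArg (fun t => t.hom i.f) (u.toQHom.appLE_map i.hle
      (Scheme.AffineZariskiSite.toOpens_mono h''i))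
    exact e1.trans e2.symm
  have ej : k.ψ u j₂.f = (𝒮'.presheaf.map (homOfLE (Scheme.AffineZariskiSite.toOpens_mono h''j)).op).hom
      (j.ψ u j.f) := by
    have e1 := congrArg (fun t => t.hom j.f) (u.toQHom.map_appLE
      (Scheme.AffineZariskiSite.toOpens_mono hWj) hτle')
    have e2 := congrArg (fun t => t.hom j.f) (u.toQHom.appLE_map j.hle
      (Scheme.AffineZariskiSite.toOpens_mono h''j))
    exact e1.trans e2.symm
  have hmul : k.ψ u k.f = k.ψ u i₂.f * k.ψ u j₂.f := map_mul _ _ _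
  rw [hmul, ei, ej]
  intro hmem
  rcases pt''.isPrime.mem_or_mem hmem with h | h
  · exact hTi h
  · exact hTj h

variable (u p' chart')

instance isOpenImmersion_eC (i : Idx g 𝒮) : IsOpenImmersion (eC u p' chart' i) := by
  unfold eC RelProj.awayEmb; infer_instance

/-- the standard chart lifted into `G(u)`. -/
noncomputable def Lf (i : Idx g 𝒮) :
    Spec (i.A u) ⟶ ((RelProj.domQ u p' chart' : P'.Opens) : Scheme.{u}) :=
  IsOpenImmersion.lift (RelProj.domQ u p' chart').ι (eC u p' chart' i)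
    (RelProj.range_awayEmb_subset_domQ u p' chart' i.U i.hU i.U' i.hU' i.hle i.hd i.f i.hf)

theorem Lf_ι (i : Idx g 𝒮) : Lf u p' chart' i ≫ (RelProj.domQ u p' chart').ι = eC u p' chart' i :=
  IsOpenImmersion.lift_fac _ _ _

instance isOpenImmersion_Lf (i : Idx g 𝒮) : IsOpenImmersion (Lf u p' chart' i) := by
  have : IsOpenImmersion (Lf u p' chart' i ≫ (RelProj.domQ u p' chart').ι) := by
    rw [Lf_ι]; infer_instance
  exact IsOpenImmersion.of_comp (Lf u p' chart' i) (RelProj.domQ u p' chart').ι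

theorem exists_awayEmb (x' : P') (hx : x' ∈ RelProj.domQ u p' chart') :
    ∃ i : Idx g 𝒮, x' ∈ Set.range (eC u p' chart' i).base := by
  unfold RelProj.domQ at hx
  rw [Opens.mem_iSup] at hx
  obtain ⟨⟨⟨⟨U, hU⟩, ⟨U', hU'⟩⟩, hle⟩, pt, hpt, rfl⟩ := hx
  change pt ∈ RelCone.domOpen (u.gradedAt U hU U' hU' hle) at hpt
  rw [RelCone.mem_domOpen] at hpt
  obtain ⟨g₀, hg₀, hgq⟩ := hpt
  have hnot : ¬ (HomogeneousIdeal.irrelevant (𝒮.deg U hU)).toIdeal ≤
      Ideal.comap (u.appLE U U' hle).hom pt.asHomogeneousIdeal.toIdeal := by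
    intro h
    exact hgq (h hg₀)
  rw [HomogeneousIdeal.toIdeal_irrelevant_le] at hnot
  push Not at hnot
  obtain ⟨d, hd, hnle⟩ := hnot
  obtain ⟨f, hf, hfq⟩ := SetLike.not_le_iff_exists.mp hnle
  exact ⟨⟨U, hU, U', hU', hle, d, hd, f, hf⟩,
    (mem_range_eC_iff u p' chart' ⟨U, hU, U', hU', hle, d, hd, f, hf⟩ pt).mpr hfq⟩

theorem ι_mem (b : ((RelProj.domQ u p' chart' : P'.Opens) : Scheme.{u})) :
    (RelProj.domQ u p' chart').ι.base b ∈ RelProj.domQ u p' chart' := by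
  have h0 : (RelProj.domQ u p' chart').ι.base b ∈
      Set.range (RelProj.domQ u p' chart').ι.base := ⟨b, rfl⟩
  rw [Scheme.Opens.range_ι] at h0
  exact h0

theorem mem_range_Lf_iff (i : Idx g 𝒮) (b : ((RelProj.domQ u p' chart' : P'.Opens) : Scheme.{u})) :
    b ∈ Set.range (Lf u p' chart' i).base ↔
      (RelProj.domQ u p' chart').ι.base b ∈ Set.range (eC u p' chart' i).base := by
  constructor
  · rintro ⟨w, rfl⟩
    refine ⟨w, ?_⟩
    have := congrArg (fun k => k.base w) (Lf_ι u p' chart' i)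
    simp only [Scheme.Hom.comp_base, TopCat.hom_comp, ContinuousMap.comp_apply] at this
    exact this.symm
  · rintro ⟨w, hw⟩
    refine ⟨w, ?_⟩
    apply (RelProj.domQ u p' chart').ι.isOpenEmbedding.injective
    rw [← hw]
    have := congrArg (fun k => k.base w) (Lf_ι u p' chart' i)
    simp only [Scheme.Hom.comp_base, TopCat.hom_comp, ContinuousMap.comp_apply] at this
    exact this

/-- the cover of `G(u)` by the standard charts. -/
noncomputable def cover : ((RelProj.domQ u p' chart' : P'.Opens) : Scheme.{u}).OpenCover :=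
  Scheme.Cover.mkOfCovers (Idx g 𝒮) (fun i => Spec (i.A u)) (fun i => Lf u p' chart' i)
    (fun b => by
      obtain ⟨i, hi⟩ := exists_awayEmb u p' chart' _ (ι_mem u p' chart' b)
      obtain ⟨w, hw⟩ := (mem_range_Lf_iff u p' chart' i b).mpr hi
      exact ⟨i, w, hw⟩)

variable (p chart)

theorem compat (hP : RelProj.IsRelProj 𝒮 p chart) (hP' : RelProj.IsRelProj 𝒮' p' chart')
    (i j : Idx g 𝒮) :
    pullback.fst (Lf u p' chart' i) (Lf u p' chart' j) ≫ cC u p chart i =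
      pullback.snd (Lf u p' chart' i) (Lf u p' chart' j) ≫ cC u p chart j := by
  apply Scheme.hom_ext_of_forall
  intro ζ
  set fst := pullback.fst (Lf u p' chart' i) (Lf u p' chart' j) with hfst
  set snd := pullback.snd (Lf u p' chart' i) (Lf u p' chart' j) with hsnd
  have hcond : fst ≫ Lf u p' chart' i = snd ≫ Lf u p' chart' j := pullback.condition
  set b := (fst ≫ Lf u p' chart' i).base ζ with hb
  have hbi : b ∈ Set.range (Lf u p' chart' i).base := ⟨fst.base ζ, rfl⟩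
  have hbj : b ∈ Set.range (Lf u p' chart' j).base := by
    rw [hb, hcond]; exact ⟨snd.base ζ, rfl⟩
  obtain ⟨k, Rki, Rkj, hxk⟩ := exists_common_ref u p chart p' chart' hP hP' i j _
    ((mem_range_Lf_iff u p' chart' i b).mp hbi) ((mem_range_Lf_iff u p' chart' j b).mp hbj)
  have hbk : b ∈ Set.range (Lf u p' chart' k).base := (mem_range_Lf_iff u p' chart' k b).mpr hxk
  let W : (pullback (Lf u p' chart' i) (Lf u p' chart' j)).Opens :=
    (fst ≫ Lf u p' chart' i) ⁻¹ᵁ (Lf u p' chart' k).opensRange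
  refine ⟨W, hbk, ?_⟩
  have hr : Set.range (W.ι ≫ fst ≫ Lf u p' chart' i).base ⊆ Set.range (Lf u p' chart' k).base := by
    rintro _ ⟨w, rfl⟩
    exact w.2
  have ha : IsOpenImmersion.lift (Lf u p' chart' k) (W.ι ≫ fst ≫ Lf u p' chart' i) hr ≫
      Lf u p' chart' k = W.ι ≫ fst ≫ Lf u p' chart' i := IsOpenImmersion.lift_fac _ _ _
  set a := IsOpenImmersion.lift (Lf u p' chart' k) (W.ι ≫ fst ≫ Lf u p' chart' i) hr with hadef
  obtain ⟨ρi, hρie, hρic⟩ := Rki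
  obtain ⟨ρj, hρje, hρjc⟩ := Rkj
  have h1 : W.ι ≫ fst = a ≫ ρi := by
    rw [← cancel_mono (eC u p' chart' i), Category.assoc, Category.assoc, hρie, ← Lf_ι u p' chart' i,
      ← Lf_ι u p' chart' k, ← Category.assoc a, ha]
    simp only [Category.assoc]
  have h2 : W.ι ≫ snd = a ≫ ρj := by
    rw [← cancel_mono (eC u p' chart' j), Category.assoc, Category.assoc, hρje, ← Lf_ι u p' chart' j,
      ← Lf_ι u p' chart' k, ← Category.assoc a, ha, ← Category.assoc snd, ← hcond]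
    simp only [Category.assoc]
  rw [← Category.assoc, h1, Category.assoc, hρic, ← Category.assoc, h2, Category.assoc, hρjc]

/-- the glued morphism `Proj(u) : G(u) ⟶ P`. -/
noncomputable def glued (hP : RelProj.IsRelProj 𝒮 p chart) (hP' : RelProj.IsRelProj 𝒮' p' chart') :
    ((RelProj.domQ u p' chart' : P'.Opens) : Scheme.{u}) ⟶ P :=
  (cover u p' chart').glueMorphisms (fun i => cC u p chart i)
    (fun i j => compat u p chart p' chart' hP hP' i j)

theorem Lf_glued (hP : RelProj.IsRelProj 𝒮 p chart) (hP' : RelProj.IsRelProj 𝒮' p' chart')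
    (i : Idx g 𝒮) : Lf u p' chart' i ≫ glued u p chart p' chart' hP hP' = cC u p chart i :=
  (cover u p' chart').ι_glueMorphisms (fun i => cC u p chart i)
    (fun i j => compat u p chart p' chart' hP hP' i j) i

theorem isProjQMapOn_glued (hP : RelProj.IsRelProj 𝒮 p chart) (hP' : RelProj.IsRelProj 𝒮' p' chart') :
    RelProj.IsProjQMapOn u p chart p' chart' (RelProj.domQ u p' chart')
      (glued u p chart p' chart' hP hP') := by
  intro U hU U' hU' hle d hd f hf hW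
  exact Lf_glued u p chart p' chart' hP hP' ⟨U, hU, U', hU', hle, d, hd, f, hf⟩

theorem Lf_comp_of_isProjQMapOn (v : ((RelProj.domQ u p' chart' : P'.Opens) : Scheme.{u}) ⟶ P)
    (hv : RelProj.IsProjQMapOn u p chart p' chart' (RelProj.domQ u p' chart') v) (i : Idx g 𝒮) :
    Lf u p' chart' i ≫ v = cC u p chart i :=
  hv i.U i.hU i.U' i.hU' i.hle i.d i.hd i.f i.hf _

theorem unique_of_isProjQMapOn (v v' : ((RelProj.domQ u p' chart' : P'.Opens) : Scheme.{u}) ⟶ P)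
    (hv : RelProj.IsProjQMapOn u p chart p' chart' (RelProj.domQ u p' chart') v)
    (hv' : RelProj.IsProjQMapOn u p chart p' chart' (RelProj.domQ u p' chart') v') : v = v' := by
  refine (cover u p' chart').hom_ext _ _ ?_
  intro (i : Idx g 𝒮)
  change Lf u p' chart' i ≫ v = Lf u p' chart' i ≫ v'
  rw [Lf_comp_of_isProjQMapOn u p chart p' chart' v hv i,
    Lf_comp_of_isProjQMapOn u p chart p' chart' v' hv' i]

theorem ring_comm (i : Idx g 𝒮) :
    (𝒮.strZero i.U i.hU ≫ CommRingCat.ofHom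
        (HomogeneousLocalization.fromZeroRingHom (𝒮.deg i.U i.hU) (Submonoid.powers i.f))) ≫
      CommRingCat.ofHom (HomogeneousLocalization.Away.map (i.ψ u) i.f) =
    g.appLE i.U i.U' i.hle ≫ 𝒮'.strZero i.U' i.hU' ≫ CommRingCat.ofHom
        (HomogeneousLocalization.fromZeroRingHom (𝒮'.deg i.U' i.hU')
          (Submonoid.powers (i.ψ u i.f))) := by
  ext r
  have h1 : (i.ψ u) ((𝒮.str.app (op i.U)).hom r) =
      (𝒮'.str.app (op i.U')).hom ((g.appLE i.U i.U' i.hle).hom r) :=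
    congrArg (fun t => t.hom r) (u.toQHom.str_appLE i.U i.U' i.hle)
  simp only [HomogeneousLocalization.fromZeroRingHom, HomogeneousLocalization.Away.map,
    CommRingCat.hom_comp, CommRingCat.hom_ofHom, RingHom.comp_apply, RingHom.coe_mk,
    MonoidHom.coe_mk, OneHom.coe_mk]
  rw [HomogeneousLocalization.map_mk, HomogeneousLocalization.val_mk,
    HomogeneousLocalization.val_mk]
  rw [Localization.mk_eq_mk_iff, Localization.r_iff_exists]
  refine ⟨1, ?_⟩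
  change (1 : 𝒮'.presheaf.obj (op i.U')) * ((1 : 𝒮'.presheaf.obj (op i.U')) *
      (i.ψ u) ((𝒮.str.app (op i.U)).hom r)) =
    1 * ((i.ψ u) 1 * (𝒮'.str.app (op i.U')).hom ((g.appLE i.U i.U' i.hle).hom r))
  rw [h1, map_one]

theorem cC_comp_p (hP : RelProj.IsRelProj 𝒮 p chart) (hP' : RelProj.IsRelProj 𝒮' p' chart')
    (i : Idx g 𝒮) : cC u p chart i ≫ p = eC u p' chart' i ≫ p' ≫ g := by
  have h1 := ProjQMap.awayι_emb_comp hP ⟨i.U, i.hU, i.d, i.hd, i.f, i.hf⟩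
  have h2 := ProjQMap.awayι_emb_comp hP' ⟨i.U', i.hU', i.d, i.hd, i.ψ u i.f, (i.ψ u).map_mem i.hf⟩
  unfold cC eC RelProj.awayEmb
  simp only [Category.assoc]
  rw [h1, reassoc_of% h2, ← IsAffineOpen.SpecMap_appLE_fromSpec g i.hU i.hU' i.hle,
    ← Spec.map_comp_assoc, ← Spec.map_comp_assoc, ring_comm u i]

theorem comp_p_of_isProjQMapOn (hP : RelProj.IsRelProj 𝒮 p chart) (hP' : RelProj.IsRelProj 𝒮' p' chart')
    (v : ((RelProj.domQ u p' chart' : P'.Opens) : Scheme.{u}) ⟶ P)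
    (hv : RelProj.IsProjQMapOn u p chart p' chart' (RelProj.domQ u p' chart') v) :
    v ≫ p = (RelProj.domQ u p' chart').ι ≫ p' ≫ g := by
  refine (cover u p' chart').hom_ext _ _ ?_
  intro (i : Idx g 𝒮)
  change Lf u p' chart' i ≫ v ≫ p = Lf u p' chart' i ≫ (RelProj.domQ u p' chart').ι ≫ p' ≫ g
  rw [← Category.assoc, Lf_comp_of_isProjQMapOn u p chart p' chart' v hv i,
    ← Category.assoc (Lf u p' chart' i), Lf_ι, cC_comp_p u p chart p' chart' hP hP' i]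

end Groth.Agent.Lib.helper27.ProjQGlue
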