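import Mathlib
import Groth.Prelude.Def_W4c5quivmodgenus0Quiv

/-!
# Helper library for `PtQuiv` (S18562, S18563)
-/

set_option autoImplicit false
universe u v

namespace H27PtQuiv

open PtQuiv

variable {K : Type u} [Field K] {κ : Type v} [Fintype κ] [DecidableEq κ]

theorem finrank_le_two (L : Submodule K (Fin 2 → K)) : Module.finrank K L ≤ 2 := by
  have := Submodule.finrank_le L
  simpa using this

theorem eq_top_of_finrank_two (L : Submodule K (Fin 2 → K)) (h : Module.finrank K L = 2) : L = ⊤ := by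
  apply Submodule.eq_top_of_finrank_eq
  rw [h]; simp

theorem sum_le_two (θ : κ → ℚ) (h0 : ∀ i, 0 ≤ θ i) (h2 : ∑ i, θ i = 2) (I : Finset κ) :
    ∑ i ∈ I, θ i ≤ 2 := by
  rw [← h2]
  exact Finset.sum_le_univ_sum_of_nonneg h0

/-- semistability for the weight `(-1, θ)` -/
theorem qSemistable_iff (s : κ → (Fin 2 → K)) (θ : κ → ℚ) (h0 : ∀ i, 0 ≤ θ i) (h2 : ∑ i, θ i = 2) :
    QSemistable (-1) θ s ↔
      ((∀ i, s i = 0 → θ i = 0) ∧
        ∀ L : Submodule K (Fin 2 → K), Module.finrank K L = 1 → ∀ I : Finset κ, QSubrep s L I →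
          ∑ i ∈ I, θ i ≤ 1) := by
  constructor
  · rintro ⟨-, h⟩
    refine ⟨fun i hi => ?_, fun L hL I hI => ?_⟩
    · have := h ⊥ {i} (by intro j hj; rw [Finset.mem_singleton] at hj; rw [hj, hi]; exact Submodule.zero_mem _)
      simp only [QWt, finrank_bot, Nat.cast_zero, mul_zero, zero_add, Finset.sum_singleton] at this
      exact le_antisymm this (h0 i)
    · have := h L I hI
      simp only [QWt, hL, Nat.cast_one, mul_one] at this
      linarith
  · rintro ⟨hZ, hL⟩
    refine ⟨by rw [h2]; norm_num, fun L I hI => ?_⟩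
    have hle := finrank_le_two L
    simp only [QWt]
    interval_cases hr : Module.finrank K L
    · have hbot : L = ⊥ := Submodule.finrank_eq_zero.1 hr
      have : ∑ i ∈ I, θ i = 0 := by
        apply Finset.sum_eq_zero
        intro i hi
        apply hZ
        have := hI i hi
        rwa [hbot, Submodule.mem_bot] at this
      rw [this]; norm_num
    · have := hL L hr I hI
      push_cast; linarith
    · have := sum_le_two θ h0 h2 I
      push_cast; linarith

/-- stability for the weight `(-1, θ)` -/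
theorem qStable_iff (s : κ → (Fin 2 → K)) (θ : κ → ℚ) (h0 : ∀ i, 0 ≤ θ i) (h2 : ∑ i, θ i = 2) :
    QStable (-1) θ s ↔
      ((∀ i, s i ≠ 0) ∧ (∀ i, 0 < θ i) ∧
        ∀ L : Submodule K (Fin 2 → K), Module.finrank K L = 1 → ∀ I : Finset κ, QSubrep s L I →
          ∑ i ∈ I, θ i < 1) := by
  have hbt : (⊥ : Submodule K (Fin 2 → K)) ≠ ⊤ := bot_ne_top
  constructor
  · rintro ⟨hss, hst⟩
    have hss' := (qSemistable_iff s θ h0 h2).1 hss
    refine ⟨fun i hi => ?_, fun i => ?_, fun L hL I hI => ?_⟩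
    · have hθi := hss'.1 i hi
      have hsub : QSubrep s ⊥ {i} := by
        intro j hj; rw [Finset.mem_singleton] at hj; rw [hj, hi]; exact Submodule.zero_mem _
      have hw : QWt K (-1) θ ⊥ ({i} : Finset κ) = 0 := by
        simp [QWt, hθi]
      rcases hst ⊥ {i} hsub hw with ⟨-, h⟩ | ⟨h, -⟩
      · exact Finset.singleton_ne_empty i h
      · exact hbt h
    · by_contra hcon
      have hθi : θ i = 0 := le_antisymm (not_lt.1 hcon) (h0 i)
      have hsub : QSubrep s ⊤ (Finset.univ.erase i) := fun j _ => Submodule.mem_top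
      have hw : QWt K (-1) θ ⊤ (Finset.univ.erase i) = 0 := by
        have h3 : ∑ j ∈ Finset.univ.erase i, θ j = 2 := by
          rw [Finset.sum_erase_eq_sub (Finset.mem_univ i), h2, hθi, sub_zero]
        simp only [QWt, finrank_top, Module.finrank_fin_fun, h3]
        norm_num
      rcases hst ⊤ _ hsub hw with ⟨h, -⟩ | ⟨-, h⟩
      · exact hbt h.symm
      · have : i ∈ Finset.univ.erase i := by rw [h]; exact Finset.mem_univ i
        exact (Finset.notMem_erase i _) this
    · have hle := hss'.2 L hL I hI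
      rcases lt_or_eq_of_le hle with h | h
      · exact h
      · exfalso
        have hw : QWt K (-1) θ L I = 0 := by
          simp only [QWt, hL, h]; norm_num
        rcases hst L I hI hw with ⟨hb, -⟩ | ⟨ht, -⟩
        · rw [hb, finrank_bot] at hL; omega
        · rw [ht, finrank_top, Module.finrank_fin_fun] at hL; omega
  · rintro ⟨hZ, hT, hL⟩
    have hss : QSemistable (-1) θ s :=
      (qSemistable_iff s θ h0 h2).2 ⟨fun i hi => absurd hi (hZ i), fun L hL' I hI => (hL L hL' I hI).le⟩
    refine ⟨hss, fun L I hI hw => ?_⟩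
    have hle := finrank_le_two L
    simp only [QWt] at hw
    interval_cases hr : Module.finrank K L
    · left
      have hbot : L = ⊥ := Submodule.finrank_eq_zero.1 hr
      refine ⟨hbot, ?_⟩
      rw [Finset.eq_empty_iff_forall_notMem]
      intro i hi
      have := hI i hi
      rw [hbot, Submodule.mem_bot] at this
      exact hZ i this
    · exfalso
      have := hL L hr I hI
      push_cast at hw; linarith
    · right
      refine ⟨eq_top_of_finrank_two L hr, ?_⟩
      rw [Finset.eq_univ_iff_forall]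
      intro i
      by_contra hi
      have h3 : ∑ j ∈ I, θ j ≤ ∑ j ∈ Finset.univ.erase i, θ j :=
        Finset.sum_le_sum_of_subset_of_nonneg (fun j hj => Finset.mem_erase.2 ⟨fun h => hi (h ▸ hj), Finset.mem_univ j⟩)
          (fun j _ _ => h0 j)
      rw [Finset.sum_erase_eq_sub (Finset.mem_univ i), h2] at h3
      have := hT i
      push_cast at hw; linarith


section P

variable {ι : Type v} [Fintype ι] [DecidableEq ι]

omit [Fintype ι] [DecidableEq ι] in
theorem pWt_eq (η0 η1 : ℚ) (θ' : ι → ℚ) (U : Fin 2 → Submodule K K) (I : Finset ι) :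
    PWt K ![η0, η1] θ' U I =
      η0 * (Module.finrank K (U 0) : ℚ) + η1 * (Module.finrank K (U 1) : ℚ) + ∑ i ∈ I, θ' i := by
  simp [PWt, Fin.sum_univ_two]

omit [Fintype ι] [DecidableEq ι] in
theorem pWt_pair (η0 η1 : ℚ) (θ' : ι → ℚ) (V0 V1 : Submodule K K) (I : Finset ι) :
    PWt K ![η0, η1] θ' ![V0, V1] I =
      η0 * (Module.finrank K V0 : ℚ) + η1 * (Module.finrank K V1 : ℚ) + ∑ i ∈ I, θ' i := by
  rw [pWt_eq]; rfl

theorem fr_top : Module.finrank K (⊤ : Submodule K K) = 1 := by
  rw [finrank_top, Module.finrank_self]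

theorem fr_bot : Module.finrank K (⊥ : Submodule K K) = 0 := finrank_bot K K

theorem sub_cases (V : Submodule K K) : (V = ⊥ ∧ Module.finrank K V = 0) ∨ (V = ⊤ ∧ Module.finrank K V = 1) := by
  rcases Ideal.eq_bot_or_top V with h | h
  · left; exact ⟨h, by rw [h, finrank_bot]⟩
  · right; exact ⟨h, by rw [h, finrank_top, Module.finrank_self]⟩

theorem pSemistable_iff (t : ι → (Fin 2 → K)) (η0 η1 : ℚ) (θ' : ι → ℚ) (hθ' : ∀ i, 0 ≤ θ' i)
    (hsum : η0 + η1 + ∑ i, θ' i = 0) :
    PSemistable ![η0, η1] θ' t ↔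
      ((∀ i, t i = 0 → θ' i = 0) ∧
       (∀ I : Finset ι, (∀ i ∈ I, t i 1 = 0) → η0 + ∑ i ∈ I, θ' i ≤ 0) ∧
       (∀ I : Finset ι, (∀ i ∈ I, t i 0 = 0) → η1 + ∑ i ∈ I, θ' i ≤ 0)) := by
  constructor
  · rintro ⟨-, h⟩
    refine ⟨fun i hi => ?_, fun I hI => ?_, fun I hI => ?_⟩
    · have := h (fun _ => ⊥) {i} (by
        intro j hj k; rw [Finset.mem_singleton] at hj; rw [hj, hi]; exact Submodule.zero_mem _)
      rw [pWt_eq] at this
      simp only [finrank_bot, Nat.cast_zero, mul_zero, zero_add, Finset.sum_singleton] at this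
      exact le_antisymm this (hθ' i)
    · have := h ![⊤, ⊥] I (by
        intro i hi k
        fin_cases k
        · exact Submodule.mem_top
        · show t i 1 ∈ (⊥ : Submodule K K)
          rw [hI i hi]; exact Submodule.zero_mem _)
      rw [pWt_pair, fr_top, fr_bot] at this
      simpa using this
    · have := h ![⊥, ⊤] I (by
        intro i hi k
        fin_cases k
        · show t i 0 ∈ (⊥ : Submodule K K)
          rw [hI i hi]; exact Submodule.zero_mem _
        · exact Submodule.mem_top)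
      rw [pWt_pair, fr_top, fr_bot] at this
      simpa using this
  · rintro ⟨hZ, hA, hB⟩
    refine ⟨by simpa [Fin.sum_univ_two] using hsum, fun U I hI => ?_⟩
    rw [pWt_eq]
    have hIle : ∑ i ∈ I, θ' i ≤ ∑ i, θ' i := Finset.sum_le_univ_sum_of_nonneg hθ'
    rcases sub_cases (U 0) with ⟨h0, r0⟩ | ⟨h0, r0⟩ <;> rcases sub_cases (U 1) with ⟨h1, r1⟩ | ⟨h1, r1⟩ <;>
      rw [r0, r1]
    · have : ∑ i ∈ I, θ' i = 0 := by
        apply Finset.sum_eq_zero
        intro i hi
        apply hZ
        funext k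
        fin_cases k
        · have := hI i hi 0; rwa [h0, Submodule.mem_bot] at this
        · have := hI i hi 1; rwa [h1, Submodule.mem_bot] at this
      rw [this]; norm_num
    · have := hB I (fun i hi => by have := hI i hi 0; rwa [h0, Submodule.mem_bot] at this)
      push_cast; linarith
    · have := hA I (fun i hi => by have := hI i hi 1; rwa [h1, Submodule.mem_bot] at this)
      push_cast; linarith
    · push_cast; linarith


theorem bot_fun_ne_top : ((⊥ : Fin 2 → Submodule K K)) ≠ ⊤ := by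
  intro h
  have := congrFun h 0
  exact bot_ne_top this

theorem pStable_iff (t : ι → (Fin 2 → K)) (η0 η1 : ℚ) (θ' : ι → ℚ) (hθ' : ∀ i, 0 ≤ θ' i)
    (hsum : η0 + η1 + ∑ i, θ' i = 0) :
    PStable ![η0, η1] θ' t ↔
      ((∀ i, t i ≠ 0) ∧ (∀ i, 0 < θ' i) ∧
       (∀ I : Finset ι, (∀ i ∈ I, t i 1 = 0) → η0 + ∑ i ∈ I, θ' i < 0) ∧
       (∀ I : Finset ι, (∀ i ∈ I, t i 0 = 0) → η1 + ∑ i ∈ I, θ' i < 0)) := by
  have hbt : (⊥ : Submodule K K) ≠ ⊤ := bot_ne_top
  constructor
  · rintro ⟨hss, hst⟩
    obtain ⟨hZ, hA, hB⟩ := (pSemistable_iff t η0 η1 θ' hθ' hsum).1 hss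
    refine ⟨fun i hi => ?_, fun i => ?_, fun I hI => ?_, fun I hI => ?_⟩
    · have hθi := hZ i hi
      have hsub : PSubrep t (fun _ => ⊥) {i} := by
        intro j hj k; rw [Finset.mem_singleton] at hj; rw [hj, hi]; exact Submodule.zero_mem _
      have hw : PWt K ![η0, η1] θ' (fun _ => ⊥) ({i} : Finset ι) = 0 := by
        rw [pWt_eq]; simp [hθi]
      rcases hst _ {i} hsub hw with ⟨-, h⟩ | ⟨h, -⟩
      · exact Finset.singleton_ne_empty i h
      · exact hbt (congrFun h 0)
    · by_contra hcon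
      have hθi : θ' i = 0 := le_antisymm (not_lt.1 hcon) (hθ' i)
      have hsub : PSubrep t (fun _ => ⊤) (Finset.univ.erase i) := fun j _ k => Submodule.mem_top
      have hw : PWt K ![η0, η1] θ' (fun _ => ⊤) (Finset.univ.erase i) = 0 := by
        have h3 : ∑ j ∈ Finset.univ.erase i, θ' j = ∑ j, θ' j := by
          rw [Finset.sum_erase_eq_sub (Finset.mem_univ i), hθi, sub_zero]
        rw [pWt_eq, h3, fr_top]
        push_cast; linarith
      rcases hst _ _ hsub hw with ⟨h, -⟩ | ⟨-, h⟩
      · exact hbt (congrFun h 0).symm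
      · have : i ∈ Finset.univ.erase i := by rw [h]; exact Finset.mem_univ i
        exact (Finset.notMem_erase i _) this
    · rcases lt_or_eq_of_le (hA I hI) with h | h
      · exact h
      · exfalso
        have hsub : PSubrep t ![⊤, ⊥] I := by
          intro i hi k
          fin_cases k
          · exact Submodule.mem_top
          · show t i 1 ∈ (⊥ : Submodule K K)
            rw [hI i hi]; exact Submodule.zero_mem _
        have hw : PWt K ![η0, η1] θ' ![⊤, ⊥] I = 0 := by
          rw [pWt_pair, fr_top, fr_bot]; push_cast; linarith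
        rcases hst _ _ hsub hw with ⟨h', -⟩ | ⟨h', -⟩
        · exact hbt (congrFun h' 0).symm
        · exact hbt (congrFun h' 1)
    · rcases lt_or_eq_of_le (hB I hI) with h | h
      · exact h
      · exfalso
        have hsub : PSubrep t ![⊥, ⊤] I := by
          intro i hi k
          fin_cases k
          · show t i 0 ∈ (⊥ : Submodule K K)
            rw [hI i hi]; exact Submodule.zero_mem _
          · exact Submodule.mem_top
        have hw : PWt K ![η0, η1] θ' ![⊥, ⊤] I = 0 := by
          rw [pWt_pair, fr_top, fr_bot]; push_cast; linarith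
        rcases hst _ _ hsub hw with ⟨h', -⟩ | ⟨h', -⟩
        · exact hbt (congrFun h' 1).symm
        · exact hbt (congrFun h' 0)
  · rintro ⟨hZ, hT, hA, hB⟩
    have hss : PSemistable ![η0, η1] θ' t :=
      (pSemistable_iff t η0 η1 θ' hθ' hsum).2
        ⟨fun i hi => absurd hi (hZ i), fun I hI => (hA I hI).le, fun I hI => (hB I hI).le⟩
    refine ⟨hss, fun U I hI hw => ?_⟩
    rw [pWt_eq] at hw
    rcases sub_cases (U 0) with ⟨h0, r0⟩ | ⟨h0, r0⟩ <;> rcases sub_cases (U 1) with ⟨h1, r1⟩ | ⟨h1, r1⟩ <;>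
      rw [r0, r1] at hw
    · left
      refine ⟨?_, ?_⟩
      · funext k
        fin_cases k
        · exact h0
        · exact h1
      · rw [Finset.eq_empty_iff_forall_notMem]
        intro i hi
        apply hZ i
        funext k
        fin_cases k
        · have := hI i hi 0; rwa [h0, Submodule.mem_bot] at this
        · have := hI i hi 1; rwa [h1, Submodule.mem_bot] at this
    · exfalso
      have := hB I (fun i hi => by have := hI i hi 0; rwa [h0, Submodule.mem_bot] at this)
      push_cast at hw; linarith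
    · exfalso
      have := hA I (fun i hi => by have := hI i hi 1; rwa [h1, Submodule.mem_bot] at this)
      push_cast at hw; linarith
    · right
      refine ⟨?_, ?_⟩
      · funext k
        fin_cases k
        · exact h0
        · exact h1
      · rw [Finset.eq_univ_iff_forall]
        intro i
        by_contra hi
        have h3 : ∑ j ∈ I, θ' j ≤ ∑ j ∈ Finset.univ.erase i, θ' j :=
          Finset.sum_le_sum_of_subset_of_nonneg
            (fun j hj => Finset.mem_erase.2 ⟨fun h => hi (h ▸ hj), Finset.mem_univ j⟩)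
            (fun j _ _ => hθ' j)
        rw [Finset.sum_erase_eq_sub (Finset.mem_univ i)] at h3
        have := hT i
        push_cast at hw; linarith

theorem mul_nonpos_iff_pos (c y : ℚ) (hc : 0 < c) : c * y ≤ 0 ↔ y ≤ 0 := by
  constructor
  · intro h
    by_contra hy
    have := mul_pos hc (not_le.1 hy)
    linarith
  · intro h
    exact mul_nonpos_of_nonneg_of_nonpos hc.le h

theorem mul_neg_iff_pos (c y : ℚ) (hc : 0 < c) : c * y < 0 ↔ y < 0 := by
  constructor
  · intro h
    by_contra hy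
    have := mul_nonneg hc.le (not_lt.1 hy)
    linarith
  · intro h
    exact mul_neg_of_pos_of_neg hc h

theorem pSemistable_scaled (t : ι → (Fin 2 → K)) (c : ℚ) (hc : 0 < c) (x0 x1 : ℚ) (θ'' : ι → ℚ)
    (hθ'' : ∀ i, 0 ≤ θ'' i) (hsum : x0 + x1 + ∑ i, θ'' i = 0) :
    PSemistable ![c * x0, c * x1] (fun i => c * θ'' i) t ↔
      ((∀ i, t i = 0 → θ'' i = 0) ∧
       (∀ I : Finset ι, (∀ i ∈ I, t i 1 = 0) → x0 + ∑ i ∈ I, θ'' i ≤ 0) ∧
       (∀ I : Finset ι, (∀ i ∈ I, t i 0 = 0) → x1 + ∑ i ∈ I, θ'' i ≤ 0)) := by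
  rw [pSemistable_iff t (c * x0) (c * x1) (fun i => c * θ'' i) (fun i => mul_nonneg hc.le (hθ'' i))
    (by rw [← Finset.mul_sum, ← mul_add, ← mul_add, hsum, mul_zero])]
  have e1 : ∀ i, (c * θ'' i = 0 ↔ θ'' i = 0) := fun i => by
    rw [mul_eq_zero]; constructor
    · rintro (h | h)
      · exact absurd h hc.ne'
      · exact h
    · exact fun h => Or.inr h
  have e2 : ∀ (x : ℚ) (I : Finset ι), (c * x + ∑ i ∈ I, c * θ'' i ≤ 0 ↔ x + ∑ i ∈ I, θ'' i ≤ 0) := fun x I => by
    rw [← Finset.mul_sum, ← mul_add, mul_nonpos_iff_pos _ _ hc]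
  simp only [e1, e2]

theorem pStable_scaled (t : ι → (Fin 2 → K)) (c : ℚ) (hc : 0 < c) (x0 x1 : ℚ) (θ'' : ι → ℚ)
    (hθ'' : ∀ i, 0 ≤ θ'' i) (hsum : x0 + x1 + ∑ i, θ'' i = 0) :
    PStable ![c * x0, c * x1] (fun i => c * θ'' i) t ↔
      ((∀ i, t i ≠ 0) ∧ (∀ i, 0 < θ'' i) ∧
       (∀ I : Finset ι, (∀ i ∈ I, t i 1 = 0) → x0 + ∑ i ∈ I, θ'' i < 0) ∧
       (∀ I : Finset ι, (∀ i ∈ I, t i 0 = 0) → x1 + ∑ i ∈ I, θ'' i < 0)) := by
  rw [pStable_iff t (c * x0) (c * x1) (fun i => c * θ'' i) (fun i => mul_nonneg hc.le (hθ'' i))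
    (by rw [← Finset.mul_sum, ← mul_add, ← mul_add, hsum, mul_zero])]
  have e1 : ∀ i, (0 < c * θ'' i ↔ 0 < θ'' i) := fun i => mul_pos_iff_of_pos_left hc
  have e2 : ∀ (x : ℚ) (I : Finset ι), (c * x + ∑ i ∈ I, c * θ'' i < 0 ↔ x + ∑ i ∈ I, θ'' i < 0) := fun x I => by
    rw [← Finset.mul_sum, ← mul_add, mul_neg_iff_pos _ _ hc]
  simp only [e1, e2]

end P


section Core

variable (a b : κ) (s : κ → (Fin 2 → K)) (θ : κ → ℚ)

omit [Fintype κ] [DecidableEq κ] in
theorem not_both (hli : LinearIndependent K ![s a, s b]) (L : Submodule K (Fin 2 → K))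
    (hL : Module.finrank K L = 1) (ha : s a ∈ L) (hb : s b ∈ L) : False := by
  have hspan : Submodule.span K (Set.range ![s a, s b]) = ⊤ :=
    hli.span_eq_top_of_card_eq_finrank' (by simp)
  have hle : Submodule.span K (Set.range ![s a, s b]) ≤ L := by
    rw [Submodule.span_le]
    rintro _ ⟨i, rfl⟩
    fin_cases i
    · exact ha
    · exact hb
  rw [hspan, top_le_iff] at hle
  rw [hle, finrank_top, Module.finrank_fin_fun] at hL
  omega

omit [Fintype κ] [DecidableEq κ] in
theorem exists_coeffs (hli : LinearIndependent K ![s a, s b]) (v : Fin 2 → K) :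
    ∃ x y : K, v = x • s a + y • s b := by
  have hspan : Submodule.span K (Set.range ![s a, s b]) = ⊤ :=
    hli.span_eq_top_of_card_eq_finrank' (by simp)
  have hv : v ∈ Submodule.span K (Set.range ![s a, s b]) := by rw [hspan]; exact Submodule.mem_top
  have hr : Set.range ![s a, s b] = {s a, s b} := by
    ext w
    simp only [Set.mem_range, Set.mem_insert_iff, Set.mem_singleton_iff]
    constructor
    · rintro ⟨i, rfl⟩
      fin_cases i
      · left; rfl
      · right; rfl
    · rintro (h | h)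
      · exact ⟨0, h.symm⟩
      · exact ⟨1, h.symm⟩
  rw [hr, Submodule.mem_span_pair] at hv
  obtain ⟨x, y, h⟩ := hv
  exact ⟨x, y, h.symm⟩

/-- linear independence from the line condition -/
theorem linIndep_of (hab : a ≠ b) (h1 : ∀ i, θ i ≤ 1) (hθ : 1 < θ a + θ b)
    (hZ : ∀ i, s i = 0 → θ i = 0)
    (hL : ∀ L : Submodule K (Fin 2 → K), Module.finrank K L = 1 → ∀ I : Finset κ, QSubrep s L I →
          ∑ i ∈ I, θ i ≤ 1) : LinearIndependent K ![s a, s b] := by
  by_cases hsa : s a = 0
  · exfalso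
    have := hZ a hsa
    have := h1 b
    linarith
  · rw [LinearIndependent.pair_iff' hsa]
    intro r hr
    have hrank : Module.finrank K (Submodule.span K {s a}) = 1 := finrank_span_singleton hsa
    have hsub : QSubrep s (Submodule.span K {s a}) {a, b} := by
      intro i hi
      rw [Finset.mem_insert, Finset.mem_singleton] at hi
      rcases hi with rfl | rfl
      · exact Submodule.mem_span_singleton_self _
      · rw [← hr]; exact Submodule.smul_mem _ _ (Submodule.mem_span_singleton_self _)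
    have := hL _ hrank _ hsub
    rw [Finset.sum_pair hab] at this
    linarith

variable {p : κ → Prop} [DecidablePred p]

omit [Fintype κ] in
theorem insert_sum (hpa : ¬ p a) (I' : Finset (Subtype p)) :
    ∑ i ∈ insert a (I'.map (Function.Embedding.subtype p)), θ i = θ a + ∑ i ∈ I', θ i.1 := by
  rw [Finset.sum_insert, Finset.sum_map]
  · rfl
  · rw [Finset.mem_map]
    rintro ⟨j, -, hj⟩
    apply hpa
    rw [← hj]
    exact j.2

omit [Fintype κ] in
theorem insert_subrep (I' : Finset (Subtype p)) (x : Subtype p → K)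
    (hs : ∀ i ∈ I', s i.1 = x i • s a) :
    QSubrep s (Submodule.span K {s a}) (insert a (I'.map (Function.Embedding.subtype p))) := by
  intro i hi
  rw [Finset.mem_insert, Finset.mem_map] at hi
  rcases hi with rfl | ⟨j, hj, rfl⟩
  · exact Submodule.mem_span_singleton_self _
  · show s j.1 ∈ _
    rw [hs j hj]
    exact Submodule.smul_mem _ _ (Submodule.mem_span_singleton_self _)

omit [Fintype κ] in
theorem line_decomp (hp : ∀ i, p i ↔ i ≠ a ∧ i ≠ b) (L : Submodule K (Fin 2 → K)) (I : Finset κ)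
    (hI : QSubrep s L I) (haI : a ∈ I) (hbL : s b ∉ L) (x t : Subtype p → K)
    (hs : ∀ i : Subtype p, s i.1 = x i • s a + t i • s b) :
    (∀ i ∈ I.subtype p, t i = 0) ∧ ∑ i ∈ I, θ i = θ a + ∑ i ∈ I.subtype p, θ i.1 := by
  have haL : s a ∈ L := hI a haI
  have hbI : b ∉ I := fun h => hbL (hI b h)
  refine ⟨fun i hi => ?_, ?_⟩
  · rw [Finset.mem_subtype] at hi
    have h1 : s i.1 ∈ L := hI _ hi
    by_contra hti
    apply hbL
    have h2 : t i • s b ∈ L := by
      have : t i • s b = s i.1 - x i • s a := by rw [hs i]; abel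
      rw [this]
      exact Submodule.sub_mem _ h1 (Submodule.smul_mem _ _ haL)
    have h3 : s b = (t i)⁻¹ • (t i • s b) := by rw [smul_smul, inv_mul_cancel₀ hti, one_smul]
    rw [h3]
    exact Submodule.smul_mem _ _ h2
  · rw [Finset.sum_subtype_eq_sum_filter]
    have hfe : I.filter p = I.erase a := by
      ext i
      rw [Finset.mem_filter, Finset.mem_erase, hp i]
      constructor
      · rintro ⟨h1, h2, -⟩
        exact ⟨h2, h1⟩
      · rintro ⟨h1, h2⟩
        exact ⟨h2, h1, fun h => hbI (h ▸ h2)⟩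
    rw [hfe, Finset.add_sum_erase _ _ haI]

theorem sum_le_of_notMem (hab : a ≠ b) (h0 : ∀ i, 0 ≤ θ i) (h2 : ∑ i, θ i = 2) (I : Finset κ)
    (haI : a ∉ I) (hbI : b ∉ I) : ∑ i ∈ I, θ i ≤ 2 - θ a - θ b := by
  have hsub : I ⊆ (Finset.univ.erase a).erase b := by
    intro i hi
    rw [Finset.mem_erase, Finset.mem_erase]
    exact ⟨fun h => hbI (h ▸ hi), fun h => haI (h ▸ hi), Finset.mem_univ i⟩
  have h3 := Finset.sum_le_sum_of_subset_of_nonneg hsub (f := θ) (fun j _ _ => h0 j)
  rw [Finset.sum_erase_eq_sub (Finset.mem_erase.2 ⟨hab.symm, Finset.mem_univ b⟩),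
    Finset.sum_erase_eq_sub (Finset.mem_univ a), h2] at h3
  exact h3

theorem sum_subtype_compl (hab : a ≠ b) (h2 : ∑ i, θ i = 2) [Fintype (Subtype p)]
    (hp : ∀ i, p i ↔ i ≠ a ∧ i ≠ b) : ∑ i : Subtype p, θ i.1 = 2 - θ a - θ b := by
  rw [← Finset.sum_subtype ((Finset.univ.erase a).erase b) (p := p) (by
    intro i
    rw [Finset.mem_erase, Finset.mem_erase, hp i]
    simp [and_comm]) θ]
  rw [Finset.sum_erase_eq_sub (Finset.mem_erase.2 ⟨hab.symm, Finset.mem_univ b⟩),
    Finset.sum_erase_eq_sub (Finset.mem_univ a), h2]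

end Core


section Main

variable (a b : κ) (s : κ → (Fin 2 → K)) (θ : κ → ℚ)

theorem core_ss (hab : a ≠ b) (h0 : ∀ i, 0 ≤ θ i) (h1 : ∀ i, θ i ≤ 1) (h2 : ∑ i, θ i = 2)
    (hθ : 1 < θ a + θ b) :
    ((∀ i, s i = 0 → θ i = 0) ∧
        ∀ L : Submodule K (Fin 2 → K), Module.finrank K L = 1 → ∀ I : Finset κ, QSubrep s L I →
          ∑ i ∈ I, θ i ≤ 1) ↔
      (LinearIndependent K ![s a, s b] ∧
        ∀ t : {i : κ // i ≠ a ∧ i ≠ b} → (Fin 2 → K),
          (∀ i, s i.1 = t i 0 • s a + t i 1 • s b) →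
            ((∀ i, t i = 0 → θ i.1 = 0) ∧
             (∀ I : Finset {i : κ // i ≠ a ∧ i ≠ b}, (∀ i ∈ I, t i 1 = 0) →
                (θ a - 1) + ∑ i ∈ I, θ i.1 ≤ 0) ∧
             (∀ I : Finset {i : κ // i ≠ a ∧ i ≠ b}, (∀ i ∈ I, t i 0 = 0) →
                (θ b - 1) + ∑ i ∈ I, θ i.1 ≤ 0))) := by
  have hpa : ¬ (a ≠ a ∧ a ≠ b) := fun h => h.1 rfl
  have hpb : ¬ (b ≠ a ∧ b ≠ b) := fun h => h.2 rfl
  constructor
  · rintro ⟨hZ, hL⟩
    have hli := linIndep_of a b s θ hab h1 hθ hZ hL
    refine ⟨hli, fun t hs => ⟨fun i hi => ?_, fun I' hI' => ?_, fun I' hI' => ?_⟩⟩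
    · apply hZ
      rw [hs i, hi]; simp
    · have hsa : s a ≠ 0 := hli.ne_zero 0
      have hrank : Module.finrank K (Submodule.span K {s a}) = 1 := finrank_span_singleton hsa
      have hsub := insert_subrep a s (p := fun i => i ≠ a ∧ i ≠ b) I' (fun i => t i 0)
        (fun i hi => by rw [hs i, hI' i hi]; simp)
      have := hL _ hrank _ hsub
      rw [insert_sum a θ hpa] at this
      linarith
    · have hsb : s b ≠ 0 := hli.ne_zero 1
      have hrank : Module.finrank K (Submodule.span K {s b}) = 1 := finrank_span_singleton hsb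
      have hsub := insert_subrep b s (p := fun i => i ≠ a ∧ i ≠ b) I' (fun i => t i 1)
        (fun i hi => by rw [hs i, hI' i hi]; simp)
      have := hL _ hrank _ hsub
      rw [insert_sum b θ hpb] at this
      linarith
  · rintro ⟨hli, ht⟩
    have hex : ∀ i : {i : κ // i ≠ a ∧ i ≠ b}, ∃ x y : K, s i.1 = x • s a + y • s b :=
      fun i => exists_coeffs a b s hli (s i.1)
    choose x y hxy using hex
    obtain ⟨hZ', hA, hB⟩ := ht (fun i => ![x i, y i]) hxy
    have hpair := LinearIndependent.pair_iff.1 hli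
    refine ⟨fun i hi => ?_, fun L hL I hI => ?_⟩
    · by_cases hia : i = a
      · exact absurd (hia ▸ hi) (hli.ne_zero 0)
      by_cases hib : i = b
      · exact absurd (hib ▸ hi) (hli.ne_zero 1)
      have h3 := hxy ⟨i, hia, hib⟩
      simp only at h3
      rw [hi] at h3
      obtain ⟨hx0, hy0⟩ := hpair _ _ h3.symm
      apply hZ' ⟨i, hia, hib⟩
      funext k
      fin_cases k
      · exact hx0
      · exact hy0
    · by_cases haI : a ∈ I
      · have hbL : s b ∉ L := fun h => not_both a b s hli L hL (hI a haI) h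
        obtain ⟨e1, e2⟩ := line_decomp a b s θ (p := fun i => i ≠ a ∧ i ≠ b) (fun i => Iff.rfl) L I hI haI hbL
          x y hxy
        have := hA (I.subtype _) e1
        rw [e2]; linarith
      by_cases hbI : b ∈ I
      · have haL : s a ∉ L := fun h => not_both a b s hli L hL h (hI b hbI)
        obtain ⟨e1, e2⟩ := line_decomp b a s θ (p := fun i => i ≠ a ∧ i ≠ b) (fun i => and_comm) L I hI hbI haL
          y x (fun i => by rw [hxy i, add_comm])
        have := hB (I.subtype _) e1
        rw [e2]; linarith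
      · have := sum_le_of_notMem a b θ hab h0 h2 I haI hbI
        linarith

theorem core_st (hab : a ≠ b) (h0 : ∀ i, 0 ≤ θ i) (h1 : ∀ i, θ i ≤ 1) (h2 : ∑ i, θ i = 2)
    (hθ : 1 < θ a + θ b) :
    ((∀ i, s i ≠ 0) ∧ (∀ i, 0 < θ i) ∧
        ∀ L : Submodule K (Fin 2 → K), Module.finrank K L = 1 → ∀ I : Finset κ, QSubrep s L I →
          ∑ i ∈ I, θ i < 1) ↔
      (LinearIndependent K ![s a, s b] ∧
        ∀ t : {i : κ // i ≠ a ∧ i ≠ b} → (Fin 2 → K),
          (∀ i, s i.1 = t i 0 • s a + t i 1 • s b) →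
            ((∀ i, t i ≠ 0) ∧ (∀ i : {i : κ // i ≠ a ∧ i ≠ b}, 0 < θ i.1) ∧
             (∀ I : Finset {i : κ // i ≠ a ∧ i ≠ b}, (∀ i ∈ I, t i 1 = 0) →
                (θ a - 1) + ∑ i ∈ I, θ i.1 < 0) ∧
             (∀ I : Finset {i : κ // i ≠ a ∧ i ≠ b}, (∀ i ∈ I, t i 0 = 0) →
                (θ b - 1) + ∑ i ∈ I, θ i.1 < 0))) := by
  have hpa : ¬ (a ≠ a ∧ a ≠ b) := fun h => h.1 rfl
  have hpb : ¬ (b ≠ a ∧ b ≠ b) := fun h => h.2 rfl
  constructor
  · rintro ⟨hZ, hT, hL⟩
    have hli := linIndep_of a b s θ hab h1 hθ (fun i hi => absurd hi (hZ i))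
      (fun L hL' I hI => (hL L hL' I hI).le)
    refine ⟨hli, fun t hs => ⟨fun i hi => ?_, fun i => hT i.1, fun I' hI' => ?_, fun I' hI' => ?_⟩⟩
    · apply hZ i.1
      rw [hs i, hi]; simp
    · have hsa : s a ≠ 0 := hli.ne_zero 0
      have hrank : Module.finrank K (Submodule.span K {s a}) = 1 := finrank_span_singleton hsa
      have hsub := insert_subrep a s (p := fun i => i ≠ a ∧ i ≠ b) I' (fun i => t i 0)
        (fun i hi => by rw [hs i, hI' i hi]; simp)
      have := hL _ hrank _ hsub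
      rw [insert_sum a θ hpa] at this
      linarith
    · have hsb : s b ≠ 0 := hli.ne_zero 1
      have hrank : Module.finrank K (Submodule.span K {s b}) = 1 := finrank_span_singleton hsb
      have hsub := insert_subrep b s (p := fun i => i ≠ a ∧ i ≠ b) I' (fun i => t i 1)
        (fun i hi => by rw [hs i, hI' i hi]; simp)
      have := hL _ hrank _ hsub
      rw [insert_sum b θ hpb] at this
      linarith
  · rintro ⟨hli, ht⟩
    have hex : ∀ i : {i : κ // i ≠ a ∧ i ≠ b}, ∃ x y : K, s i.1 = x • s a + y • s b :=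
      fun i => exists_coeffs a b s hli (s i.1)
    choose x y hxy using hex
    obtain ⟨hZ', hT', hA, hB⟩ := ht (fun i => ![x i, y i]) hxy
    have hpair := LinearIndependent.pair_iff.1 hli
    have hθa : θ a < 1 := by
      have := hA ∅ (fun i hi => absurd hi (Finset.notMem_empty i))
      simpa using this
    have hθb : θ b < 1 := by
      have := hB ∅ (fun i hi => absurd hi (Finset.notMem_empty i))
      simpa using this
    refine ⟨fun i hi => ?_, fun i => ?_, fun L hL I hI => ?_⟩
    · by_cases hia : i = a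
      · exact absurd (hia ▸ hi) (hli.ne_zero 0)
      by_cases hib : i = b
      · exact absurd (hib ▸ hi) (hli.ne_zero 1)
      have h3 := hxy ⟨i, hia, hib⟩
      simp only at h3
      rw [hi] at h3
      obtain ⟨hx0, hy0⟩ := hpair _ _ h3.symm
      apply hZ' ⟨i, hia, hib⟩
      funext k
      fin_cases k
      · exact hx0
      · exact hy0
    · by_cases hia : i = a
      · rw [hia]; linarith
      by_cases hib : i = b
      · rw [hib]; linarith
      exact hT' ⟨i, hia, hib⟩
    · by_cases haI : a ∈ I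
      · have hbL : s b ∉ L := fun h => not_both a b s hli L hL (hI a haI) h
        obtain ⟨e1, e2⟩ := line_decomp a b s θ (p := fun i => i ≠ a ∧ i ≠ b) (fun i => Iff.rfl) L I hI haI hbL
          x y hxy
        have := hA (I.subtype _) e1
        rw [e2]; linarith
      by_cases hbI : b ∈ I
      · have haL : s a ∉ L := fun h => not_both a b s hli L hL h (hI b hbI)
        obtain ⟨e1, e2⟩ := line_decomp b a s θ (p := fun i => i ≠ a ∧ i ≠ b) (fun i => and_comm) L I hI hbI haL
          y x (fun i => by rw [hxy i, add_comm])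
        have := hB (I.subtype _) e1
        rw [e2]; linarith
      · have := sum_le_of_notMem a b θ hab h0 h2 I haI hbI
        linarith

end Main

end H27PtQuiv
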