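import Mathlib
import Groth.Prelude.Def_Mor2

set_option autoImplicit false
universe u

/-!
# Quasi-affine morphisms: composition
-/

namespace Groth.Agent.Lib.helper27.QAffComp

open CategoryTheory AlgebraicGeometry TopologicalSpace Opposite

/-- Key local step: if the open `U = X.basicOpen b` (as a scheme) is quasi-affine and `X` is qcqs, then every point
of `U` lies in an affine basic open `X.basicOpen r` of a global section. -/
theorem exists_basicOpen_of_basicOpen_isQuasiAffine {X : Scheme.{u}} [CompactSpace X] [QuasiSeparatedSpace X]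
    (b : Γ(X, ⊤)) (hq : Scheme.IsQuasiAffine (X.basicOpen b : Scheme.{u})) (x : X) (hx : x ∈ X.basicOpen b) :
    ∃ r : Γ(X, ⊤), IsAffineOpen (X.basicOpen r) ∧ x ∈ X.basicOpen r := by
  set U : X.Opens := X.basicOpen b with hU
  obtain ⟨_, ⟨_, ⟨s, hs, rfl⟩, rfl⟩, hxs, -⟩ := (Scheme.IsQuasiAffine.isBasis_basicOpen (U : Scheme.{u})).exists_subset_of_mem_open
    (Set.mem_univ (⟨x, hx⟩ : U)) isOpen_univ
  -- the image of the affine basic open in X
  have haff : IsAffineOpen (U.ι ''ᵁ (U : Scheme.{u}).basicOpen s) := hs.image_of_isOpenImmersion U.ι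
  rw [Scheme.Opens.ι_image_basicOpen'] at haff
  set s' : Γ(X, U) := X.presheaf.map (eqToHom U.ι_image_top.symm).op s with hs'
  have hxs' : x ∈ X.basicOpen s' := by
    have h1 : (U.ι ⟨x, hx⟩ : X) ∈ U.ι ''ᵁ (U : Scheme.{u}).basicOpen s := ⟨⟨x, hx⟩, hxs, rfl⟩
    rw [Scheme.Opens.ι_image_basicOpen'] at h1
    exact h1
  obtain ⟨n, y, hy⟩ := exists_eq_pow_mul_of_isCompact_of_isQuasiSeparated X ⊤ isCompact_univ isQuasiSeparated_univ b s'
  refine ⟨y * b, ?_, ?_⟩
  · have key : X.basicOpen (y * b) = X.basicOpen s' := by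
      rw [Scheme.basicOpen_mul, inf_comm]
      have h1 : X.basicOpen (y |_ X.basicOpen b) = X.basicOpen b ⊓ X.basicOpen y := Scheme.basicOpen_res _ _ _
      rw [← h1, hy, Scheme.basicOpen_mul]
      have hunit : IsUnit ((b |_ X.basicOpen b) ^ n) := (RingedSpace.isUnit_res_basicOpen _ b).pow n
      rw [Scheme.basicOpen_of_isUnit _ hunit]
      exact inf_eq_right.mpr (Scheme.basicOpen_le _ _)
    rw [key]; exact haff
  · have key : X.basicOpen (y * b) = X.basicOpen s' := by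
      rw [Scheme.basicOpen_mul, inf_comm]
      have h1 : X.basicOpen (y |_ X.basicOpen b) = X.basicOpen b ⊓ X.basicOpen y := Scheme.basicOpen_res _ _ _
      rw [← h1, hy, Scheme.basicOpen_mul]
      have hunit : IsUnit ((b |_ X.basicOpen b) ^ n) := (RingedSpace.isUnit_res_basicOpen _ b).pow n
      rw [Scheme.basicOpen_of_isUnit _ hunit]
      exact inf_eq_right.mpr (Scheme.basicOpen_le _ _)
    rw [key]; exact hxs'

/-- A morphism whose preimages of affine opens are quasi-affine schemes is quasi-separated. -/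
theorem quasiSeparated_of_forall_isQuasiAffine {X Y : Scheme.{u}} (h : X ⟶ Y)
    (H : ∀ V : Y.Opens, IsAffineOpen V → Scheme.IsQuasiAffine (h ⁻¹ᵁ V : Scheme.{u})) :
    QuasiSeparated h := by
  rw [HasAffineProperty.eq_targetAffineLocally (P := @QuasiSeparated)]
  intro U
  have := H U.1 U.2
  show QuasiSeparatedSpace (h ⁻¹ᵁ U.1 : Scheme.{u})
  infer_instance

/-- A scheme with a quasi-affine morphism to a quasi-affine scheme is quasi-affine. -/
theorem isQuasiAffine_of_hom {X W : Scheme.{u}} (f : X ⟶ W) [W.IsQuasiAffine] [QuasiCompact f]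
    (H : ∀ U : W.Opens, IsAffineOpen U → Scheme.IsQuasiAffine (f ⁻¹ᵁ U : Scheme.{u})) : X.IsQuasiAffine := by
  have : CompactSpace X := QuasiCompact.compactSpace_of_compactSpace f
  have : QuasiSeparated f := quasiSeparated_of_forall_isQuasiAffine f H
  have : QuasiSeparatedSpace X := quasiSeparatedSpace_of_quasiSeparated f
  refine .of_forall_exists_mem_basicOpen _ fun x => ?_
  obtain ⟨_, ⟨_, ⟨a, ha, rfl⟩, rfl⟩, hxa, -⟩ := (Scheme.IsQuasiAffine.isBasis_basicOpen W).exists_subset_of_mem_open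
    (Set.mem_univ (f x)) isOpen_univ
  have hq := H (W.basicOpen a) ha
  rw [Scheme.preimage_basicOpen_top] at hq
  refine exists_basicOpen_of_basicOpen_isQuasiAffine (f.appTop a) hq x ?_
  rw [← Scheme.preimage_basicOpen_top]
  exact hxa

theorem isQuasiAffine_of_iso {A B : Scheme.{u}} (e : A ≅ B) [B.IsQuasiAffine] : A.IsQuasiAffine :=
  Scheme.IsQuasiAffine.of_isAffineHom e.hom

theorem comp_main {X Y Z : Scheme.{u}} (f : X ⟶ Y) (g : Y ⟶ Z) (hf : Mor2.IsQuasiAffine f) (hg : Mor2.IsQuasiAffine g) :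
    Mor2.IsQuasiAffine (f ≫ g) := by
  have hfqc : QuasiCompact f := hf.1
  have hgqc : QuasiCompact g := hg.1
  refine ⟨inferInstance, fun V hV => ?_⟩
  have hW : Scheme.IsQuasiAffine (g ⁻¹ᵁ V : Scheme.{u}) := hg.2 V hV
  change Scheme.IsQuasiAffine (f ⁻¹ᵁ (g ⁻¹ᵁ V) : Scheme.{u})
  refine isQuasiAffine_of_hom (f ∣_ (g ⁻¹ᵁ V)) fun U hU => ?_
  have hU' : IsAffineOpen ((g ⁻¹ᵁ V).ι ''ᵁ U) := hU.image_of_isOpenImmersion _
  have h1 : Scheme.IsQuasiAffine (f ⁻¹ᵁ ((g ⁻¹ᵁ V).ι ''ᵁ U) : Scheme.{u}) := hf.2 _ hU'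
  have e := morphismRestrictRestrict f (g ⁻¹ᵁ V) U
  exact @isQuasiAffine_of_iso _ _ (Arrow.leftFunc.mapIso e) h1

end Groth.Agent.Lib.helper27.QAffComp
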