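import Mathlib
import Groth.Prelude.Def_Mor2
import Groth.Agent.Lib.helper27.QAffComp
import Groth.Agent.S10967

/-!
# Quasi-affine morphisms: base change and cancellation
-/

set_option autoImplicit false
universe u

namespace Groth.Agent.Lib.helper27.QAffBC

open CategoryTheory CategoryTheory.Limits AlgebraicGeometry TopologicalSpace Opposite

/-- Refining an open `U` by affine opens mapping into affine opens. -/
theorem exists_affine_refinement {Y Z : Scheme.{u}} (g : Y ⟶ Z) (U : Y.Opens) (y : Y) (hy : y ∈ U) :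
    ∃ (W : Y.Opens) (V : Z.Opens), IsAffineOpen W ∧ IsAffineOpen V ∧ y ∈ W ∧ W ≤ U ∧ W ≤ g ⁻¹ᵁ V := by
  obtain ⟨_, ⟨V, hV, rfl⟩, hyV, -⟩ := Z.isBasis_affineOpens.exists_subset_of_mem_open (Set.mem_univ (g y)) isOpen_univ
  have hy' : y ∈ (U ⊓ g ⁻¹ᵁ V : Y.Opens) := ⟨hy, hyV⟩
  obtain ⟨_, ⟨W, hW, rfl⟩, hyW, hWle⟩ := Y.isBasis_affineOpens.exists_subset_of_mem_open hy' (U ⊓ g ⁻¹ᵁ V).2
  exact ⟨W, V, hW, hV, hyW, fun z hz => (hWle hz).1, fun z hz => (hWle hz).2⟩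

/-- The preimage of an affine open is quasi-affine as soon as this holds on an affine open cover of it. -/
theorem isQuasiAffine_preimage_of_cover {A B : Scheme.{u}} (h : A ⟶ B) (U : B.Opens) (hU : IsAffineOpen U)
    {ι : Type u} (W : ι → B.Opens) (hWU : ∀ i, W i ≤ U) (hW : ∀ i, IsAffineOpen (W i))
    (hcov : ∀ y ∈ U, ∃ i, y ∈ W i)
    (hq : ∀ i, Scheme.IsQuasiAffine (h ⁻¹ᵁ W i : Scheme.{u})) : Scheme.IsQuasiAffine (h ⁻¹ᵁ U : Scheme.{u}) := by
  have : IsAffine (U : Scheme.{u}) := hU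
  have himg : ∀ i, U.ι ''ᵁ (U.ι ⁻¹ᵁ W i) = W i := by
    intro i
    rw [Scheme.Hom.image_preimage_eq_opensRange_inf, Scheme.Opens.opensRange_ι]
    exact inf_eq_right.mpr (hWU i)
  refine Groth.Agent.S10967.result (h ∣_ U) (fun i => U.ι ⁻¹ᵁ W i) ?_ ?_ ?_
  · rw [eq_top_iff]
    intro z _
    obtain ⟨i, hi⟩ := hcov z.1 z.2
    exact Opens.mem_iSup.mpr ⟨i, hi⟩
  · intro i
    refine (hW i).preimage_of_isOpenImmersion U.ι ?_
    rw [Scheme.Opens.opensRange_ι]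
    exact hWU i
  · intro i
    have e := morphismRestrictRestrict h U (U.ι ⁻¹ᵁ W i)
    have h1 : Scheme.IsQuasiAffine (h ⁻¹ᵁ (U.ι ''ᵁ (U.ι ⁻¹ᵁ W i)) : Scheme.{u}) := by
      rw [himg i]; exact hq i
    exact @QAffComp.isQuasiAffine_of_iso _ _ (Arrow.leftFunc.mapIso e) h1

/-- Cancellation: if `f ≫ g` is quasi-affine and `g` is quasi-separated then `f` is quasi-affine. -/
theorem of_comp_main {X Y Z : Scheme.{u}} (f : X ⟶ Y) (g : Y ⟶ Z) [QuasiSeparated g]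
    (h : Mor2.IsQuasiAffine (f ≫ g)) : Mor2.IsQuasiAffine f := by
  have hqc : QuasiCompact (f ≫ g) := h.1
  have hfqc : QuasiCompact f := QuasiCompact.of_comp f g
  refine ⟨hfqc, fun U hU => ?_⟩
  choose! W V hWa hVa hyW hWU hWV using fun (y : Y) (hy : y ∈ U) => exists_affine_refinement g U y hy
  refine isQuasiAffine_preimage_of_cover f U hU (ι := U) (fun y => W y.1) (fun y => hWU y.1 y.2)
    (fun y => hWa y.1 y.2) (fun y hy => ⟨⟨y, hy⟩, hyW y hy⟩) fun y => ?_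
  have hq : Scheme.IsQuasiAffine ((f ≫ g) ⁻¹ᵁ V y.1 : Scheme.{u}) := h.2 _ (hVa y.1 y.2)
  have hle : f ⁻¹ᵁ W y.1 ≤ (f ≫ g) ⁻¹ᵁ V y.1 := fun x hx => hWV y.1 y.2 hx
  have : CompactSpace (f ⁻¹ᵁ W y.1 : Scheme.{u}) :=
    isCompact_iff_compactSpace.mp (f.isCompact_preimage (hWa y.1 y.2).isCompact)
  exact @Scheme.IsQuasiAffine.of_isImmersion _ _ (X.homOfLE hle) hq inferInstance inferInstance

/-- Base change of a quasi-affine preimage along an affine scheme mapping into an affine open. -/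
theorem isQuasiAffine_of_isPullback_of_factor {X Y Q W : Scheme.{u}} (f : X ⟶ Y) (V : Y.Opens)
    (hq : Scheme.IsQuasiAffine (f ⁻¹ᵁ V : Scheme.{u})) (hV : IsAffineOpen V) [IsAffine W]
    (a : Q ⟶ X) (b : Q ⟶ W) (c' : W ⟶ V) (sq : IsPullback a b f (c' ≫ V.ι)) : Q.IsQuasiAffine := by
  have : IsAffine (V : Scheme.{u}) := hV
  have hR := (isPullback_morphismRestrict f V).flip
  let l : Q ⟶ (f ⁻¹ᵁ V : Scheme.{u}) := hR.lift a (b ≫ c') (by rw [Category.assoc]; exact sq.w)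
  have hl1 : l ≫ (f ⁻¹ᵁ V).ι = a := hR.lift_fst _ _ _
  have hl2 : l ≫ f ∣_ V = b ≫ c' := hR.lift_snd _ _ _
  have sq' : IsPullback l b (f ∣_ V) c' := IsPullback.of_right (by rw [hl1]; exact sq) hl2 hR
  have : IsAffineHom l := MorphismProperty.of_isPullback (P := @IsAffineHom) sq'.flip inferInstance
  exact Scheme.IsQuasiAffine.of_isAffineHom l

/-- Quasi-affine morphisms are stable under base change. -/
theorem baseChange_main {X Y Y' : Scheme.{u}} (f : X ⟶ Y) (hf : Mor2.IsQuasiAffine f) (g : Y' ⟶ Y) :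
    Mor2.IsQuasiAffine (pullback.snd f g) := by
  have hfqc : QuasiCompact f := hf.1
  refine ⟨inferInstance, fun U hU => ?_⟩
  choose! W V hWa hVa hyW hWU hWV using fun (y : Y') (hy : y ∈ U) => exists_affine_refinement g U y hy
  refine isQuasiAffine_preimage_of_cover (pullback.snd f g) U hU (ι := U) (fun y => W y.1) (fun y => hWU y.1 y.2)
    (fun y => hWa y.1 y.2) (fun y hy => ⟨⟨y, hy⟩, hyW y hy⟩) fun y => ?_
  have : IsAffine (W y.1 : Scheme.{u}) := hWa y.1 y.2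
  have hR := (isPullback_morphismRestrict (pullback.snd f g) (W y.1)).flip
  have hP := IsPullback.of_hasPullback f g
  have sq := hR.paste_horiz hP
  refine isQuasiAffine_of_isPullback_of_factor f (V y.1) (hf.2 _ (hVa y.1 y.2)) (hVa y.1 y.2)
    ((pullback.snd f g ⁻¹ᵁ W y.1).ι ≫ pullback.fst f g) (pullback.snd f g ∣_ W y.1)
    (g.resLE (V y.1) (W y.1) (hWV y.1 y.2)) ?_
  rw [Scheme.Hom.resLE_comp_ι]
  exact sq

end Groth.Agent.Lib.helper27.QAffBC
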