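import Mathlib

/-!
# Abstract rank-one commutation calculus (SL₂-type identities from the commutation rule)
-/

namespace Groth.Agent.Lib.helper27.RankOneAbs

/-- Abstract rank one system: root group parametrisations `Pp, Pm : R → Γ`, a torus `I : Θ →* Γ` with a character
`χ` and cocharacter `ν`, and the commutation rule `F`. -/
structure Sys (Γ Θ R : Type*) [Group Γ] [Group Θ] [CommRing R] where
  Pp : R → Γ
  Pm : R → Γ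
  I : Θ →* Γ
  χ : Θ →* Rˣ
  ν : Rˣ →* Θ
  χν : ∀ u, χ (ν u) = u ^ 2
  Pp_add : ∀ a b, Pp (a + b) = Pp a * Pp b
  Pm_add : ∀ a b, Pm (a + b) = Pm a * Pm b
  Tp : ∀ t a, I t * Pp a * (I t)⁻¹ = Pp ((χ t : R) * a)
  Tm : ∀ t a, I t * Pm a * (I t)⁻¹ = Pm ((((χ t)⁻¹ : Rˣ) : R) * a)
  F : ∀ (a b : R) (u : Rˣ), (u : R) = 1 + a * b →
    Pp a * Pm b = Pm (((u⁻¹ : Rˣ) : R) * b) * I (ν u) * Pp (((u⁻¹ : Rˣ) : R) * a)

namespace Sys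

variable {Γ Θ R : Type*} [Group Γ] [Group Θ] [CommRing R] (s : Sys Γ Θ R)

theorem Pp_zero : s.Pp 0 = 1 := by
  have h := s.Pp_add 0 0
  rw [add_zero] at h
  have h2 : s.Pp 0 * s.Pp 0 = s.Pp 0 * 1 := by rw [mul_one]; exact h.symm
  exact mul_left_cancel h2

theorem Pm_zero : s.Pm 0 = 1 := by
  have h := s.Pm_add 0 0
  rw [add_zero] at h
  have h2 : s.Pm 0 * s.Pm 0 = s.Pm 0 * 1 := by rw [mul_one]; exact h.symm
  exact mul_left_cancel h2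

theorem Pp_neg (a : R) : s.Pp (-a) = (s.Pp a)⁻¹ := by
  apply eq_inv_of_mul_eq_one_left
  rw [← s.Pp_add, neg_add_cancel, s.Pp_zero]

theorem Pm_neg (a : R) : s.Pm (-a) = (s.Pm a)⁻¹ := by
  apply eq_inv_of_mul_eq_one_left
  rw [← s.Pm_add, neg_add_cancel, s.Pm_zero]

/-- Moving a torus element past `Pp`. -/
theorem I_Pp (t : Θ) (a : R) : s.I t * s.Pp a = s.Pp ((s.χ t : R) * a) * s.I t := by
  rw [← s.Tp t a]; group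

theorem I_Pm (t : Θ) (a : R) : s.I t * s.Pm a = s.Pm ((((s.χ t)⁻¹ : Rˣ) : R) * a) * s.I t := by
  rw [← s.Tm t a]; group

theorem Pp_I (t : Θ) (a : R) : s.Pp a * s.I t = s.I t * s.Pp ((((s.χ t)⁻¹ : Rˣ) : R) * a) := by
  rw [s.I_Pp, ← mul_assoc, Units.mul_inv, one_mul]

theorem Pm_I (t : Θ) (a : R) : s.Pm a * s.I t = s.I t * s.Pm ((s.χ t : R) * a) := by
  rw [s.I_Pm, ← mul_assoc, Units.inv_mul, one_mul]

/-- The reversed commutation rule. -/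
theorem rev (a b : R) (u : Rˣ) (h : (u : R) = 1 + a * b) :
    s.Pm b * s.Pp a = s.Pp (((u⁻¹ : Rˣ) : R) * a) * (s.I (s.ν u))⁻¹ * s.Pm (((u⁻¹ : Rˣ) : R) * b) := by
  have h' : (u : R) = 1 + (-a) * (-b) := by rw [h]; ring
  have e := s.F (-a) (-b) u h'
  rw [mul_neg, mul_neg, s.Pp_neg, s.Pm_neg, s.Pp_neg, s.Pm_neg] at e
  have e2 := congrArg (fun g => g⁻¹) e
  simp only [mul_inv_rev, inv_inv] at e2
  rw [e2, mul_assoc]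

/-- The coroot through the root groups. -/
theorem coroot (z : Rˣ) :
    s.I (s.ν z) = s.Pm (((z⁻¹ : Rˣ) : R) - 1) * s.Pp 1 * s.Pm ((z : R) - 1) * s.Pp (-((z⁻¹ : Rˣ) : R)) := by
  have h : (z : R) = 1 + 1 * ((z : R) - 1) := by ring
  have e := s.F 1 ((z : R) - 1) z h
  have e1 : ((z⁻¹ : Rˣ) : R) * ((z : R) - 1) = 1 - ((z⁻¹ : Rˣ) : R) := by
    rw [mul_sub, Units.inv_mul, mul_one]
  rw [e1, mul_one] at e
  rw [mul_assoc (s.Pm _) (s.Pp 1), e, s.Pp_neg]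
  have e3 : ((z⁻¹ : Rˣ) : R) - 1 = -(1 - ((z⁻¹ : Rˣ) : R)) := by ring
  rw [e3, s.Pm_neg]
  group

/-- Torus elements commute with the coroot image. -/
theorem I_comm (t : Θ) (z : Rˣ) : s.I t * s.I (s.ν z) = s.I (s.ν z) * s.I t := by
  have key : s.I t * s.I (s.ν z) * (s.I t)⁻¹ = s.I (s.ν z) := by
    have hc : s.I t * (s.Pm (((z⁻¹ : Rˣ) : R) - 1) * s.Pp 1 * s.Pm ((z : R) - 1) * s.Pp (-((z⁻¹ : Rˣ) : R))) *
        (s.I t)⁻¹ =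
        (s.I t * s.Pm (((z⁻¹ : Rˣ) : R) - 1) * (s.I t)⁻¹) * (s.I t * s.Pp 1 * (s.I t)⁻¹) *
          (s.I t * s.Pm ((z : R) - 1) * (s.I t)⁻¹) * (s.I t * s.Pp (-((z⁻¹ : Rˣ) : R)) * (s.I t)⁻¹) := by
      group
    conv_lhs => rw [s.coroot z]
    rw [hc, s.Tm, s.Tp, s.Tm, s.Tp]
    set c := s.χ t with hcdef
    have h : (z : R) = 1 + ((c : R) * 1) * (((c⁻¹ : Rˣ) : R) * ((z : R) - 1)) := by
      have : (c : R) * ((c⁻¹ : Rˣ) : R) = 1 := Units.mul_inv c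
      linear_combination (-(z : R) + 1) * this
    have e := s.F ((c : R) * 1) (((c⁻¹ : Rˣ) : R) * ((z : R) - 1)) z h
    rw [mul_assoc (s.Pm _) (s.Pp _), e]
    have e5 : s.Pm (((c⁻¹ : Rˣ) : R) * (((z⁻¹ : Rˣ) : R) - 1)) *
        (s.Pm (((z⁻¹ : Rˣ) : R) * (((c⁻¹ : Rˣ) : R) * ((z : R) - 1))) * s.I (s.ν z) *
          s.Pp (((z⁻¹ : Rˣ) : R) * ((c : R) * 1))) * s.Pp ((c : R) * -((z⁻¹ : Rˣ) : R)) =
        (s.Pm (((c⁻¹ : Rˣ) : R) * (((z⁻¹ : Rˣ) : R) - 1)) *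
          s.Pm (((z⁻¹ : Rˣ) : R) * (((c⁻¹ : Rˣ) : R) * ((z : R) - 1)))) * s.I (s.ν z) *
          (s.Pp (((z⁻¹ : Rˣ) : R) * ((c : R) * 1)) * s.Pp ((c : R) * -((z⁻¹ : Rˣ) : R))) := by
      group
    rw [e5, ← s.Pm_add, ← s.Pp_add]
    have e6 : ((c⁻¹ : Rˣ) : R) * (((z⁻¹ : Rˣ) : R) - 1) +
        ((z⁻¹ : Rˣ) : R) * (((c⁻¹ : Rˣ) : R) * ((z : R) - 1)) = 0 := by
      have : ((z⁻¹ : Rˣ) : R) * (z : R) = 1 := Units.inv_mul z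
      linear_combination ((c⁻¹ : Rˣ) : R) * this
    have e7 : ((z⁻¹ : Rˣ) : R) * ((c : R) * 1) + (c : R) * -((z⁻¹ : Rˣ) : R) = 0 := by ring
    rw [e6, e7, s.Pm_zero, s.Pp_zero, one_mul, mul_one]
  calc s.I t * s.I (s.ν z) = (s.I t * s.I (s.ν z) * (s.I t)⁻¹) * s.I t := by group
    _ = s.I (s.ν z) * s.I t := by rw [key]

/-- The Weyl element `w(x) = p₊(x) p₋(-x⁻¹) p₊(x)`. -/
def w (x : Rˣ) : Γ := s.Pp (x : R) * s.Pm (-((x⁻¹ : Rˣ) : R)) * s.Pp (x : R)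

theorem w_mul (x y : Rˣ) : s.w x * s.w y = s.I (s.ν (-x * y⁻¹)) := by
  set u : Rˣ := -x * y⁻¹ with hu
  have huv : (u : R) = -((x : R) * ((y⁻¹ : Rˣ) : R)) := by
    rw [hu]; push_cast; ring
  have huinv : ((u⁻¹ : Rˣ) : R) = -((y : R) * ((x⁻¹ : Rˣ) : R)) := by
    have : u⁻¹ = -y * x⁻¹ := by
      rw [hu]
      rw [mul_inv_rev, inv_inv, inv_neg]
      rw [mul_neg, neg_mul]
    rw [this]; push_cast; ring
  have hyy : (y : R) * ((y⁻¹ : Rˣ) : R) = 1 := Units.mul_inv y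
  have hxx : (x : R) * ((x⁻¹ : Rˣ) : R) = 1 := Units.mul_inv x
  have h : (u : R) = 1 + ((x : R) + (y : R)) * (-((y⁻¹ : Rˣ) : R)) := by
    rw [huv]; linear_combination hyy
  have e := s.F ((x : R) + (y : R)) (-((y⁻¹ : Rˣ) : R)) u h
  have e1 : ((u⁻¹ : Rˣ) : R) * (-((y⁻¹ : Rˣ) : R)) = ((x⁻¹ : Rˣ) : R) := by
    rw [huinv]; linear_combination ((x⁻¹ : Rˣ) : R) * hyy
  rw [e1] at e
  have hstep : s.w x * s.w y = s.Pp (x : R) * s.Pm (-((x⁻¹ : Rˣ) : R)) *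
      (s.Pp ((x : R) + (y : R)) * s.Pm (-((y⁻¹ : Rˣ) : R))) * s.Pp (y : R) := by
    unfold w
    rw [s.Pp_add]; group
  rw [hstep, e, s.Pm_neg]
  have hstep2 : s.Pp (x : R) * (s.Pm ((x⁻¹ : Rˣ) : R))⁻¹ *
      (s.Pm ((x⁻¹ : Rˣ) : R) * s.I (s.ν u) * s.Pp (((u⁻¹ : Rˣ) : R) * ((x : R) + (y : R)))) * s.Pp (y : R) =
      s.Pp (x : R) * (s.I (s.ν u) * (s.Pp (((u⁻¹ : Rˣ) : R) * ((x : R) + (y : R))) * s.Pp (y : R))) := by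
    group
  rw [hstep2, ← s.Pp_add, s.I_Pp, s.χν, ← mul_assoc, ← s.Pp_add]
  have e2 : (x : R) + ((u ^ 2 : Rˣ) : R) * (((u⁻¹ : Rˣ) : R) * ((x : R) + (y : R)) + (y : R)) = 0 := by
    push_cast
    rw [huinv, huv]
    linear_combination (-(x : R) * ((y⁻¹ : Rˣ) : R) ^ 2 * (y : R) ^ 2 -
      (x : R) ^ 2 * ((y⁻¹ : Rˣ) : R) ^ 2 * (y : R)) * hxx +
      (-(x : R) * ((y : R) * ((y⁻¹ : Rˣ) : R) + 1)) * hyy
  rw [e2, s.Pp_zero, one_mul]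

theorem w_sq (x : Rˣ) : s.w x ^ 2 = s.I (s.ν (-1)) := by
  rw [pow_two, s.w_mul]
  congr 2
  rw [neg_mul, mul_inv_cancel]

theorem w_smul_left (z x : Rˣ) : s.w (z * x) = s.I (s.ν z) * s.w x := by
  have h1 : s.w (z * x) * s.w x = s.I (s.ν z) * s.w x * s.w x := by
    rw [s.w_mul, mul_assoc, s.w_mul, ← map_mul, ← map_mul]
    congr 2
    rw [neg_mul, mul_assoc, mul_inv_cancel, mul_one, neg_mul, mul_inv_cancel, mul_neg, mul_one]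
  exact mul_right_cancel h1

theorem w_smul_right (z x : Rˣ) : s.w (z * x) = s.w x * (s.I (s.ν z))⁻¹ := by
  have h1 : s.w x * s.w (z * x) = s.w x * (s.w x * (s.I (s.ν z))⁻¹) := by
    rw [s.w_mul, ← mul_assoc, s.w_mul, ← map_inv, ← map_inv, ← map_mul, ← map_mul]
    congr 2
    rw [mul_inv_rev, neg_mul, neg_mul, mul_inv_cancel, ← mul_assoc, mul_inv_cancel, one_mul, neg_mul, one_mul]
  exact mul_left_cancel h1

theorem conj_w (t : Θ) (x : Rˣ) : (s.I t)⁻¹ * s.w x * s.I t = s.w ((s.χ t)⁻¹ * x) := by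
  have h1 : (s.I t)⁻¹ = s.I t⁻¹ := (map_inv s.I t).symm
  have hc : (s.I t)⁻¹ * s.w x * s.I t =
      (s.I t⁻¹ * s.Pp (x : R) * (s.I t⁻¹)⁻¹) * (s.I t⁻¹ * s.Pm (-((x⁻¹ : Rˣ) : R)) * (s.I t⁻¹)⁻¹) *
        (s.I t⁻¹ * s.Pp (x : R) * (s.I t⁻¹)⁻¹) := by
    unfold w
    rw [← h1]; group
  rw [hc, s.Tp, s.Tm]
  unfold w
  have e1 : ((s.χ t⁻¹ : Rˣ) : R) * (x : R) = (((s.χ t)⁻¹ * x : Rˣ) : R) := by
    rw [map_inv]; push_cast; rfl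
  have e2 : (((s.χ t⁻¹)⁻¹ : Rˣ) : R) * -((x⁻¹ : Rˣ) : R) = -(((((s.χ t)⁻¹ * x)⁻¹ : Rˣ)) : R) := by
    rw [map_inv, inv_inv, mul_inv_rev, inv_inv]; push_cast; ring
  rw [e1, e2]

/-- The Weyl element normalises the torus. -/
theorem w_conj (t : Θ) (x : Rˣ) : s.w x * s.I t * (s.w x)⁻¹ = (s.I (s.ν (s.χ t)))⁻¹ * s.I t := by
  have h := s.conj_w t x
  rw [s.w_smul_left, map_inv, map_inv] at h
  have h2 : s.w x * s.I t = s.I t * (s.I (s.ν (s.χ t)))⁻¹ * s.w x := by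
    calc s.w x * s.I t = s.I t * ((s.I t)⁻¹ * s.w x * s.I t) := by group
      _ = s.I t * (s.I (s.ν (s.χ t)))⁻¹ * s.w x := by rw [h]; group
  have hcomm : s.I t * (s.I (s.ν (s.χ t)))⁻¹ = (s.I (s.ν (s.χ t)))⁻¹ * s.I t := by
    have := s.I_comm t (s.χ t)
    calc s.I t * (s.I (s.ν (s.χ t)))⁻¹
        = (s.I (s.ν (s.χ t)))⁻¹ * (s.I (s.ν (s.χ t)) * s.I t) * (s.I (s.ν (s.χ t)))⁻¹ := by group
      _ = (s.I (s.ν (s.χ t)))⁻¹ * (s.I t * s.I (s.ν (s.χ t))) * (s.I (s.ν (s.χ t)))⁻¹ := by rw [this]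
      _ = (s.I (s.ν (s.χ t)))⁻¹ * s.I t := by group
  rw [h2, hcomm]; group

/-- Product of two big cell elements. -/
theorem bigcell (y x y' x' : R) (t t' : Θ) (u : Rˣ) (hu : (u : R) = 1 + x * y') :
    (s.Pm y * s.I t * s.Pp x) * (s.Pm y' * s.I t' * s.Pp x') =
      s.Pm (y + (((s.χ t)⁻¹ : Rˣ) : R) * (((u⁻¹ : Rˣ) : R) * y')) * s.I (t * s.ν u * t') *
        s.Pp ((((s.χ t')⁻¹ : Rˣ) : R) * (((u⁻¹ : Rˣ) : R) * x) + x') := by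
  have e := s.F x y' u hu
  calc (s.Pm y * s.I t * s.Pp x) * (s.Pm y' * s.I t' * s.Pp x')
      = s.Pm y * s.I t * (s.Pp x * s.Pm y') * s.I t' * s.Pp x' := by group
    _ = s.Pm y * (s.I t * s.Pm (((u⁻¹ : Rˣ) : R) * y')) * s.I (s.ν u) *
          (s.Pp (((u⁻¹ : Rˣ) : R) * x) * s.I t') * s.Pp x' := by rw [e]; group
    _ = s.Pm y * (s.Pm ((((s.χ t)⁻¹ : Rˣ) : R) * (((u⁻¹ : Rˣ) : R) * y')) * s.I t) * s.I (s.ν u) *
          (s.I t' * s.Pp ((((s.χ t')⁻¹ : Rˣ) : R) * (((u⁻¹ : Rˣ) : R) * x))) * s.Pp x' := by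
        rw [s.I_Pm, s.Pp_I]
    _ = (s.Pm y * s.Pm ((((s.χ t)⁻¹ : Rˣ) : R) * (((u⁻¹ : Rˣ) : R) * y'))) * (s.I t * s.I (s.ν u) * s.I t') *
          (s.Pp ((((s.χ t')⁻¹ : Rˣ) : R) * (((u⁻¹ : Rˣ) : R) * x)) * s.Pp x') := by group
    _ = _ := by rw [← s.Pm_add, ← s.Pp_add, ← map_mul, ← map_mul]

end Sys

end Groth.Agent.Lib.helper27.RankOneAbs
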