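import Mathlib
import Groth.Prelude.Def_GmPts
import Groth.Agent.Lib.helper27.GaPts
import Groth.Agent.Lib.helper27.RankOneAbs

/-!
# Bridge: the rank-one hypotheses of the `Red.rankOne_*` rows give an abstract `RankOneAbs.Sys`
-/

universe u

open CategoryTheory CategoryTheory.Limits MonoidalCategory CartesianMonoidalCategory MonObj AlgebraicGeometry Opposite

noncomputable section

namespace Groth.Agent.Lib.helper27.RankOneBridge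

open Groth.Agent.Lib.helper27

variable {S : Scheme.{u}} {G T : Over S} [GrpObj G] [GrpObj T] (i : T ⟶ G) [IsMonHom i]
    (α : T ⟶ Red.Gm S) [IsMonHom α]
    (pp pm : Red.Ga S ⟶ G) [IsMonHom pp] [IsMonHom pm]
    (hpp : ∀ (X : Over S) (t : X ⟶ T) (x : X ⟶ Red.Ga S), ∃ x' : X ⟶ Red.Ga S,
      x' ≫ pp = (t ≫ i) * (x ≫ pp) * (t ≫ i)⁻¹ ∧ Red.gaFn x' = Red.gmFn (t ≫ α) * Red.gaFn x)
    (hpm : ∀ (X : Over S) (t : X ⟶ T) (y : X ⟶ Red.Ga S), ∃ y' : X ⟶ Red.Ga S,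
      y' ≫ pm = (t ≫ i) * (y ≫ pm) * (t ≫ i)⁻¹ ∧ Red.gaFn y' * Red.gmFn (t ≫ α) = Red.gaFn y)
    (av : Red.Gm S ⟶ T) [IsMonHom av] (h2 : av ≫ α = (𝟙 (Red.Gm S)) ^ 2)
    (hF : ∀ (X : Over S) (x y : X ⟶ Red.Ga S), IsUnit (1 + Red.gaFn x * Red.gaFn y) →
      ∃ (x' y' : X ⟶ Red.Ga S) (z : X ⟶ Red.Gm S), Red.gmFn z = 1 + Red.gaFn x * Red.gaFn y ∧
        Red.gaFn x' * Red.gmFn z = Red.gaFn x ∧ Red.gaFn y' * Red.gmFn z = Red.gaFn y ∧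
        (x ≫ pp) * (y ≫ pm) = (y' ≫ pm) * (z ≫ av ≫ i) * (x' ≫ pp))
    (X : Over S)

theorem pt_eq_of_gaFn {x : X ⟶ Red.Ga S} {a : Γ(X.left, ⊤)} (h : Red.gaFn x = a) : x = GaPts.ptOfElt a := by
  rw [← h, GaPts.ptOfElt_gaFn]

theorem pt_eq_of_gmFn {z : X ⟶ Red.Gm S} {u : (Γ(X.left, ⊤))ˣ} (h : Red.gmFn z = (u : Γ(X.left, ⊤))) :
    z = GmPts.ptOfUnit u := by
  have : GmPts.unitOfPt z = u := Units.ext h
  rw [← this, GmPts.ptOfUnit_unitOfPt]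

include hpp hpm h2 hF in
/-- The abstract rank one system of `X`-valued points. -/
def mkSys : RankOneAbs.Sys (X ⟶ G) (X ⟶ T) Γ(X.left, ⊤) where
  Pp a := GaPts.ptOfElt a ≫ pp
  Pm a := GaPts.ptOfElt a ≫ pm
  I :=
    { toFun := fun t => t ≫ i
      map_one' := MonObj.one_comp i
      map_mul' := fun a b => MonObj.mul_comp a b i }
  χ :=
    { toFun := fun t => GmPts.unitOfPt (t ≫ α)
      map_one' := by rw [MonObj.one_comp α]; exact GmPts.unitOfPt_one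
      map_mul' := fun a b => by rw [MonObj.mul_comp a b α]; exact GmPts.unitOfPt_mul _ _ }
  ν :=
    { toFun := fun u => GmPts.ptOfUnit u ≫ av
      map_one' := by rw [GmPts.ptOfUnit_one, MonObj.one_comp]
      map_mul' := fun a b => by rw [GmPts.ptOfUnit_mul, MonObj.mul_comp] }
  χν u := by
    change GmPts.unitOfPt ((GmPts.ptOfUnit u ≫ av) ≫ α) = u ^ 2
    rw [Category.assoc, h2, MonObj.comp_pow, Category.comp_id]
    have := map_pow (GmPts.equiv X) (GmPts.ptOfUnit u) 2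
    rw [GmPts.equiv_apply, GmPts.equiv_apply, GmPts.unitOfPt_ptOfUnit] at this
    exact this
  Pp_add a b := by rw [GaPts.ptOfElt_add, MonObj.mul_comp]
  Pm_add a b := by rw [GaPts.ptOfElt_add, MonObj.mul_comp]
  Tp t a := by
    obtain ⟨x', h1, h3⟩ := hpp X t (GaPts.ptOfElt a)
    rw [GaPts.gaFn_ptOfElt] at h3
    change (t ≫ i) * (GaPts.ptOfElt a ≫ pp) * (t ≫ i)⁻¹ =
      GaPts.ptOfElt ((GmPts.unitOfPt (t ≫ α) : Γ(X.left, ⊤)) * a) ≫ pp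
    rw [← h1, pt_eq_of_gaFn X h3]
    rfl
  Tm t a := by
    obtain ⟨y', h1, h3⟩ := hpm X t (GaPts.ptOfElt a)
    rw [GaPts.gaFn_ptOfElt] at h3
    change (t ≫ i) * (GaPts.ptOfElt a ≫ pm) * (t ≫ i)⁻¹ =
      GaPts.ptOfElt ((((GmPts.unitOfPt (t ≫ α))⁻¹ : (Γ(X.left, ⊤))ˣ) : Γ(X.left, ⊤)) * a) ≫ pm
    have h4 : Red.gaFn y' = (((GmPts.unitOfPt (t ≫ α))⁻¹ : (Γ(X.left, ⊤))ˣ) : Γ(X.left, ⊤)) * a := by
      rw [← h3]
      change _ = _ * (Red.gaFn y' * (GmPts.unitOfPt (t ≫ α) : Γ(X.left, ⊤)))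
      rw [mul_comm (Red.gaFn y'), ← _root_.mul_assoc, Units.inv_mul, _root_.one_mul]
    rw [← h1, pt_eq_of_gaFn X h4]
  F a b u hu := by
    have hunit : IsUnit (1 + Red.gaFn (GaPts.ptOfElt a : X ⟶ Red.Ga S) * Red.gaFn (GaPts.ptOfElt b : X ⟶ Red.Ga S)) := by
      rw [GaPts.gaFn_ptOfElt, GaPts.gaFn_ptOfElt, ← hu]
      exact u.isUnit
    obtain ⟨x', y', z, hz, hx', hy', heq⟩ := hF X (GaPts.ptOfElt a) (GaPts.ptOfElt b) hunit
    rw [GaPts.gaFn_ptOfElt, GaPts.gaFn_ptOfElt, ← hu] at hz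
    rw [GaPts.gaFn_ptOfElt, hz] at hx' hy'
    have hx'' : Red.gaFn x' = ((u⁻¹ : (Γ(X.left, ⊤))ˣ) : Γ(X.left, ⊤)) * a := by
      rw [← hx', mul_comm (Red.gaFn x'), ← _root_.mul_assoc, Units.inv_mul, _root_.one_mul]
    have hy'' : Red.gaFn y' = ((u⁻¹ : (Γ(X.left, ⊤))ˣ) : Γ(X.left, ⊤)) * b := by
      rw [← hy', mul_comm (Red.gaFn y'), ← _root_.mul_assoc, Units.inv_mul, _root_.one_mul]
    change (GaPts.ptOfElt a ≫ pp) * (GaPts.ptOfElt b ≫ pm) =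
      (GaPts.ptOfElt _ ≫ pm) * ((GmPts.ptOfUnit u ≫ av) ≫ i) * (GaPts.ptOfElt _ ≫ pp)
    rw [heq, pt_eq_of_gaFn X hx'', pt_eq_of_gaFn X hy'', pt_eq_of_gmFn X hz, Category.assoc]

end Groth.Agent.Lib.helper27.RankOneBridge
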