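import Mathlib
import Groth.Prelude.Def_RelProj

set_option autoImplicit false
universe u

namespace Groth.Agent.Lib.helper27.RelProjMap
open CategoryTheory CategoryTheory.Limits AlgebraicGeometry Opposite TopologicalSpace
open scoped HomogeneousIdeal

theorem restrict_of_resLE (P : MorphismProperty Scheme.{u}) [P.RespectsIso] {X Y : Scheme.{u}}
    (f : X ⟶ Y) (U : Y.Opens) (V : X.Opens) (hV : f ⁻¹ᵁ U = V) (H : P (f.resLE U V hV.ge)) :
    P (f ∣_ U) := by
  subst hV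
  rwa [Scheme.Hom.resLE_eq_morphismRestrict] at H

section projmap
variable {A B : Type u} [CommRing A] [CommRing B] {𝒜 : ℕ → AddSubgroup A} {ℬ : ℕ → AddSubgroup B}
  [GradedRing 𝒜] [GradedRing ℬ] (f : 𝒜 →+*ᵍ ℬ) (hf : (ℬ)₊ ≤ ((𝒜)₊).map f)

set_option backward.isDefEq.respectTransparency false in
/-- `Proj.map` is compatible with the structure morphisms to `Spec` of the degree-zero parts. -/
theorem map_toSpecZero :
    Proj.map f hf ≫ Proj.toSpecZero 𝒜 =
      Proj.toSpecZero ℬ ≫ Spec.map (CommRingCat.ofHom f.gradedZeroRingHom) := by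
  refine (Proj.mapAffineOpenCover f hf).openCover.hom_ext _ _ fun s ↦ ?_
  simp only [Scheme.AffineOpenCover.openCover_f, Proj.mapAffineOpenCover_f]
  rw [Proj.awayι_comp_map_assoc f hf s.1.2 _ s.2.2, Proj.awayι_toSpecZero,
    Proj.awayι_toSpecZero_assoc, ← Spec.map_comp, ← Spec.map_comp]
  congr 1
  ext x
  simp [HomogeneousLocalization.fromZeroRingHom, HomogeneousLocalization.Away.map,
    HomogeneousLocalization.map_mk]

theorem resLE_basicOpen {i : ℕ} (hi : 0 < i) (s : A) (hs : s ∈ 𝒜 i) :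
    (Proj.map f hf).resLE (Proj.basicOpen 𝒜 s) (Proj.basicOpen ℬ (f s))
        (Proj.map_preimage_basicOpen f hf s).ge =
      (Proj.basicOpenIsoSpec ℬ (f s) (f.map_mem hs) hi).hom ≫
        Spec.map (CommRingCat.ofHom (HomogeneousLocalization.Away.map f s)) ≫
          (Proj.basicOpenIsoSpec 𝒜 s hs hi).inv := by
  rw [← cancel_mono (Proj.basicOpen 𝒜 s).ι, Scheme.Hom.resLE_comp_ι]
  simp only [Category.assoc]
  rw [Proj.basicOpenIsoSpec_inv_ι, ← Proj.awayι_comp_map f hf hi s hs, Proj.awayι,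
    Category.assoc, Iso.hom_inv_id_assoc]

/-- A property local at the target holds for `Proj.map f` as soon as it holds for all
`Spec (Away.map f s)`. -/
theorem map_of_away (P : MorphismProperty Scheme.{u}) [IsZariskiLocalAtTarget P]
    (H : ∀ (i : ℕ) (s : A), 0 < i → s ∈ 𝒜 i →
      P (Spec.map (CommRingCat.ofHom (HomogeneousLocalization.Away.map f s)))) :
    P (Proj.map f hf) := by
  classical
  have hcov : ⨆ i : (Σ i : PNat, 𝒜 i), Proj.basicOpen 𝒜 (i.2 : A) = ⊤ := by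
    apply Proj.iSup_basicOpen_eq_top
    intro z hz
    rw [← DirectSum.sum_support_decompose 𝒜 z]
    refine Ideal.sum_mem _ fun c hc ↦ if hc0 : c = 0 then ?_ else
      Ideal.subset_span ⟨⟨⟨c, Nat.pos_iff_ne_zero.mpr hc0⟩, _⟩, rfl⟩
    subst hc0
    have : (DirectSum.decompose 𝒜 z 0 : A) = 0 := (HomogeneousIdeal.mem_irrelevant_iff 𝒜 z).mp hz
    rw [this]
    exact Ideal.zero_mem _
  rw [IsZariskiLocalAtTarget.iff_of_iSup_eq_top (P := P) _ hcov]
  intro i
  refine restrict_of_resLE P _ _ _ (Proj.map_preimage_basicOpen f hf (i.2 : A)) ?_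
  rw [resLE_basicOpen f hf i.1.2 (i.2 : A) i.2.2,
    P.cancel_left_of_respectsIso, P.cancel_right_of_respectsIso]
  exact H _ _ i.1.2 i.2.2

end projmap

section rel
variable {Y PA PB : Scheme.{u}} {𝒜 ℬ : RelProj.QCGrAlg Y}
    (φ : 𝒜.toQCAlg ⟶ ℬ.toQCAlg) (hφ : RelProj.IsGradedHom φ)
    (hirr : ∀ (U : Y.Opens) (hU : IsAffineOpen U),
      (ℬ.deg U hU)₊ ≤ ((𝒜.deg U hU)₊).map (RelProj.gradedHomAt φ hφ U hU))
    (pA : PA ⟶ Y) (pB : PB ⟶ Y)
    (chartA : ∀ (U : Y.Opens) (hU : IsAffineOpen U), (((pA ⁻¹ᵁ U : PA.Opens) : Scheme.{u}) ≅ Proj (𝒜.deg U hU)))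
    (chartB : ∀ (U : Y.Opens) (hU : IsAffineOpen U), (((pB ⁻¹ᵁ U : PB.Opens) : Scheme.{u}) ≅ Proj (ℬ.deg U hU)))

theorem strZero_comp (U : Y.Opens) (hU : IsAffineOpen U) :
    𝒜.strZero U hU ≫ CommRingCat.ofHom (RelProj.gradedHomAt φ hφ U hU).gradedZeroRingHom =
      ℬ.strZero U hU := by
  ext r
  have := congr(($(φ.comm).app (op U)).hom r)
  exact this

variable {φ hφ hirr pA pB chartA chartB}

theorem comp_eq (hA : RelProj.IsRelProj 𝒜 pA chartA) (hB : RelProj.IsRelProj ℬ pB chartB)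
    (h : PB ⟶ PA) (hh : RelProj.IsRelProjMap φ hφ hirr chartA chartB h) : h ≫ pA = pB := by
  have hc : IsOpenCover (fun i : Y.affineOpens => pB ⁻¹ᵁ i.1) := by
    change (⨆ i : Y.affineOpens, pB ⁻¹ᵁ i.1) = ⊤
    rw [← Scheme.Hom.preimage_iSup, iSup_affineOpens_eq_top]
    rfl
  refine (PB.openCoverOfIsOpenCover _ hc).hom_ext _ _ fun i => ?_
  change (pB ⁻¹ᵁ i.1).ι ≫ h ≫ pA = (pB ⁻¹ᵁ i.1).ι ≫ pB
  rw [← Category.assoc, hh i.1 i.2, Category.assoc, Category.assoc, Category.assoc,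
    ← hA.chart_over i.1 i.2, ← hB.chart_over i.1 i.2, Iso.inv_hom_id_assoc,
    ← Category.assoc (Proj.map _ _), map_toSpecZero, Category.assoc, ← Spec.map_comp_assoc,
    strZero_comp]

/-- A property local at the target holds for the morphism of relative Proj's as soon as it
holds chartwise. -/
theorem relProjMap_of_local (P : MorphismProperty Scheme.{u}) [IsZariskiLocalAtTarget P]
    (hA : RelProj.IsRelProj 𝒜 pA chartA) (hB : RelProj.IsRelProj ℬ pB chartB)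
    (h : PB ⟶ PA) (hh : RelProj.IsRelProjMap φ hφ hirr chartA chartB h)
    (H : ∀ (U : Y.Opens) (hU : IsAffineOpen U),
      P (Proj.map (RelProj.gradedHomAt φ hφ U hU) (hirr U hU))) : P h := by
  have hcomp := comp_eq hA hB h hh
  have hc : (⨆ i : Y.affineOpens, pA ⁻¹ᵁ i.1) = ⊤ := by
    rw [← Scheme.Hom.preimage_iSup, iSup_affineOpens_eq_top]
    rfl
  rw [IsZariskiLocalAtTarget.iff_of_iSup_eq_top (P := P) _ hc]
  intro i
  have hV : h ⁻¹ᵁ (pA ⁻¹ᵁ i.1) = pB ⁻¹ᵁ i.1 := by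
    rw [← Scheme.Hom.comp_preimage, hcomp]
  refine restrict_of_resLE P _ _ _ hV ?_
  have key : h.resLE (pA ⁻¹ᵁ i.1) (pB ⁻¹ᵁ i.1) hV.ge =
      (chartB i.1 i.2).hom ≫ Proj.map (RelProj.gradedHomAt φ hφ i.1 i.2) (hirr i.1 i.2) ≫
        (chartA i.1 i.2).inv := by
    rw [← cancel_mono (pA ⁻¹ᵁ i.1).ι, Scheme.Hom.resLE_comp_ι, hh i.1 i.2]
    simp only [Category.assoc]
  rw [key, P.cancel_left_of_respectsIso, P.cancel_right_of_respectsIso]
  exact H i.1 i.2

end rel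

end Groth.Agent.Lib.helper27.RelProjMap
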