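import Mathlib
import Groth.Prelude.Def_W4c1hurwitzcptBd

/-! helper lemmas for the `RootDisk` Crimp rows -/

namespace Groth.Agent.Lib.helper27.RootDiskLib
open PowerSeries W4c1hurwitzcpt

/-- closedness criterion for `M = R·1 + R·y + J` with `J` an ideal of the big ring -/
lemma closed_iff' {R D : Type*} [CommRing R] [CommRing D] [Algebra R D] (y : D) (J : Submodule R D)
    (hJ : ∀ j ∈ J, ∀ d : D, j * d ∈ J) (M : Submodule R D)
    (hM : M = Submodule.span R {(1 : D), y} ⊔ J) :
    (∀ a ∈ M, ∀ b ∈ M, a * b ∈ M) ↔ y * y ∈ M := by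
  have hyM : y ∈ M := by
    rw [hM]; exact Submodule.mem_sup_left (Submodule.subset_span (by simp))
  have h1M : (1 : D) ∈ M := by
    rw [hM]; exact Submodule.mem_sup_left (Submodule.subset_span (by simp))
  have hJM : J ≤ M := by rw [hM]; exact le_sup_right
  constructor
  · intro h; exact h y hyM y hyM
  · intro hyy
    have hpair : ∀ a ∈ Submodule.span R {(1 : D), y}, ∀ b ∈ Submodule.span R {(1 : D), y},
        a * b ∈ M := by
      intro a ha b hb
      rw [Submodule.mem_span_pair] at ha hb
      obtain ⟨α, β, rfl⟩ := ha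
      obtain ⟨γ, δ, rfl⟩ := hb
      have : (α • (1 : D) + β • y) * (γ • 1 + δ • y) =
          (α * γ) • (1 : D) + (α * δ + β * γ) • y + (β * δ) • (y * y) := by
        simp only [Algebra.smul_def, map_mul, map_add]
        ring
      rw [this]
      exact Submodule.add_mem _ (Submodule.add_mem _ (Submodule.smul_mem _ _ h1M)
        (Submodule.smul_mem _ _ hyM)) (Submodule.smul_mem _ _ hyy)
    intro a ha b hb
    have ha' := ha
    have hb' := hb
    rw [hM, Submodule.mem_sup] at ha' hb'
    obtain ⟨a1, ha1, a2, ha2, rfl⟩ := ha'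
    obtain ⟨b1, hb1, b2, hb2, rfl⟩ := hb'
    have : (a1 + a2) * (b1 + b2) = a1 * b1 + b2 * a1 + a2 * (b1 + b2) := by ring
    rw [this]
    exact Submodule.add_mem _ (Submodule.add_mem _ (hpair a1 ha1 b1 hb1) (hJM (hJ b2 hb2 a1)))
      (hJM (hJ a2 ha2 _))

variable {k : Type*} [Field k] {p : ℕ} [NeZero p]

lemma val_smul (r : PowerSeries k) (d : RootDisk p k) :
    RootDisk.val (r • d) = PowerSeries.expand p (NeZero.ne p) r * RootDisk.val d := by
  rw [Algebra.smul_def, map_mul]; rfl

/-- the order obstruction: `E₁ + E₂ X^m G` with `E_i` in the image of `expand p` and `G` a unit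
has order `≡ 0` or `m` mod `p` -/
lemma order_obstruction (r1 r2 G : PowerSeries k) (m N : ℕ) (hpm : ¬ p ∣ m) (hG : G.order = 0)
    (h : (PowerSeries.expand p (NeZero.ne p) r1 + PowerSeries.expand p (NeZero.ne p) r2 * (X ^ m * G)).order = (N : ℕ∞)) :
    (∃ a : ℕ, N = p * a) ∨ (∃ b : ℕ, N = p * b + m) := by
  have ho1 : (PowerSeries.expand p (NeZero.ne p) r1).order = p • r1.order := order_expand _ _ _
  have ho2 : (PowerSeries.expand p (NeZero.ne p) r2 * (X ^ m * G)).order = p • r2.order + m := by
    rw [order_mul, order_mul, order_expand, order_X_pow, hG, add_zero]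
  by_cases h1 : r1 = 0
  · subst h1
    rw [map_zero, zero_add] at h
    by_cases h2 : r2 = 0
    · subst h2; simp at h
    · rw [ho2] at h
      obtain ⟨b, hb⟩ : ∃ b : ℕ, r2.order = b := by
        have := order_finite_iff_ne_zero.2 h2
        exact ⟨r2.order.toNat, (ENat.natCast_toNat this.ne).symm⟩
      right
      refine ⟨b, ?_⟩
      rw [hb] at h
      have : ((p * b + m : ℕ) : ℕ∞) = (N : ℕ∞) := by rw [← h]; push_cast; simp [nsmul_eq_mul]
      exact_mod_cast this.symm
  · obtain ⟨a, ha⟩ : ∃ a : ℕ, r1.order = a := by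
      have := order_finite_iff_ne_zero.2 h1
      exact ⟨r1.order.toNat, (ENat.natCast_toNat this.ne).symm⟩
    by_cases h2 : r2 = 0
    · subst h2
      rw [map_zero, zero_mul, add_zero, ho1, ha] at h
      left
      refine ⟨a, ?_⟩
      have : ((p * a : ℕ) : ℕ∞) = (N : ℕ∞) := by rw [← h]; push_cast; simp [nsmul_eq_mul]
      exact_mod_cast this.symm
    · obtain ⟨b, hb⟩ : ∃ b : ℕ, r2.order = b := by
        have := order_finite_iff_ne_zero.2 h2
        exact ⟨r2.order.toNat, (ENat.natCast_toNat this.ne).symm⟩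
      rw [ha] at ho1
      rw [hb] at ho2
      have e1 : (p • (a : ℕ∞)) = ((p * a : ℕ) : ℕ∞) := by push_cast; simp [nsmul_eq_mul]
      have e2 : (p • (b : ℕ∞) + (m : ℕ∞)) = ((p * b + m : ℕ) : ℕ∞) := by
        push_cast; simp [nsmul_eq_mul]
      rw [e1] at ho1
      rw [e2] at ho2
      have hne : p * a ≠ p * b + m := by
        intro hne
        apply hpm
        exact (Nat.dvd_add_right (dvd_mul_right p b)).1 (hne ▸ dvd_mul_right p a)
      · have hne' : (PowerSeries.expand p (NeZero.ne p) r1).order ≠
            (PowerSeries.expand p (NeZero.ne p) r2 * (X ^ m * G)).order := by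
          rw [ho1, ho2]; exact_mod_cast hne
        rw [order_add_of_order_ne _ _ hne', ho1, ho2] at h
        rcases le_total (p * a) (p * b + m) with hle | hle
        · left
          refine ⟨a, ?_⟩
          rw [min_eq_left (by exact_mod_cast hle)] at h
          exact_mod_cast h.symm
        · right
          refine ⟨b, ?_⟩
          rw [min_eq_right (by exact_mod_cast hle)] at h
          exact_mod_cast h.symm

end Groth.Agent.Lib.helper27.RootDiskLib
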