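import Mathlib

/-!
# Segre products: the Reynolds operator `a ⊗ b ↦ Σ_n a_n ⊗ b_n` on `R ⊗ S` for graded `R`, `S`.
(helper27)
-/

set_option autoImplicit false
universe u
open scoped TensorProduct

namespace Groth.Agent.Lib.helper27.SegreLib

open DirectSum

section
variable {k : Type u} [Field k] {R : Type u} [CommRing R] [Algebra k R]
  (𝒜 : ℤ → Submodule k R) [GradedAlgebra 𝒜]
  {S : Type u} [CommRing S] [Algebra k S] (ℬ : ℤ → Submodule k S) [GradedAlgebra ℬ]

/-- the degree-`n` piece of the Reynolds operator: `𝒜 n → S → R ⊗ S`, `a ↦ b ↦ a ⊗ b_n`. -/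
noncomputable def reyPiece (n : ℤ) : 𝒜 n →ₗ[k] S →ₗ[k] R ⊗[k] S :=
  LinearMap.mk₂ k (fun (a : 𝒜 n) (b : S) => (a : R) ⊗ₜ[k] GradedAlgebra.proj ℬ n b)
    (fun a a' b => by simp [TensorProduct.add_tmul])
    (fun c a b => by simp [TensorProduct.smul_tmul'])
    (fun a b b' => by simp [TensorProduct.tmul_add])
    (fun c a b => by simp)

/-- Reynolds operator `R ⊗ S → R ⊗ S`, `a ⊗ b ↦ Σ_n a_n ⊗ b_n`. -/
noncomputable def rey : R ⊗[k] S →ₗ[k] R ⊗[k] S :=
  TensorProduct.lift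
    ((DirectSum.toModule k ℤ (S →ₗ[k] R ⊗[k] S) (reyPiece 𝒜 ℬ)).comp
      (DirectSum.decomposeLinearEquiv 𝒜).toLinearMap)

lemma rey_tmul_of_mem {n : ℤ} {a : R} (ha : a ∈ 𝒜 n) (b : S) :
    rey 𝒜 ℬ (a ⊗ₜ[k] b) = a ⊗ₜ[k] GradedAlgebra.proj ℬ n b := by
  simp only [rey, TensorProduct.lift.tmul, LinearMap.comp_apply, LinearEquiv.coe_coe,
    DirectSum.decomposeLinearEquiv_apply]
  rw [DirectSum.decompose_of_mem 𝒜 ha, ← DirectSum.lof_eq_of k, DirectSum.toModule_lof]
  rfl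

/-- the span of the "diagonal" elementary tensors -/
def diagSpan : Submodule k (R ⊗[k] S) :=
  Submodule.span k {x | ∃ n : ℤ, ∃ a ∈ 𝒜 n, ∃ b ∈ ℬ n, x = a ⊗ₜ[k] b}

lemma rey_mem_diagSpan (x : R ⊗[k] S) : rey 𝒜 ℬ x ∈ diagSpan 𝒜 ℬ := by
  induction x using TensorProduct.induction_on with
  | zero => simp
  | add x y hx hy => rw [map_add]; exact add_mem hx hy
  | tmul a b =>
    induction a using DirectSum.Decomposition.inductionOn 𝒜 with
    | zero => simp
    | add a a' ha ha' => rw [TensorProduct.add_tmul, map_add]; exact add_mem ha ha'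
    | homogeneous a =>
      rename_i n
      rw [rey_tmul_of_mem 𝒜 ℬ a.2]
      refine Submodule.subset_span ⟨n, a, a.2, _, ?_, rfl⟩
      rw [GradedAlgebra.proj_apply]
      exact SetLike.coe_mem _

lemma rey_mul_of_mem {n : ℤ} {a : R} (ha : a ∈ 𝒜 n) {b : S} (hb : b ∈ ℬ n) (x : R ⊗[k] S) :
    rey 𝒜 ℬ (a ⊗ₜ[k] b * x) = a ⊗ₜ[k] b * rey 𝒜 ℬ x := by
  induction x using TensorProduct.induction_on with
  | zero => simp
  | add x y hx hy => rw [mul_add, map_add, map_add, mul_add, hx, hy]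
  | tmul a' b' =>
    induction a' using DirectSum.Decomposition.inductionOn 𝒜 with
    | zero => simp
    | add a₁ a₂ h₁ h₂ =>
      rw [TensorProduct.add_tmul, mul_add, map_add, map_add, mul_add, h₁, h₂]
    | homogeneous a' =>
      rename_i m
      rw [Algebra.TensorProduct.tmul_mul_tmul, rey_tmul_of_mem 𝒜 ℬ (SetLike.mul_mem_graded ha a'.2),
        rey_tmul_of_mem 𝒜 ℬ a'.2, Algebra.TensorProduct.tmul_mul_tmul, GradedAlgebra.proj_apply,
        GradedAlgebra.proj_apply, DirectSum.coe_decompose_mul_add_of_left_mem ℬ hb]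

lemma rey_one : rey 𝒜 ℬ (1 : R ⊗[k] S) = 1 := by
  rw [Algebra.TensorProduct.one_def, rey_tmul_of_mem 𝒜 ℬ (SetLike.GradedOne.one_mem),
    GradedAlgebra.proj_apply, DirectSum.decompose_of_mem_same ℬ SetLike.GradedOne.one_mem]

lemma rey_diag_mul {y : R ⊗[k] S} (hy : y ∈ diagSpan 𝒜 ℬ) (x : R ⊗[k] S) :
    rey 𝒜 ℬ (y * x) = y * rey 𝒜 ℬ x := by
  induction hy using Submodule.span_induction with
  | mem y hy =>
    obtain ⟨n, a, ha, b, hb, rfl⟩ := hy
    exact rey_mul_of_mem 𝒜 ℬ ha hb x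
  | zero => simp
  | add y z _ _ hy hz => rw [add_mul, map_add, hy, hz, add_mul]
  | smul c y _ hy => rw [smul_mul_assoc, map_smul, hy, smul_mul_assoc]

lemma rey_of_mem_diagSpan {y : R ⊗[k] S} (hy : y ∈ diagSpan 𝒜 ℬ) : rey 𝒜 ℬ y = y := by
  have := rey_diag_mul 𝒜 ℬ hy 1
  rwa [mul_one, rey_one, mul_one] at this

end

/-- Abstract descent: if `ψ : T → N` is an injective ring hom into a Noetherian ring and there is
an additive "Reynolds operator" `ρ : N → N` with values in the range of `ψ`, which is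
`ψ(T)`-linear and fixes `1`, then `T` is Noetherian. -/
theorem isNoetherianRing_of_reynolds {T N : Type*} [CommRing T] [CommRing N] [IsNoetherianRing N]
    (ψ : T →+* N) (hψ : Function.Injective ψ) (ρ : N →+ N)
    (hρrange : ∀ x, ρ x ∈ ψ.range) (hρmul : ∀ t x, ρ (ψ t * x) = ψ t * ρ x) (hρone : ρ 1 = 1) :
    IsNoetherianRing T := by
  have hρψ : ∀ t, ρ (ψ t) = ψ t := fun t => by
    have := hρmul t 1
    rwa [mul_one, hρone, mul_one] at this
  have key : ∀ I : Ideal T, (I.map ψ).comap ψ = I := by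
    intro I
    refine le_antisymm ?_ Ideal.le_comap_map
    intro t ht
    rw [Ideal.mem_comap] at ht
    -- `ρ` maps `I.map ψ` into `ψ '' I`
    have h2 : ∀ y ∈ I.map ψ, ∀ c : N, ∃ s ∈ I, ρ (c * y) = ψ s := by
      intro y hy
      refine Submodule.span_induction (p := fun y _ => ∀ c : N, ∃ s ∈ I, ρ (c * y) = ψ s)
        ?_ ?_ ?_ ?_ hy
      · rintro _ ⟨s, hs, rfl⟩ c
        obtain ⟨u, hu⟩ := hρrange c
        refine ⟨s * u, I.mul_mem_right _ hs, ?_⟩
        rw [mul_comm, hρmul, map_mul, hu]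
      · intro c
        exact ⟨0, I.zero_mem, by simp⟩
      · rintro y z _ _ hy hz c
        obtain ⟨s, hs, h1⟩ := hy c
        obtain ⟨s', hs', h1'⟩ := hz c
        exact ⟨s + s', I.add_mem hs hs', by rw [mul_add, map_add, h1, h1', map_add]⟩
      · rintro d y _ hy c
        obtain ⟨s, hs, h1⟩ := hy (c * d)
        exact ⟨s, hs, by rw [smul_eq_mul, ← mul_assoc, h1]⟩
    obtain ⟨s, hs, h⟩ := h2 _ ht 1
    rw [one_mul, hρψ] at h
    rw [hψ h]; exact hs
  have emb : Ideal T ↪o Ideal N := OrderEmbedding.ofMapLEIff (Ideal.map ψ) (by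
    intro I J
    constructor
    · intro h
      rw [← key I, ← key J]
      exact Ideal.comap_mono h
    · exact fun h => Ideal.map_mono h)
  rw [isNoetherianRing_iff, isNoetherian_iff']
  have : WellFoundedGT (Ideal N) := by
    rw [← isNoetherian_iff', ← isNoetherianRing_iff]; infer_instance
  exact emb.wellFoundedGT

end Groth.Agent.Lib.helper27.SegreLib
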