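import Mathlib
import Groth.Prelude.Def_RelSpec

set_option autoImplicit false
universe u

namespace Groth.Agent.Lib.helper27.SpecQ
open CategoryTheory CategoryTheory.Limits AlgebraicGeometry Opposite TopologicalSpace

variable {S S' : Scheme.{u}} (q : S' ⟶ S) (B : RelSpec.QCAlg S) (B' : RelSpec.QCAlg S')
  (u : B.presheaf ⟶ q.base _* B'.presheaf)

/-- the ring map `B(U) → B'(U')`. -/
noncomputable abbrev ρ (U : S.Opens) (U' : S'.Opens) (hle : U' ≤ q ⁻¹ᵁ U) :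
    B.presheaf.obj (op U) ⟶ B'.presheaf.obj (op U') :=
  (u.app (op U) : B.presheaf.obj (op U) ⟶ B'.presheaf.obj (op (q ⁻¹ᵁ U))) ≫
    B'.presheaf.map (homOfLE hle).op

/-- the chart morphism. -/
noncomputable abbrev gm (U : S.Opens) (hU : IsAffineOpen U) (U' : S'.Opens) (hle : U' ≤ q ⁻¹ᵁ U) :
    Spec (B'.presheaf.obj (op U')) ⟶ B.spec :=
  Spec.map (ρ q B B' u U U' hle) ≫ B.ι U hU

theorem ρ_res' (U : S.Opens) (U' V' : S'.Opens) (hle : U' ≤ q ⁻¹ᵁ U) (h : V' ≤ U') :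
    ρ q B B' u U U' hle ≫ B'.presheaf.map (homOfLE h).op = ρ q B B' u U V' (h.trans hle) := by
  unfold ρ
  rw [Category.assoc, ← Functor.map_comp]
  rfl

theorem ρ_res (U V : S.Opens) (V' : S'.Opens) (hVU : V ≤ U) (hle' : V' ≤ q ⁻¹ᵁ V) :
    B.presheaf.map (homOfLE hVU).op ≫ ρ q B B' u V V' hle' =
      ρ q B B' u U V' (hle'.trans (q.preimage_mono hVU)) := by
  unfold ρ
  have := u.naturality (homOfLE hVU).op
  rw [← Category.assoc, this, Category.assoc]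
  congr 1
  change B'.presheaf.map _ ≫ B'.presheaf.map _ = _
  rw [← Functor.map_comp]
  rfl

theorem gm_res {U V : S.AffineZariskiSite} {U' V' : S'.AffineZariskiSite} (hVU : V ≤ U)
    (hV'U' : V' ≤ U') (hle : U'.1 ≤ q ⁻¹ᵁ U.1) (hle' : V'.1 ≤ q ⁻¹ᵁ V.1) :
    Spec.map (B'.presheaf.map (homOfLE (Scheme.AffineZariskiSite.toOpens_mono hV'U')).op) ≫
      gm q B B' u U.1 U.2 U'.1 hle = gm q B B' u V.1 V.2 V'.1 hle' := by
  unfold gm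
  rw [← Spec.map_comp_assoc, ρ_res',
    ← ρ_res q B B' u U.1 V.1 V'.1 (Scheme.AffineZariskiSite.toOpens_mono hVU) hle',
    Spec.map_comp_assoc]
  congr 1
  exact B.ι_res (homOfLE hVU)

/-- index of the cover of `Spec(B')` by small charts. -/
structure K where
  U : S.Opens
  hU : IsAffineOpen U
  U' : S'.Opens
  hU' : IsAffineOpen U'
  hle : U' ≤ q ⁻¹ᵁ U

theorem exists_pair (c' : B'.spec) :
    ∃ (k : K q) (w' : Spec (B'.presheaf.obj (op k.U'))), (B'.ι k.U' k.hU').base w' = c' := by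
  obtain ⟨U, hU, hyU⟩ : ∃ U : S.Opens, IsAffineOpen U ∧ q.base (B'.π.base c') ∈ U := by
    obtain ⟨U, hxU⟩ := Opens.mem_iSup.mp
      ((iSup_affineOpens_eq_top S).symm ▸ (Opens.mem_top (q.base (B'.π.base c'))) :
        q.base (B'.π.base c') ∈ ⨆ i : S.affineOpens, (i : S.Opens))
    exact ⟨U.1, U.2, hxU⟩
  have hy' : B'.π.base c' ∈ q ⁻¹ᵁ U := hyU
  obtain ⟨_, ⟨U', hU', rfl⟩, hxU', hle⟩ :=
    S'.isBasis_affineOpens.exists_subset_of_mem_open hy' (q ⁻¹ᵁ U).2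
  have : c' ∈ B'.π ⁻¹ᵁ U' := hxU'
  rw [B'.π_preimage U' hU'] at this
  obtain ⟨w', hw'⟩ := this
  exact ⟨⟨U, hU, U', hU', hle⟩, w', hw'⟩

/-- the cover of `Spec(B')` by the small charts. -/
noncomputable def cover : B'.spec.OpenCover :=
  Scheme.Cover.mkOfCovers (K q) (fun k => Spec (B'.presheaf.obj (op k.U')))
    (fun k => B'.ι k.U' k.hU') (fun c' => by
      obtain ⟨k, w', hw'⟩ := exists_pair q B' c'
      exact ⟨k, w', hw'⟩)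

/-- index for the cover of an overlap. -/
structure L (k₁ k₂ : K q) where
  W : S.Opens
  hW : IsAffineOpen W
  W' : S'.Opens
  hW' : IsAffineOpen W'
  h1 : @LE.le S'.AffineZariskiSite _ ⟨W', hW'⟩ ⟨k₁.U', k₁.hU'⟩
  h2 : @LE.le S'.AffineZariskiSite _ ⟨W', hW'⟩ ⟨k₂.U', k₂.hU'⟩
  h3 : @LE.le S.AffineZariskiSite _ ⟨W, hW⟩ ⟨k₁.U, k₁.hU⟩
  h4 : @LE.le S.AffineZariskiSite _ ⟨W, hW⟩ ⟨k₂.U, k₂.hU⟩
  hle : W' ≤ q ⁻¹ᵁ W

theorem exists_L (k₁ k₂ : K q) (y' : S') (h1 : y' ∈ k₁.U') (h2 : y' ∈ k₂.U') :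
    ∃ l : L q k₁ k₂, y' ∈ l.W' := by
  have hq1 : q.base y' ∈ k₁.U := k₁.hle h1
  have hq2 : q.base y' ∈ k₂.U := k₂.hle h2
  obtain ⟨f₁, f₂, hf, hyW⟩ := exists_basicOpen_le_affine_inter k₁.hU k₂.hU (q.base y') ⟨hq1, hq2⟩
  obtain ⟨s₁, s₂, hs, hyW₀⟩ := exists_basicOpen_le_affine_inter k₁.hU' k₂.hU' y' ⟨h1, h2⟩
  have hW₀le : S'.basicOpen s₁ ≤ q ⁻¹ᵁ k₁.U := (S'.basicOpen_le s₁).trans k₁.hle
  set t := (q.appLE k₁.U (S'.basicOpen s₁) hW₀le).hom f₁ with ht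
  have hW'eq : S'.basicOpen t = S'.basicOpen s₁ ⊓ q ⁻¹ᵁ (S.basicOpen f₁) :=
    Scheme.basicOpen_appLE q _ _ hW₀le f₁
  have hW₀' : IsAffineOpen (S'.basicOpen s₁) := k₁.hU'.basicOpen s₁
  have a1 : @LE.le S'.AffineZariskiSite _ ⟨S'.basicOpen t, hW₀'.basicOpen t⟩ ⟨S'.basicOpen s₁, hW₀'⟩ := ⟨t, rfl⟩
  have a2 : @LE.le S'.AffineZariskiSite _ ⟨S'.basicOpen s₁, hW₀'⟩ ⟨k₁.U', k₁.hU'⟩ := ⟨s₁, rfl⟩
  have a3 : @LE.le S'.AffineZariskiSite _ ⟨S'.basicOpen s₁, hW₀'⟩ ⟨k₂.U', k₂.hU'⟩ := ⟨s₂, hs.symm⟩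
  refine ⟨⟨S.basicOpen f₁, k₁.hU.basicOpen f₁, S'.basicOpen t, hW₀'.basicOpen t,
    le_trans a1 a2, le_trans a1 a3, ⟨f₁, rfl⟩, ⟨f₂, hf.symm⟩, ?_⟩, ?_⟩
  · rw [hW'eq]; exact inf_le_right
  · change y' ∈ S'.basicOpen t
    rw [hW'eq]
    exact ⟨hyW₀, hyW⟩

theorem compat (k₁ k₂ : K q) :
    pullback.fst (B'.ι k₁.U' k₁.hU') (B'.ι k₂.U' k₂.hU') ≫ gm q B B' u k₁.U k₁.hU k₁.U' k₁.hle =
      pullback.snd (B'.ι k₁.U' k₁.hU') (B'.ι k₂.U' k₂.hU') ≫ gm q B B' u k₂.U k₂.hU k₂.U' k₂.hle := by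
  -- the covering family of the overlap
  let j : ∀ l : L q k₁ k₂, Spec (B'.presheaf.obj (op l.W')) ⟶
      pullback (B'.ι k₁.U' k₁.hU') (B'.ι k₂.U' k₂.hU') := fun l =>
    pullback.lift
      (Spec.map (B'.presheaf.map (homOfLE (Scheme.AffineZariskiSite.toOpens_mono l.h1)).op))
      (Spec.map (B'.presheaf.map (homOfLE (Scheme.AffineZariskiSite.toOpens_mono l.h2)).op))
      ((B'.ι_res (homOfLE l.h1)).trans (B'.ι_res (homOfLE l.h2)).symm)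
  have hj1 : ∀ l, j l ≫ pullback.fst _ _ =
      Spec.map (B'.presheaf.map (homOfLE (Scheme.AffineZariskiSite.toOpens_mono l.h1)).op) :=
    fun l => pullback.lift_fst _ _ _
  have hj2 : ∀ l, j l ≫ pullback.snd _ _ =
      Spec.map (B'.presheaf.map (homOfLE (Scheme.AffineZariskiSite.toOpens_mono l.h2)).op) :=
    fun l => pullback.lift_snd _ _ _
  have hjι : ∀ l, j l ≫ (pullback.fst _ _ ≫ B'.ι k₁.U' k₁.hU') = B'.ι l.W' l.hW' := fun l => by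
    rw [← Category.assoc, hj1]
    exact B'.ι_res (homOfLE l.h1)
  have hopen : ∀ l, IsOpenImmersion (j l) := fun l => by
    have : IsOpenImmersion (j l ≫ (pullback.fst _ _ ≫ B'.ι k₁.U' k₁.hU')) := by
      rw [hjι]; infer_instance
    exact IsOpenImmersion.of_comp (j l) (pullback.fst _ _ ≫ B'.ι k₁.U' k₁.hU')
  let 𝒱 : (pullback (B'.ι k₁.U' k₁.hU') (B'.ι k₂.U' k₂.hU')).OpenCover :=
    Scheme.Cover.mkOfCovers (L q k₁ k₂) (fun l => Spec (B'.presheaf.obj (op l.W'))) j (fun p => by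
      set c' := (pullback.fst (B'.ι k₁.U' k₁.hU') (B'.ι k₂.U' k₂.hU') ≫
        B'.ι k₁.U' k₁.hU').base p with hc'
      have hy1 : B'.π.base c' ∈ k₁.U' := by
        have : c' ∈ B'.π ⁻¹ᵁ k₁.U' := by
          rw [B'.π_preimage k₁.U' k₁.hU']
          exact ⟨(pullback.fst (B'.ι k₁.U' k₁.hU') (B'.ι k₂.U' k₂.hU')).base p, rfl⟩
        exact this
      have hy2 : B'.π.base c' ∈ k₂.U' := by
        have : c' ∈ B'.π ⁻¹ᵁ k₂.U' := by
          rw [B'.π_preimage k₂.U' k₂.hU']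
          refine ⟨(pullback.snd (B'.ι k₁.U' k₁.hU') (B'.ι k₂.U' k₂.hU')).base p, ?_⟩
          have := congrArg (fun m => m.base p)
            (pullback.condition (f := B'.ι k₁.U' k₁.hU') (g := B'.ι k₂.U' k₂.hU'))
          exact this.symm
        exact this
      obtain ⟨l, hl⟩ := exists_L q k₁ k₂ (B'.π.base c') hy1 hy2
      have hcW : c' ∈ (B'.ι l.W' l.hW').opensRange := by
        rw [← B'.π_preimage l.W' l.hW']; exact hl
      obtain ⟨w, hw⟩ := hcW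
      refine ⟨l, w, ?_⟩
      apply (pullback.fst (B'.ι k₁.U' k₁.hU') (B'.ι k₂.U' k₂.hU') ≫
        B'.ι k₁.U' k₁.hU').isOpenEmbedding.injective
      have := congrArg (fun m => m.base w) (hjι l)
      simp only [Scheme.Hom.comp_base, TopCat.hom_comp, ContinuousMap.comp_apply] at this hc' ⊢
      rw [this, hw, hc']) hopen
  refine 𝒱.hom_ext _ _ ?_
  intro (l : L q k₁ k₂)
  change j l ≫ _ = j l ≫ _
  rw [reassoc_of% hj1 l, reassoc_of% hj2 l]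
  rw [gm_res q B B' u (U := ⟨k₁.U, k₁.hU⟩) (V := ⟨l.W, l.hW⟩) (U' := ⟨k₁.U', k₁.hU'⟩)
      (V' := ⟨l.W', l.hW'⟩) l.h3 l.h1 k₁.hle l.hle,
    gm_res q B B' u (U := ⟨k₂.U, k₂.hU⟩) (V := ⟨l.W, l.hW⟩) (U' := ⟨k₂.U', k₂.hU'⟩)
      (V' := ⟨l.W', l.hW'⟩) l.h4 l.h2 k₂.hle l.hle]

/-- the glued morphism `Spec(u)`. -/
noncomputable def specQ : B'.spec ⟶ B.spec :=
  (cover q B').glueMorphisms (fun k => gm q B B' u k.U k.hU k.U' k.hle) (compat q B B' u)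

theorem ι_specQ (U : S.Opens) (hU : IsAffineOpen U) (U' : S'.Opens) (hU' : IsAffineOpen U')
    (hle : U' ≤ q ⁻¹ᵁ U) :
    B'.ι U' hU' ≫ specQ q B B' u = gm q B B' u U hU U' hle :=
  (cover q B').ι_glueMorphisms (fun k => gm q B B' u k.U k.hU k.U' k.hle) (compat q B B' u)
    ⟨U, hU, U', hU', hle⟩

theorem specQ_unique (v : B'.spec ⟶ B.spec)
    (hv : ∀ (U : S.Opens) (hU : IsAffineOpen U) (U' : S'.Opens) (hU' : IsAffineOpen U')
      (hle : U' ≤ q ⁻¹ᵁ U), B'.ι U' hU' ≫ v = gm q B B' u U hU U' hle) :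
    v = specQ q B B' u := by
  refine (cover q B').hom_ext _ _ fun k => ?_
  change B'.ι k.U' k.hU' ≫ v = B'.ι k.U' k.hU' ≫ specQ q B B' u
  rw [hv k.U k.hU k.U' k.hU' k.hle, ι_specQ q B B' u k.U k.hU k.U' k.hU' k.hle]

end Groth.Agent.Lib.helper27.SpecQ
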