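import Mathlib

/-!
# Verlinde combinatorics (helper27): sorting lemma, Vandermonde sums over roots of unity
-/

set_option autoImplicit false
set_option linter.unusedSectionVars false

namespace Groth.Agent.Lib.helper27.VerlindeLib

open Finset

/-- sums of symmetric functions vanishing off injective tuples reduce to strictly antitone tuples -/
theorem sum_eq_factorial_smul_sum_strictAnti {α M : Type*} [LinearOrder α] [Fintype α]
    [AddCommMonoid M] (m : ℕ) (F : (Fin m → α) → M)
    (hsymm : ∀ (w : Fin m → α) (σ : Equiv.Perm (Fin m)), F (w ∘ σ) = F w)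
    (hinj : ∀ w : Fin m → α, ¬ Function.Injective w → F w = 0) :
    ∑ w : Fin m → α, F w =
      m.factorial • ∑ w ∈ Finset.univ.filter (fun w : Fin m → α => StrictAnti w), F w := by
  classical
  have h1 : m.factorial • ∑ w ∈ Finset.univ.filter (fun w : Fin m → α => StrictAnti w), F w =
      ∑ p ∈ (Finset.univ : Finset (Equiv.Perm (Fin m))) ×ˢ
        (Finset.univ.filter (fun w : Fin m → α => StrictAnti w)), F (p.2 ∘ p.1) := by
    rw [Finset.sum_product]
    simp only [hsymm, Finset.sum_const, Finset.card_univ, Fintype.card_perm, Fintype.card_fin]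
  have h2 : ∑ w : Fin m → α, F w =
      ∑ w ∈ Finset.univ.filter (fun w : Fin m → α => Function.Injective w), F w := by
    symm
    apply Finset.sum_filter_of_ne
    intro w _ hw
    by_contra h
    exact hw (hinj w h)
  rw [h1, h2]
  symm
  refine Finset.sum_bij (fun p _ => p.2 ∘ p.1) ?_ ?_ ?_ ?_
  · intro p hp
    rw [Finset.mem_product, Finset.mem_filter] at hp
    rw [Finset.mem_filter]
    exact ⟨Finset.mem_univ _, hp.2.2.injective.comp p.1.injective⟩
  · intro p hp q hq h
    rw [Finset.mem_product, Finset.mem_filter] at hp hq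
    have hr : Set.range p.2 = Set.range q.2 := by
      have := congrArg Set.range h
      rwa [Set.range_comp, Set.range_comp, Equiv.range_eq_univ, Equiv.range_eq_univ,
        Set.image_univ, Set.image_univ] at this
    have h2 : p.2 = q.2 := (hp.2.2.range_inj hq.2.2).mp hr
    have h1 : p.1 = q.1 := by
      ext i
      have := congrFun h i
      simp only [Function.comp_apply, h2] at this
      exact congrArg Fin.val (hq.2.2.injective this)
    exact Prod.ext h1 h2
  · intro w hw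
    rw [Finset.mem_filter] at hw
    have hmono : StrictMono (w ∘ Tuple.sort w) :=
      (Tuple.monotone_sort w).strictMono_of_injective (hw.2.comp (Tuple.sort w).injective)
    set ρ : Equiv.Perm (Fin m) := Tuple.sort w * (Fin.revPerm : Equiv.Perm (Fin m)) with hρ
    refine ⟨(ρ⁻¹, w ∘ ρ), ?_, ?_⟩
    · rw [Finset.mem_product, Finset.mem_filter]
      refine ⟨Finset.mem_univ _, Finset.mem_univ _, ?_⟩
      intro i j hij
      have : Fin.rev j < Fin.rev i := Fin.rev_lt_rev.mpr hij
      exact hmono this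
    · funext i
      simp
  · intro p _
    rfl

section roots

variable {n : ℕ} {ζ ξ : ℂ}

theorem geom_sum_pow_mul_pow (hζ : IsPrimitiveRoot ζ n) (hξ : ζ * ξ = 1) {a b : ℕ}
    (ha : a < n) (hb : b < n) :
    ∑ x : Fin n, (ζ ^ (x : ℕ)) ^ a * (ξ ^ (x : ℕ)) ^ b = if a = b then (n : ℂ) else 0 := by
  have hξn : ξ ^ n = 1 := by
    have h1 : (ζ * ξ) ^ n = 1 := by rw [hξ, one_pow]
    rwa [mul_pow, hζ.pow_eq_one, one_mul] at h1
  rw [Fin.sum_univ_eq_sum_range (fun x => (ζ ^ x) ^ a * (ξ ^ x) ^ b) n]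
  have hw : ∀ x : ℕ, (ζ ^ x) ^ a * (ξ ^ x) ^ b = (ζ ^ a * ξ ^ b) ^ x := by
    intro x
    rw [mul_pow, ← pow_mul, ← pow_mul, ← pow_mul, ← pow_mul, mul_comm x a, mul_comm x b]
  simp only [hw]
  split_ifs with hab
  · subst hab
    rw [← mul_pow, hξ, one_pow]
    simp
  · have hwn : (ζ ^ a * ξ ^ b) ^ n = 1 := by
      rw [mul_pow, ← pow_mul, ← pow_mul, mul_comm a n, mul_comm b n, pow_mul, pow_mul,
        hζ.pow_eq_one, hξn, one_pow, one_pow, one_mul]
    have hw1 : ζ ^ a * ξ ^ b ≠ 1 := by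
      rcases lt_or_gt_of_ne hab with h | h
      · -- a < b
        have e : ζ ^ a * ξ ^ b = ξ ^ (b - a) := by
          have : b = a + (b - a) := by omega
          conv_lhs => rw [this, pow_add, ← mul_assoc, ← mul_pow, hξ, one_pow, one_mul]
        rw [e]
        intro h1
        have h2 : ζ ^ (b - a) = 1 := by
          have : (ζ * ξ) ^ (b - a) = 1 := by rw [hξ, one_pow]
          rwa [mul_pow, h1, mul_one] at this
        exact hζ.pow_ne_one_of_pos_of_lt (by omega) (by omega) h2
      · have e : ζ ^ a * ξ ^ b = ζ ^ (a - b) := by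
          have : a = (a - b) + b := by omega
          conv_lhs => rw [this, pow_add, mul_assoc, ← mul_pow, hξ, one_pow, mul_one]
        rw [e]
        exact hζ.pow_ne_one_of_pos_of_lt (by omega) (by omega)
    have h3 := mul_geom_sum (ζ ^ a * ξ ^ b) n
    rw [hwn, sub_self] at h3
    rcases mul_eq_zero.mp h3 with h | h
    · exact absurd (sub_eq_zero.mp h) hw1
    · exact h

/-- the sum over all tuples of `|det Vandermonde|^2` at roots of unity -/
theorem sum_det_vandermonde_mul (hζ : IsPrimitiveRoot ζ n) (hξ : ζ * ξ = 1) (r : ℕ) (hr : r ≤ n) :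
    ∑ v : Fin r → Fin n, (Matrix.vandermonde (fun i => ζ ^ ((v i : Fin n) : ℕ))).det *
      (Matrix.vandermonde (fun i => ξ ^ ((v i : Fin n) : ℕ))).det =
      (r.factorial : ℂ) * (n : ℂ) ^ r := by
  classical
  have hdet : ∀ (z : Fin r → ℂ), (Matrix.vandermonde z).det =
      ∑ σ : Equiv.Perm (Fin r), ((Equiv.Perm.sign σ : ℤ) : ℂ) * ∏ i, z i ^ ((σ i : Fin r) : ℕ) := by
    intro z
    rw [← Matrix.det_transpose, Matrix.det_apply']
    rfl
  simp only [hdet, Finset.sum_mul_sum]
  rw [Finset.sum_comm]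
  have h1 : ∀ σ : Equiv.Perm (Fin r), ∑ v : Fin r → Fin n, ∑ τ : Equiv.Perm (Fin r),
      (((Equiv.Perm.sign σ : ℤ) : ℂ) * ∏ i, (ζ ^ ((v i : Fin n) : ℕ)) ^ ((σ i : Fin r) : ℕ)) *
      (((Equiv.Perm.sign τ : ℤ) : ℂ) * ∏ i, (ξ ^ ((v i : Fin n) : ℕ)) ^ ((τ i : Fin r) : ℕ)) =
      (n : ℂ) ^ r := by
    intro σ
    rw [Finset.sum_comm]
    have h2 : ∀ τ : Equiv.Perm (Fin r), ∑ v : Fin r → Fin n,
        (((Equiv.Perm.sign σ : ℤ) : ℂ) * ∏ i, (ζ ^ ((v i : Fin n) : ℕ)) ^ ((σ i : Fin r) : ℕ)) *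
        (((Equiv.Perm.sign τ : ℤ) : ℂ) * ∏ i, (ξ ^ ((v i : Fin n) : ℕ)) ^ ((τ i : Fin r) : ℕ)) =
        if σ = τ then (n : ℂ) ^ r else 0 := by
      intro τ
      have h3 : ∀ v : Fin r → Fin n,
          (((Equiv.Perm.sign σ : ℤ) : ℂ) * ∏ i, (ζ ^ ((v i : Fin n) : ℕ)) ^ ((σ i : Fin r) : ℕ)) *
          (((Equiv.Perm.sign τ : ℤ) : ℂ) * ∏ i, (ξ ^ ((v i : Fin n) : ℕ)) ^ ((τ i : Fin r) : ℕ)) =
          (((Equiv.Perm.sign σ : ℤ) : ℂ) * ((Equiv.Perm.sign τ : ℤ) : ℂ)) *
            ∏ i, ((ζ ^ ((v i : Fin n) : ℕ)) ^ ((σ i : Fin r) : ℕ) *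
              (ξ ^ ((v i : Fin n) : ℕ)) ^ ((τ i : Fin r) : ℕ)) := by
        intro v
        rw [Finset.prod_mul_distrib]
        ring
      simp only [h3]
      rw [← Finset.mul_sum]
      have h4 := (Finset.prod_univ_sum (fun _ : Fin r => (Finset.univ : Finset (Fin n)))
        (fun (i : Fin r) (x : Fin n) => (ζ ^ (x : ℕ)) ^ ((σ i : Fin r) : ℕ) *
          (ξ ^ (x : ℕ)) ^ ((τ i : Fin r) : ℕ))).symm
      rw [Fintype.piFinset_univ] at h4
      rw [h4]
      have h5 : ∀ i : Fin r, ∑ x : Fin n, (ζ ^ (x : ℕ)) ^ ((σ i : Fin r) : ℕ) *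
          (ξ ^ (x : ℕ)) ^ ((τ i : Fin r) : ℕ) = if σ i = τ i then (n : ℂ) else 0 := by
        intro i
        rw [geom_sum_pow_mul_pow hζ hξ (lt_of_lt_of_le (σ i).2 hr) (lt_of_lt_of_le (τ i).2 hr)]
        simp only [Fin.val_inj]
      simp only [h5]
      rw [Finset.prod_ite_zero]
      by_cases hστ : σ = τ
      · subst hστ
        simp only [if_true, implies_true, Finset.prod_const, Finset.card_univ, Fintype.card_fin]
        have : ((Equiv.Perm.sign σ : ℤ) : ℂ) * ((Equiv.Perm.sign σ : ℤ) : ℂ) = 1 := by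
          rw [← Int.cast_mul]
          rcases Int.units_eq_one_or (Equiv.Perm.sign σ) with h | h <;> simp [h]
        rw [this, one_mul]
      · rw [if_neg hστ, if_neg, mul_zero]
        intro h
        exact hστ (Equiv.ext fun i => h i (Finset.mem_univ i))
    simp only [h2]
    rw [Finset.sum_ite_eq]
    simp
  simp only [h1]
  rw [Finset.sum_const, Finset.card_univ, Fintype.card_perm, Fintype.card_fin, nsmul_eq_mul]

end roots

section main

variable (n : ℕ) [NeZero n]

/-- the standard primitive `n`-th root of unity -/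
noncomputable def zeta : ℂ := Complex.exp (2 * Real.pi * Complex.I / n)

theorem zeta_prim : IsPrimitiveRoot (zeta n) n := Complex.isPrimitiveRoot_exp n (NeZero.ne n)

theorem normSq_zeta : Complex.normSq (zeta n) = 1 := by
  rw [Complex.normSq_eq_norm_sq, (zeta_prim n).norm'_eq_one (NeZero.ne n)]
  simp

theorem zeta_mul_conj : zeta n * (starRingEnd ℂ) (zeta n) = 1 := by
  rw [Complex.mul_conj, normSq_zeta]
  simp

theorem zeta_pow_eq (a : ℕ) : zeta n ^ a =
    (Real.cos (2 * Real.pi * a / n) : ℂ) + (Real.sin (2 * Real.pi * a / n) : ℂ) * Complex.I := by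
  unfold zeta
  rw [← Complex.exp_nat_mul]
  have : (a : ℂ) * (2 * Real.pi * Complex.I / n) = ((2 * Real.pi * a / n : ℝ) : ℂ) * Complex.I := by
    push_cast
    ring
  rw [this, Complex.exp_mul_I, ← Complex.ofReal_cos, ← Complex.ofReal_sin]

theorem normSq_zeta_pow_sub (a b : ℕ) : Complex.normSq (zeta n ^ a - zeta n ^ b) =
    (2 * Real.sin (Real.pi * ((a : ℝ) - b) / n)) ^ 2 := by
  rw [zeta_pow_eq, zeta_pow_eq]
  set A := 2 * Real.pi * a / n with hA
  set B := 2 * Real.pi * b / n with hB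
  have h1 : ((Real.cos A : ℂ) + (Real.sin A : ℂ) * Complex.I -
      ((Real.cos B : ℂ) + (Real.sin B : ℂ) * Complex.I)) =
      ((Real.cos A - Real.cos B : ℝ) : ℂ) + ((Real.sin A - Real.sin B : ℝ) : ℂ) * Complex.I := by
    push_cast; ring
  rw [h1, Complex.normSq_add_mul_I]
  have h2 : Real.pi * ((a : ℝ) - b) / n = (A - B) / 2 := by
    rw [hA, hB]; ring
  rw [h2, mul_pow, Real.sin_sq_eq_half_sub]
  have h3 : 2 * ((A - B) / 2) = A - B := by ring
  rw [h3, Real.cos_sub]
  nlinarith [Real.cos_sq_add_sin_sq A, Real.cos_sq_add_sin_sq B]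

/-- the weight `∏_{i<j} |ζ^{v_i} - ζ^{v_j}|^2` in determinant form -/
noncomputable def D {r : ℕ} (v : Fin r → Fin n) : ℝ :=
  Complex.normSq (Matrix.vandermonde (fun i => zeta n ^ ((v i : Fin n) : ℕ))).det

theorem D_eq_prod {r : ℕ} (v : Fin r → Fin n) :
    D n v = ∏ i : Fin r, ∏ j ∈ Finset.Ioi i,
      (2 * Real.sin (Real.pi * (((v j : Fin n) : ℕ) - ((v i : Fin n) : ℕ) : ℝ) / n)) ^ 2 := by
  unfold D
  rw [Matrix.det_vandermonde, map_prod]
  refine Finset.prod_congr rfl fun i _ => ?_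
  rw [map_prod]
  refine Finset.prod_congr rfl fun j _ => ?_
  rw [normSq_zeta_pow_sub]

theorem D_ofReal {r : ℕ} (v : Fin r → Fin n) : ((D n v : ℝ) : ℂ) =
    (Matrix.vandermonde (fun i => zeta n ^ ((v i : Fin n) : ℕ))).det *
    (Matrix.vandermonde (fun i => (starRingEnd ℂ) (zeta n) ^ ((v i : Fin n) : ℕ))).det := by
  unfold D
  rw [← Complex.mul_conj]
  congr 1
  rw [Matrix.det_vandermonde, Matrix.det_vandermonde, map_prod]
  refine Finset.prod_congr rfl fun i _ => ?_
  rw [map_prod]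
  refine Finset.prod_congr rfl fun j _ => ?_
  rw [map_sub, map_pow, map_pow]

theorem sum_D {r : ℕ} (hr : r ≤ n) :
    ∑ v : Fin r → Fin n, D n v = (r.factorial : ℝ) * (n : ℝ) ^ r := by
  apply Complex.ofReal_injective
  push_cast
  simp only [D_ofReal]
  exact sum_det_vandermonde_mul (zeta_prim n) (zeta_mul_conj n) r hr

theorem D_comp_perm {r : ℕ} (v : Fin r → Fin n) (σ : Equiv.Perm (Fin r)) : D n (v ∘ σ) = D n v := by
  unfold D
  have : Matrix.vandermonde (fun i => zeta n ^ (((v ∘ σ) i : Fin n) : ℕ)) =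
      (Matrix.vandermonde (fun i => zeta n ^ ((v i : Fin n) : ℕ))).submatrix σ id := by
    ext i j
    simp [Matrix.vandermonde_apply]
  rw [this, Matrix.det_permute, map_mul]
  have : Complex.normSq ((Equiv.Perm.sign σ : ℤ) : ℂ) = 1 := by
    rcases Int.units_eq_one_or (Equiv.Perm.sign σ) with h | h <;> simp [h]
  rw [this, one_mul]

theorem D_eq_zero_of_not_injective {r : ℕ} (v : Fin r → Fin n) (hv : ¬ Function.Injective v) :
    D n v = 0 := by
  unfold D
  rw [Function.Injective] at hv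
  push Not at hv
  obtain ⟨i, j, hij, hne⟩ := hv
  rw [Matrix.det_zero_of_row_eq hne, map_zero]
  ext l
  simp [Matrix.vandermonde_apply, hij]

theorem D_add_const {r : ℕ} (v : Fin r → Fin n) (c : Fin n) :
    D n (fun i => v i + c) = D n v := by
  unfold D
  rw [Matrix.det_vandermonde, Matrix.det_vandermonde, map_prod, map_prod]
  refine Finset.prod_congr rfl fun i _ => ?_
  rw [map_prod, map_prod]
  refine Finset.prod_congr rfl fun j _ => ?_
  have h : ∀ a : Fin n, zeta n ^ ((a + c : Fin n) : ℕ) = zeta n ^ (a : ℕ) * zeta n ^ (c : ℕ) := by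
    intro a
    rw [Fin.val_add, ← pow_eq_pow_mod _ (zeta_prim n).pow_eq_one, pow_add]
  rw [h, h, ← sub_mul, map_mul, map_pow, normSq_zeta, one_pow, mul_one]

open Classical in
theorem card_mul_sum_D {r : ℕ} :
    (r : ℝ) * ∑ v : Fin r → Fin n, D n v =
      (n : ℝ) * ∑ v : Fin r → Fin n, if (0 : Fin n) ∈ Set.range v then D n v else 0 := by
  have h1 : ∀ v : Fin r → Fin n, (r : ℝ) * D n v =
      ∑ c : Fin n, if c ∈ Set.range v then D n v else 0 := by
    intro v
    by_cases hv : Function.Injective v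
    · rw [← Finset.sum_filter, Finset.sum_const]
      have : (Finset.univ.filter (fun c : Fin n => c ∈ Set.range v)) = Finset.univ.image v := by
        ext; simp [eq_comm]
      rw [this, Finset.card_image_of_injective _ hv, Finset.card_univ, Fintype.card_fin, nsmul_eq_mul]
    · rw [D_eq_zero_of_not_injective n v hv]
      simp
  rw [Finset.mul_sum]
  simp only [h1]
  rw [Finset.sum_comm]
  have h2 : ∀ c : Fin n, (∑ v : Fin r → Fin n, if c ∈ Set.range v then D n v else 0) =
      ∑ v : Fin r → Fin n, if (0 : Fin n) ∈ Set.range v then D n v else 0 := by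
    intro c
    symm
    refine Fintype.sum_equiv (Equiv.piCongrRight (fun _ : Fin r => Equiv.addRight c)) _ _ (fun w => ?_)
    have hw : (Equiv.piCongrRight (fun _ : Fin r => Equiv.addRight c)) w = fun i => w i + c := rfl
    rw [hw, D_add_const]
    have : (c ∈ Set.range fun i => w i + c) ↔ (0 : Fin n) ∈ Set.range w := by
      simp only [Set.mem_range]
      constructor
      · rintro ⟨i, hi⟩
        exact ⟨i, by simpa using hi⟩
      · rintro ⟨i, hi⟩
        exact ⟨i, by simp [hi]⟩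
    simp only [this]
  simp only [h2, Finset.sum_const, Finset.card_univ, Fintype.card_fin, nsmul_eq_mul]

theorem zero_mem_range_iff_of_strictAnti {m : ℕ} (v : Fin (m + 1) → Fin n) (hv : StrictAnti v) :
    (0 : Fin n) ∈ Set.range v ↔ ((v (Fin.last m) : Fin n) : ℕ) = 0 := by
  constructor
  · rintro ⟨i, hi⟩
    have h1 : v (Fin.last m) ≤ v i := hv.antitone (Fin.le_last i)
    rw [hi] at h1
    have : ((v (Fin.last m) : Fin n) : ℕ) ≤ ((0 : Fin n) : ℕ) := h1
    simpa using this
  · intro h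
    refine ⟨Fin.last m, ?_⟩
    apply Fin.ext
    rw [h]
    simp

open Classical in
/-- the genus-zero Verlinde sum, in determinant form -/
theorem sum_D_strictAnti (m k : ℕ) [NeZero (m + 1 + k)] :
    ∑ v ∈ (Finset.univ : Finset (Fin (m + 1) → Fin (m + 1 + k))).filter
        (fun v => StrictAnti v ∧ ((v (Fin.last m) : Fin (m + 1 + k)) : ℕ) = 0), D (m + 1 + k) v =
      ((m + 1 : ℕ) : ℝ) * ((m + 1 + k : ℕ) : ℝ) ^ m := by
  set n := m + 1 + k with hn
  have hsort := sum_eq_factorial_smul_sum_strictAnti (α := Fin n) (M := ℝ) (m + 1)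
    (fun v => if (0 : Fin n) ∈ Set.range v then D n v else 0)
    (fun w σ => by
      rw [D_comp_perm]
      exact if_congr (by rw [Set.range_comp, Equiv.range_eq_univ, Set.image_univ]) rfl rfl)
    (fun w hw => by
      rw [D_eq_zero_of_not_injective n w hw, ite_self])
  have h1 : ∑ w ∈ Finset.univ.filter (fun w : Fin (m + 1) → Fin n => StrictAnti w),
      (if (0 : Fin n) ∈ Set.range w then D n w else 0) =
      ∑ v ∈ (Finset.univ : Finset (Fin (m + 1) → Fin n)).filter
        (fun v => StrictAnti v ∧ ((v (Fin.last m) : Fin n) : ℕ) = 0), D n v := by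
    rw [← Finset.sum_filter, Finset.filter_filter]
    refine Finset.sum_congr ?_ (fun _ _ => rfl)
    ext v
    simp only [Finset.mem_filter, Finset.mem_univ, true_and]
    constructor
    · rintro ⟨h1, h2⟩
      exact ⟨h1, (zero_mem_range_iff_of_strictAnti n v h1).mp h2⟩
    · rintro ⟨h1, h2⟩
      exact ⟨h1, (zero_mem_range_iff_of_strictAnti n v h1).mpr h2⟩
  rw [h1] at hsort
  have h2 := card_mul_sum_D n (r := m + 1)
  rw [sum_D n (show m + 1 ≤ n by omega), hsort, nsmul_eq_mul] at h2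
  have hn0 : (n : ℝ) ≠ 0 := by exact_mod_cast NeZero.ne n
  have hf0 : ((m + 1).factorial : ℝ) ≠ 0 := by exact_mod_cast Nat.factorial_ne_zero _
  have h3 : (n : ℝ) * ((m + 1).factorial : ℝ) *
      ∑ v ∈ (Finset.univ : Finset (Fin (m + 1) → Fin n)).filter
        (fun v => StrictAnti v ∧ ((v (Fin.last m) : Fin n) : ℕ) = 0), D n v =
      (n : ℝ) * ((m + 1).factorial : ℝ) * (((m + 1 : ℕ) : ℝ) * (n : ℝ) ^ m) := by
    rw [mul_assoc, ← h2, pow_succ]
    ring
  exact mul_left_cancel₀ (mul_ne_zero hn0 hf0) h3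

end main

end Groth.Agent.Lib.helper27.VerlindeLib
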