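import Mathlib
import Groth.Agent.Lib.helper27.Verlinde

/-!
# Verlinde combinatorics II (helper27): generalized Vandermonde determinants, Cauchy–Binet sums
-/

set_option autoImplicit false
set_option linter.unusedSectionVars false

namespace Groth.Agent.Lib.helper27.VerlindeLib

open Finset

section genvdm

variable {R : Type*} [CommRing R] {r : ℕ}

/-- generalized Vandermonde determinant `det (w_j ^ e_i)` -/
noncomputable def N (w : Fin r → R) (e : Fin r → ℕ) : R :=
  (Matrix.of fun i j : Fin r => w j ^ e i).det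

theorem N_comp_perm (w : Fin r → R) (e : Fin r → ℕ) (σ : Equiv.Perm (Fin r)) :
    N w (e ∘ σ) = ((Equiv.Perm.sign σ : ℤ) : R) * N w e := by
  unfold N
  rw [← Matrix.det_permute]
  rfl

theorem N_eq_zero_of_not_injective (w : Fin r → R) (e : Fin r → ℕ) (he : ¬ Function.Injective e) :
    N w e = 0 := by
  unfold N
  rw [Function.Injective] at he
  push Not at he
  obtain ⟨i, j, hij, hne⟩ := he
  refine Matrix.det_zero_of_row_eq hne ?_
  ext l
  simp [hij]

theorem N_eq_sum (w : Fin r → R) (e : Fin r → ℕ) :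
    N w e = ∑ σ : Equiv.Perm (Fin r), ((Equiv.Perm.sign σ : ℤ) : R) * ∏ i, w (σ i) ^ e i := by
  unfold N
  rw [← Matrix.det_transpose, Matrix.det_apply']
  rfl

theorem N_mul_row (u w : Fin r → R) (e : Fin r → ℕ) :
    (Matrix.of fun i j : Fin r => u j * w j ^ e i).det = (∏ j, u j) * N w e := by
  unfold N
  exact Matrix.det_mul_row u (Matrix.of fun i j : Fin r => w j ^ e i)

/-- `Σ_{σ,τ} sgn σ sgn τ Π_i G (σ i) (τ i) = r! det G` -/
theorem sum_sign_sign_prod (G : Matrix (Fin r) (Fin r) R) :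
    ∑ σ : Equiv.Perm (Fin r), ∑ τ : Equiv.Perm (Fin r),
      (((Equiv.Perm.sign σ : ℤ) : R) * ((Equiv.Perm.sign τ : ℤ) : R)) * ∏ i, G (σ i) (τ i) =
      (r.factorial : R) * G.det := by
  have h1 : ∀ σ : Equiv.Perm (Fin r), ∑ τ : Equiv.Perm (Fin r),
      (((Equiv.Perm.sign σ : ℤ) : R) * ((Equiv.Perm.sign τ : ℤ) : R)) * ∏ i, G (σ i) (τ i) =
      G.det := by
    intro σ
    have h2 : (G.submatrix σ id).det =
        ∑ τ : Equiv.Perm (Fin r), ((Equiv.Perm.sign τ : ℤ) : R) * ∏ i, G (σ i) (τ i) := by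
      rw [← Matrix.det_transpose, Matrix.det_apply']
      rfl
    rw [Matrix.det_permute] at h2
    simp only [mul_assoc]
    rw [← Finset.mul_sum, ← h2, ← mul_assoc]
    have : ((Equiv.Perm.sign σ : ℤ) : R) * ((Equiv.Perm.sign σ : ℤ) : R) = 1 := by
      rw [← Int.cast_mul]
      rcases Int.units_eq_one_or (Equiv.Perm.sign σ) with h | h <;> simp [h]
    rw [this, one_mul]
  simp only [h1]
  rw [Finset.sum_const, Finset.card_univ, Fintype.card_perm, Fintype.card_fin, nsmul_eq_mul]

/-- Cauchy–Binet type sum over all exponent tuples below `m`. -/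
theorem sum_N_mul_N (w w' : Fin r → R) (m : ℕ) :
    ∑ e : Fin r → Fin m, N w (fun i => (e i : ℕ)) * N w' (fun i => (e i : ℕ)) =
      (r.factorial : R) *
        (Matrix.of fun a b : Fin r => ∑ x ∈ Finset.range m, (w a * w' b) ^ x).det := by
  classical
  simp only [N_eq_sum, Finset.sum_mul_sum]
  rw [Finset.sum_comm]
  rw [← sum_sign_sign_prod]
  refine Finset.sum_congr rfl fun σ _ => ?_
  rw [Finset.sum_comm]
  refine Finset.sum_congr rfl fun τ _ => ?_
  have h3 : ∀ e : Fin r → Fin m,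
      (((Equiv.Perm.sign σ : ℤ) : R) * ∏ i, w (σ i) ^ ((e i : Fin m) : ℕ)) *
      (((Equiv.Perm.sign τ : ℤ) : R) * ∏ i, w' (τ i) ^ ((e i : Fin m) : ℕ)) =
      (((Equiv.Perm.sign σ : ℤ) : R) * ((Equiv.Perm.sign τ : ℤ) : R)) *
        ∏ i, (w (σ i) * w' (τ i)) ^ ((e i : Fin m) : ℕ) := by
    intro e
    simp only [mul_pow]
    rw [Finset.prod_mul_distrib]
    ring
  simp only [h3]
  rw [← Finset.mul_sum]
  congr 1
  have h4 := (Finset.prod_univ_sum (fun _ : Fin r => (Finset.univ : Finset (Fin m)))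
    (fun (i : Fin r) (x : Fin m) => (w (σ i) * w' (τ i)) ^ (x : ℕ))).symm
  rw [Fintype.piFinset_univ] at h4
  rw [h4]
  refine Finset.prod_congr rfl fun i _ => ?_
  rw [Matrix.of_apply, Fin.sum_univ_eq_sum_range (fun x => (w (σ i) * w' (τ i)) ^ x) m]

end genvdm

section sorted

variable {r : ℕ}

/-- Cauchy–Binet: the sum over strictly decreasing exponent tuples. -/
theorem sum_strictAnti_N_mul_N (w w' : Fin r → ℂ) (m : ℕ) :
    ∑ e ∈ (Finset.univ : Finset (Fin r → Fin m)).filter (fun e => StrictAnti e),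
      N w (fun i => (e i : ℕ)) * N w' (fun i => (e i : ℕ)) =
      (Matrix.of fun a b : Fin r => ∑ x ∈ Finset.range m, (w a * w' b) ^ x).det := by
  classical
  have hsort := sum_eq_factorial_smul_sum_strictAnti (α := Fin m) (M := ℂ) r
    (fun e => N w (fun i => (e i : ℕ)) * N w' (fun i => (e i : ℕ)))
    (fun e σ => by
      have h1 : (fun i => (((e ∘ σ) i : Fin m) : ℕ)) = (fun i => ((e i : Fin m) : ℕ)) ∘ σ := rfl
      rw [h1, N_comp_perm, N_comp_perm]
      have : ((Equiv.Perm.sign σ : ℤ) : ℂ) * ((Equiv.Perm.sign σ : ℤ) : ℂ) = 1 := by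
        rw [← Int.cast_mul]
        rcases Int.units_eq_one_or (Equiv.Perm.sign σ) with h | h <;> simp [h]
      calc _ = (((Equiv.Perm.sign σ : ℤ) : ℂ) * ((Equiv.Perm.sign σ : ℤ) : ℂ)) *
            (N w (fun i => (e i : ℕ)) * N w' (fun i => (e i : ℕ))) := by ring
        _ = _ := by rw [this, one_mul])
    (fun e he => by
      have : ¬ Function.Injective (fun i => ((e i : Fin m) : ℕ)) := by
        intro h
        exact he (fun a b hab => h (by simp [hab]))
      rw [N_eq_zero_of_not_injective w _ this, zero_mul])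
  rw [sum_N_mul_N, nsmul_eq_mul] at hsort
  have hf0 : (r.factorial : ℂ) ≠ 0 := by exact_mod_cast Nat.factorial_ne_zero _
  exact (mul_left_cancel₀ hf0 hsort).symm

end sorted

section gram

variable {r : ℕ}

theorem gram_roots (n : ℕ) (hn : 1 ≤ n) (z zc : Fin r → ℂ) (hzn : ∀ j, z j ^ n = 1)
    (hzc : ∀ j, z j * zc j = 1) (hinj : Function.Injective z) (a b : Fin r) :
    ∑ x ∈ Finset.range (n - 1), (z a * zc b) ^ x =
      if a = b then ((n : ℂ) - 1) else -(zc a * z b) := by
  split_ifs with hab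
  · subst hab
    rw [hzc]
    simp only [one_pow, Finset.sum_const, Finset.card_range, nsmul_eq_mul, mul_one]
    rw [Nat.cast_sub hn]; simp
  · set w := z a * zc b with hw
    have hzcn : ∀ j, zc j ^ n = 1 := by
      intro j
      have h1 : (z j * zc j) ^ n = 1 := by rw [hzc, one_pow]
      rwa [mul_pow, hzn, one_mul] at h1
    have hwn : w ^ n = 1 := by rw [hw, mul_pow, hzn, hzcn, one_mul]
    have hw1 : w ≠ 1 := by
      intro h
      apply hab
      apply hinj
      have : z a * (z b * zc b) = z b * (z a * zc b) := by ring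
      rw [hzc, ← hw, h, mul_one, mul_one] at this
      exact this
    have h3 := mul_geom_sum w n
    rw [hwn, sub_self] at h3
    have h4 : ∑ x ∈ Finset.range n, w ^ x = 0 := by
      rcases mul_eq_zero.mp h3 with h | h
      · exact absurd (sub_eq_zero.mp h) hw1
      · exact h
    have hn' : n = (n - 1) + 1 := by omega
    rw [hn', Finset.sum_range_succ] at h4
    have h5 : w ^ (n - 1) = zc a * z b := by
      have h6 : w ^ (n - 1) * w = 1 := by rw [← pow_succ, ← hn', hwn]
      have h7 : w * (zc a * z b) = 1 := by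
        rw [hw]
        calc z a * zc b * (zc a * z b) = (z a * zc a) * (z b * zc b) := by ring
          _ = 1 := by rw [hzc, hzc, one_mul]
      calc w ^ (n - 1) = w ^ (n - 1) * (w * (zc a * z b)) := by rw [h7, mul_one]
        _ = (w ^ (n - 1) * w) * (zc a * z b) := by ring
        _ = zc a * z b := by rw [h6, one_mul]
    rw [h5] at h4
    exact eq_neg_of_add_eq_zero_left h4

theorem det_gram (n : ℕ) (hn : 1 ≤ n) (hr : 1 ≤ r) (z zc : Fin r → ℂ)
    (hzc : ∀ j, z j * zc j = 1) :
    (Matrix.of fun a b : Fin r => if a = b then ((n : ℂ) - 1) else -(zc a * z b)).det =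
      (n : ℂ) ^ (r - 1) * ((n : ℂ) - r) := by
  have hn0 : (n : ℂ) ≠ 0 := by exact_mod_cast (show n ≠ 0 by omega)
  have hM : (Matrix.of fun a b : Fin r => if a = b then ((n : ℂ) - 1) else -(zc a * z b)) =
      (n : ℂ) • (1 + Matrix.replicateCol Unit (fun a => -(zc a) / n) *
        Matrix.replicateRow Unit z) := by
    ext a b
    simp only [Matrix.of_apply, Matrix.smul_apply, Matrix.add_apply, Matrix.one_apply,
      Matrix.mul_apply, Matrix.replicateCol_apply, Matrix.replicateRow_apply, Finset.univ_unique,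
      Finset.sum_singleton, smul_eq_mul]
    split_ifs with hab
    · subst hab
      have := hzc a
      field_simp
      linear_combination this
    · field_simp
      ring
  rw [hM, Matrix.det_smul, Matrix.det_one_add_replicateCol_mul_replicateRow, Fintype.card_fin]
  have hdot : z ⬝ᵥ (fun a => -(zc a) / (n : ℂ)) = -(r : ℂ) / n := by
    simp only [dotProduct]
    have : ∀ a, z a * (-(zc a) / (n : ℂ)) = -1 / n := by
      intro a
      rw [mul_div_assoc', mul_neg, hzc]
    simp only [this, Finset.sum_const, Finset.card_univ, Fintype.card_fin, nsmul_eq_mul]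
    ring
  rw [hdot]
  obtain ⟨m, rfl⟩ : ∃ m, r = m + 1 := ⟨r - 1, by omega⟩
  simp only [Nat.add_sub_cancel]
  rw [pow_succ]
  field_simp
  ring

end gram

section schur

variable {r : ℕ}

/-- a strictly antitone `Fin r → ℕ`-like tuple drops by at least the index distance -/
theorem strictAnti_add_le {m : ℕ} (ν : Fin r → Fin m) (hν : StrictAnti ν) (i j : Fin r) (hij : i ≤ j) :
    (ν j : ℕ) + ((j : ℕ) - (i : ℕ)) ≤ (ν i : ℕ) := by
  obtain ⟨d, hd⟩ : ∃ d : ℕ, (j : ℕ) = (i : ℕ) + d := ⟨(j : ℕ) - (i : ℕ), by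
    have : (i : ℕ) ≤ (j : ℕ) := hij
    omega⟩
  induction d generalizing j with
  | zero =>
    have : j = i := Fin.ext (by omega)
    subst this
    simp
  | succ d ih =>
    have hj1 : (i : ℕ) + d < r := by have := j.2; omega
    have h1 := ih ⟨(i : ℕ) + d, hj1⟩ (by simp [Fin.le_def]) rfl
    have h2 : ν j < ν ⟨(i : ℕ) + d, hj1⟩ := hν (by simp [Fin.lt_def]; omega)
    have h3 : (ν j : ℕ) < (ν ⟨(i : ℕ) + d, hj1⟩ : ℕ) := h2
    simp only at h1
    omega

theorem sum_schur_dual (k : ℕ) (hr : 1 ≤ r) (hk : 1 ≤ k) (z zc : Fin r → ℂ)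
    (hzn : ∀ j, z j ^ (r + k) = 1) (hzc : ∀ j, z j * zc j = 1) (hinj : Function.Injective z) :
    ∑ μ ∈ (Finset.univ : Finset (Fin r → Fin k)).filter (fun μ : Fin r → Fin k => Antitone μ),
      N z (fun i => (μ i : ℕ) + (r - 1 - (i : ℕ))) *
        N z (fun i => (k - (μ (Fin.rev i) : ℕ)) + (r - 1 - (i : ℕ))) =
      ((Equiv.Perm.sign (Fin.revPerm : Equiv.Perm (Fin r)) : ℤ) : ℂ) * (∏ j, zc j) *
        (((r : ℂ) + k) ^ (r - 1) * k) := by
  classical
  set n := r + k with hn
  have hn1 : 1 ≤ n := by omega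
  -- second factor in terms of ν
  have hsecond : ∀ ν : Fin r → Fin (n - 1),
      N z (fun i => (n - 1 - (ν (Fin.rev i) : ℕ))) =
      ((Equiv.Perm.sign (Fin.revPerm : Equiv.Perm (Fin r)) : ℤ) : ℂ) * ((∏ j, zc j) *
        N zc (fun i => (ν i : ℕ))) := by
    intro ν
    have h1 : (fun i : Fin r => (n - 1 - (ν (Fin.rev i) : ℕ))) =
        (fun i : Fin r => (n - 1 - (ν i : ℕ))) ∘ (Fin.revPerm : Equiv.Perm (Fin r)) := by
      funext i; simp [Fin.revPerm_apply]
    rw [h1, N_comp_perm]
    congr 1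
    rw [← N_mul_row]
    unfold N
    congr 1
    ext i j
    simp only [Matrix.of_apply]
    have hν : (ν i : ℕ) < n - 1 := (ν i).2
    have e1 : z j ^ (n - 1 - (ν i : ℕ)) * z j ^ ((ν i : ℕ) + 1) = 1 := by
      rw [← pow_add]
      have : n - 1 - (ν i : ℕ) + ((ν i : ℕ) + 1) = n := by omega
      rw [this, hzn]
    have e2 : z j ^ ((ν i : ℕ) + 1) * (zc j * zc j ^ (ν i : ℕ)) = 1 := by
      rw [← pow_succ', ← mul_pow, hzc, one_pow]
    calc z j ^ (n - 1 - (ν i : ℕ))
        = z j ^ (n - 1 - (ν i : ℕ)) * (z j ^ ((ν i : ℕ) + 1) * (zc j * zc j ^ (ν i : ℕ))) := by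
          rw [e2, mul_one]
      _ = (z j ^ (n - 1 - (ν i : ℕ)) * z j ^ ((ν i : ℕ) + 1)) * (zc j * zc j ^ (ν i : ℕ)) := by ring
      _ = zc j * zc j ^ (ν i : ℕ) := by rw [e1, one_mul]
  -- reindex
  have hreindex : ∑ μ ∈ (Finset.univ : Finset (Fin r → Fin k)).filter
        (fun μ : Fin r → Fin k => Antitone μ),
      N z (fun i => (μ i : ℕ) + (r - 1 - (i : ℕ))) *
        N z (fun i => (k - (μ (Fin.rev i) : ℕ)) + (r - 1 - (i : ℕ))) =
      ∑ ν ∈ (Finset.univ : Finset (Fin r → Fin (n - 1))).filter (fun ν => StrictAnti ν),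
        N z (fun i => (ν i : ℕ)) * N z (fun i => (n - 1 - (ν (Fin.rev i) : ℕ))) := by
    refine Finset.sum_bij
      (fun μ _ => (fun i => ⟨(μ i : ℕ) + (r - 1 - (i : ℕ)), by
        have := (μ i).2; have := i.2; omega⟩ : Fin r → Fin (n - 1))) ?_ ?_ ?_ ?_
    · intro μ hμ
      rw [Finset.mem_filter] at hμ ⊢
      refine ⟨Finset.mem_univ _, ?_⟩
      intro i j hij
      have h1 : μ j ≤ μ i := hμ.2 hij.le
      have h2 : (μ j : ℕ) ≤ (μ i : ℕ) := h1
      have h3 : (i : ℕ) < (j : ℕ) := hij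
      rw [Fin.lt_def]
      simp only
      have := j.2
      omega
    · intro μ _ μ' _ h
      funext i
      have := congrFun h i
      simp only [Fin.mk.injEq] at this
      exact Fin.ext (by omega)
    · intro ν hν
      rw [Finset.mem_filter] at hν
      have hν' := hν.2
      have hlow : ∀ i : Fin r, r - 1 - (i : ℕ) ≤ (ν i : ℕ) := by
        intro i
        have hlast : (r - 1) < r := by omega
        have := strictAnti_add_le ν hν' i ⟨r - 1, hlast⟩ (by
          rw [Fin.le_def]; simp only; have := i.2; omega)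
        simp only at this
        omega
      have hhigh : ∀ i : Fin r, (ν i : ℕ) - (r - 1 - (i : ℕ)) < k := by
        intro i
        have h0 : 0 < r := by omega
        have := strictAnti_add_le ν hν' ⟨0, h0⟩ i (by rw [Fin.le_def]; simp)
        simp only at this
        have h2 := (ν ⟨0, h0⟩).2
        have := i.2
        omega
      refine ⟨fun i => ⟨(ν i : ℕ) - (r - 1 - (i : ℕ)), hhigh i⟩, ?_, ?_⟩
      · rw [Finset.mem_filter]
        refine ⟨Finset.mem_univ _, ?_⟩
        intro i j hij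
        rw [Fin.le_def]
        simp only
        have := strictAnti_add_le ν hν' i j hij
        have h1 := hlow i
        have h2 := hlow j
        have h3 : (i : ℕ) ≤ (j : ℕ) := hij
        have := j.2
        omega
      · funext i
        apply Fin.ext
        simp only
        have := hlow i
        omega
    · intro μ hμ
      simp only
      congr 2
      funext i
      have h1 := (μ (Fin.rev i)).2
      have h2 : ((Fin.rev i : Fin r) : ℕ) = r - 1 - (i : ℕ) := by
        rw [Fin.val_rev]; have := i.2; omega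
      rw [h2]
      have := i.2
      omega
  rw [hreindex]
  simp only [hsecond]
  have h2 : ∀ ν : Fin r → Fin (n - 1),
      N z (fun i => (ν i : ℕ)) * (((Equiv.Perm.sign (Fin.revPerm : Equiv.Perm (Fin r)) : ℤ) : ℂ) *
        ((∏ j, zc j) * N zc (fun i => (ν i : ℕ)))) =
      (((Equiv.Perm.sign (Fin.revPerm : Equiv.Perm (Fin r)) : ℤ) : ℂ) * (∏ j, zc j)) *
        (N z (fun i => (ν i : ℕ)) * N zc (fun i => (ν i : ℕ))) := by
    intro ν; ring
  simp only [h2]
  rw [← Finset.mul_sum, sum_strictAnti_N_mul_N]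
  congr 1
  have hG : (Matrix.of fun a b : Fin r => ∑ x ∈ Finset.range (n - 1), (z a * zc b) ^ x) =
      Matrix.of fun a b : Fin r => if a = b then ((n : ℂ) - 1) else -(zc a * z b) := by
    ext a b
    simp only [Matrix.of_apply]
    exact gram_roots n hn1 z zc hzn hzc hinj a b
  rw [hG, det_gram n hn1 hr z zc hzc, hn]
  push_cast
  ring

end schur

section delta

variable {r : ℕ}

theorem N_dual_delta (z zc : Fin r → ℂ) (hzc : ∀ j, z j * zc j = 1) :
    N zc (fun i : Fin r => r - 1 - (i : ℕ)) =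
      (∏ j, zc j ^ (r - 1)) * (((Equiv.Perm.sign (Fin.revPerm : Equiv.Perm (Fin r)) : ℤ) : ℂ) *
        N z (fun i : Fin r => r - 1 - (i : ℕ))) := by
  have h1 : N z (fun i : Fin r => (i : ℕ)) =
      ((Equiv.Perm.sign (Fin.revPerm : Equiv.Perm (Fin r)) : ℤ) : ℂ) *
        N z (fun i : Fin r => r - 1 - (i : ℕ)) := by
    rw [← N_comp_perm]
    congr 1
    funext i
    simp only [Function.comp_apply, Fin.revPerm_apply, Fin.val_rev]
    have := i.2
    omega
  rw [← h1, ← N_mul_row]
  unfold N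
  congr 1
  ext i j
  simp only [Matrix.of_apply]
  have hi : (i : ℕ) ≤ r - 1 := by have := i.2; omega
  have e1 : zc j ^ (r - 1) = zc j ^ (r - 1 - (i : ℕ)) * zc j ^ (i : ℕ) := by
    rw [← pow_add]; congr 1; omega
  rw [e1, mul_assoc, ← mul_pow, mul_comm (zc j) (z j), hzc, one_pow, mul_one]

end delta

section main2

variable (n : ℕ) [NeZero n]

theorem normSq_N_delta {r : ℕ} (v : Fin r → Fin n) :
    Complex.normSq (N (fun j => zeta n ^ ((v j : Fin n) : ℕ)) (fun i : Fin r => r - 1 - (i : ℕ))) =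
      D n v := by
  have h1 : N (fun j => zeta n ^ ((v j : Fin n) : ℕ)) (fun i : Fin r => (i : ℕ)) =
      ((Equiv.Perm.sign (Fin.revPerm : Equiv.Perm (Fin r)) : ℤ) : ℂ) *
        N (fun j => zeta n ^ ((v j : Fin n) : ℕ)) (fun i : Fin r => r - 1 - (i : ℕ)) := by
    rw [← N_comp_perm]
    congr 1
    funext i
    simp only [Function.comp_apply, Fin.revPerm_apply, Fin.val_rev]
    have := i.2
    omega
  have h2 : Complex.normSq (((Equiv.Perm.sign (Fin.revPerm : Equiv.Perm (Fin r)) : ℤ) : ℂ)) = 1 := by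
    rcases Int.units_eq_one_or (Equiv.Perm.sign (Fin.revPerm : Equiv.Perm (Fin r))) with h | h <;>
      simp [h]
  have h3 := congrArg Complex.normSq h1
  rw [map_mul, h2, one_mul] at h3
  rw [← h3]
  unfold D N
  rw [← Matrix.det_transpose]
  rfl

end main2

end Groth.Agent.Lib.helper27.VerlindeLib
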