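import Mathlib
import Groth.Agent.Lib.helper27.Verlinde2

/-!
# Verlinde combinatorics III (helper27): quasi-periodic alcove sums (character orthogonality)
-/

set_option autoImplicit false
set_option linter.unusedSectionVars false

namespace Groth.Agent.Lib.helper27.VerlindeLib

open Finset

section quasi

variable {r : ℕ}

theorem N_add_const {R : Type*} [CommRing R] (y : Fin r → R) (e : Fin r → ℕ) (c : ℕ) :
    N y (fun i => e i + c) = (∏ j, y j) ^ c * N y e := by
  rw [← Finset.prod_pow, ← N_mul_row]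
  unfold N
  congr 1
  ext i j
  simp only [Matrix.of_apply]
  rw [pow_add, mul_comm]

theorem N_add_indicator {R : Type*} [CommRing R] (y : Fin r → R) (ε : R) (n : ℕ)
    (hy : ∀ j, y j ^ n = ε) (e : Fin r → ℕ) (S : Finset (Fin r)) :
    N y (fun i => e i + if i ∈ S then n else 0) = ε ^ S.card * N y e := by
  classical
  have h1 : (Matrix.of fun i j : Fin r => y j ^ (e i + if i ∈ S then n else 0)) =
      Matrix.of fun i j : Fin r => (if i ∈ S then ε else 1) *
        (Matrix.of fun i j : Fin r => y j ^ e i) i j := by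
    ext i j
    simp only [Matrix.of_apply]
    split_ifs
    · rw [pow_add, hy, mul_comm]
    · rw [add_zero, one_mul]
  unfold N
  rw [h1, Matrix.det_mul_column, Finset.prod_ite_mem, Finset.univ_inter, Finset.prod_const]

variable {n : ℕ} [NeZero n]

theorem val_sub_add (a c : Fin n) :
    ((a - c : Fin n) : ℕ) + (c : ℕ) = (a : ℕ) + if a < c then n else 0 := by
  split_ifs with h
  · rw [Fin.coe_sub_iff_lt.mpr h]
    have : (a : ℕ) < (c : ℕ) := h
    have := c.2
    omega
  · rw [Fin.coe_sub_iff_le.mpr (not_lt.mp h)]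
    have : (c : ℕ) ≤ (a : ℕ) := not_lt.mp h
    omega

/-- quasi-periodicity of the product of two generalized Vandermonde determinants -/
theorem NN_sub_const (y w : Fin r → ℂ) (ε : ℂ) (hy : ∀ j, y j ^ n = ε) (hw : ∀ j, w j ^ n = 1)
    (hprod : (∏ j, y j) * (∏ j, w j) = 1) (ν : Fin r → Fin n) (c : Fin n) :
    N y (fun i => ((ν i - c : Fin n) : ℕ)) * N w (fun i => ((ν i - c : Fin n) : ℕ)) =
      ε ^ (Finset.univ.filter (fun i => ν i < c)).card *
        (N y (fun i => (ν i : ℕ)) * N w (fun i => (ν i : ℕ))) := by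
  classical
  set S := Finset.univ.filter (fun i => ν i < c) with hS
  have hfun : (fun i => ((ν i - c : Fin n) : ℕ) + (c : ℕ)) =
      fun i => (ν i : ℕ) + if i ∈ S then n else 0 := by
    funext i
    rw [val_sub_add]
    simp [hS]
  have h1 := N_add_const y (fun i => ((ν i - c : Fin n) : ℕ)) (c : ℕ)
  have h2 := N_add_const w (fun i => ((ν i - c : Fin n) : ℕ)) (c : ℕ)
  rw [hfun] at h1 h2
  rw [N_add_indicator y ε n hy] at h1
  rw [N_add_indicator w 1 n hw, one_pow, one_mul] at h2
  have h3 : ((∏ j, y j) ^ (c : ℕ) * (∏ j, w j) ^ (c : ℕ)) = 1 := by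
    rw [← mul_pow, hprod, one_pow]
  calc N y (fun i => ((ν i - c : Fin n) : ℕ)) * N w (fun i => ((ν i - c : Fin n) : ℕ))
      = ((∏ j, y j) ^ (c : ℕ) * (∏ j, w j) ^ (c : ℕ)) *
        (N y (fun i => ((ν i - c : Fin n) : ℕ)) * N w (fun i => ((ν i - c : Fin n) : ℕ))) := by
        rw [h3, one_mul]
    _ = ((∏ j, y j) ^ (c : ℕ) * N y (fun i => ((ν i - c : Fin n) : ℕ))) *
        ((∏ j, w j) ^ (c : ℕ) * N w (fun i => ((ν i - c : Fin n) : ℕ))) := by ring
    _ = _ := by rw [← h1, ← h2]; ring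

/-- sum of `ε ^ rank` over an injective tuple -/
theorem sum_pow_rank {α : Type*} [LinearOrder α] (ν : Fin r → α) (hν : Function.Injective ν)
    (ε : ℂ) :
    ∑ i, ε ^ (Finset.univ.filter (fun i' => ν i' < ν i)).card = ∑ j ∈ Finset.range r, ε ^ j := by
  classical
  set σ := Tuple.sort ν with hσ
  have hmono : StrictMono (ν ∘ σ) :=
    (Tuple.monotone_sort ν).strictMono_of_injective (hν.comp σ.injective)
  rw [← Equiv.sum_comp σ, ← Fin.sum_univ_eq_sum_range (fun j => ε ^ j) r]
  refine Finset.sum_congr rfl fun j _ => ?_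
  congr 1
  have h1 : (Finset.univ.filter (fun j' : Fin r => j' < j)).card =
      (Finset.univ.filter (fun i' => ν i' < ν (σ j))).card := by
    refine Finset.card_equiv σ fun j' => ?_
    simp only [Finset.mem_filter, Finset.mem_univ, true_and]
    exact (hmono.lt_iff_lt (a := j') (b := j)).symm
  rw [← h1, Finset.filter_gt_eq_Iio, Fin.card_Iio]

end quasi

section alcove

variable {r : ℕ} {n : ℕ} [NeZero n]

open Classical in
theorem sum_alcove_eq_zero (y w : Fin r → ℂ) (ε : ℂ) (hy : ∀ j, y j ^ n = ε)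
    (hw : ∀ j, w j ^ n = 1) (hprod : (∏ j, y j) * (∏ j, w j) = 1)
    (hG : (∑ j ∈ Finset.range r, ε ^ j) *
      (Matrix.of fun a b : Fin r => ∑ x ∈ Finset.range n, (y a * w b) ^ x).det = 0) :
    ∑ ν ∈ (Finset.univ : Finset (Fin r → Fin n)).filter
        (fun ν => StrictAnti ν ∧ (0 : Fin n) ∈ Set.range ν),
      N y (fun i => (ν i : ℕ)) * N w (fun i => (ν i : ℕ)) = 0 := by
  set F : (Fin r → Fin n) → ℂ := fun ν => N y (fun i => (ν i : ℕ)) * N w (fun i => (ν i : ℕ)) with hF
  have hFinj : ∀ ν : Fin r → Fin n, ¬ Function.Injective ν → F ν = 0 := by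
    intro ν hν
    have : ¬ Function.Injective (fun i => ((ν i : Fin n) : ℕ)) := by
      intro h
      exact hν (fun a b hab => h (by simp [hab]))
    simp only [hF]
    rw [N_eq_zero_of_not_injective y _ this, zero_mul]
  have hFsymm : ∀ (ν : Fin r → Fin n) (σ : Equiv.Perm (Fin r)), F (ν ∘ σ) = F ν := by
    intro ν σ
    simp only [hF]
    have h1 : (fun i => (((ν ∘ σ) i : Fin n) : ℕ)) = (fun i => ((ν i : Fin n) : ℕ)) ∘ σ := rfl
    rw [h1, N_comp_perm, N_comp_perm]
    have : ((Equiv.Perm.sign σ : ℤ) : ℂ) * ((Equiv.Perm.sign σ : ℤ) : ℂ) = 1 := by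
      rw [← Int.cast_mul]
      rcases Int.units_eq_one_or (Equiv.Perm.sign σ) with h | h <;> simp [h]
    calc _ = (((Equiv.Perm.sign σ : ℤ) : ℂ) * ((Equiv.Perm.sign σ : ℤ) : ℂ)) *
          (N y (fun i => (ν i : ℕ)) * N w (fun i => (ν i : ℕ))) := by ring
      _ = _ := by rw [this, one_mul]
  have hFsub : ∀ (ν : Fin r → Fin n) (c : Fin n), F (fun i => ν i - c) =
      ε ^ (Finset.univ.filter (fun i => ν i < c)).card * F ν := by
    intro ν c
    exact NN_sub_const y w ε hy hw hprod ν c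
  -- Step A
  have hA : (n : ℂ) * ∑ ν : Fin r → Fin n, (if (0 : Fin n) ∈ Set.range ν then F ν else 0) =
      (∑ j ∈ Finset.range r, ε ^ j) * ∑ ν : Fin r → Fin n, F ν := by
    have h1 : ∀ c : Fin n, (∑ ν : Fin r → Fin n, if (0 : Fin n) ∈ Set.range ν then F ν else 0) =
        ∑ ν : Fin r → Fin n, if c ∈ Set.range ν then F (fun i => ν i - c) else 0 := by
      intro c
      refine Fintype.sum_equiv (Equiv.piCongrRight (fun _ : Fin r => Equiv.addRight c)) _ _
        (fun ν => ?_)
      have hw' : (Equiv.piCongrRight (fun _ : Fin r => Equiv.addRight c)) ν = fun i => ν i + c := rfl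
      rw [hw']
      have hiff : (c ∈ Set.range fun i => ν i + c) ↔ (0 : Fin n) ∈ Set.range ν := by
        simp only [Set.mem_range]
        constructor
        · rintro ⟨i, hi⟩
          exact ⟨i, by simpa using hi⟩
        · rintro ⟨i, hi⟩
          exact ⟨i, by simp [hi]⟩
      have hsub : (fun i => ν i + c - c) = ν := by funext i; simp
      simp only [hiff, hsub]
    have h2 : (n : ℂ) * ∑ ν : Fin r → Fin n, (if (0 : Fin n) ∈ Set.range ν then F ν else 0) =
        ∑ c : Fin n, ∑ ν : Fin r → Fin n, if c ∈ Set.range ν then F (fun i => ν i - c) else 0 := by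
      rw [Finset.sum_congr rfl (fun c _ => (h1 c).symm)]
      simp only [Finset.sum_const, Finset.card_univ, Fintype.card_fin, nsmul_eq_mul]
    rw [h2, Finset.sum_comm, Finset.mul_sum]
    refine Finset.sum_congr rfl fun ν _ => ?_
    by_cases hν : Function.Injective ν
    · simp only [hFsub]
      have h3 : ∀ c : Fin n, (if c ∈ Set.range ν then
          ε ^ (Finset.univ.filter (fun i => ν i < c)).card * F ν else 0) =
          (if c ∈ Finset.univ.image ν then
            ε ^ (Finset.univ.filter (fun i => ν i < c)).card else 0) * F ν := by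
        intro c
        have : c ∈ Set.range ν ↔ c ∈ Finset.univ.image ν := by simp
        by_cases hc : c ∈ Set.range ν
        · rw [if_pos hc, if_pos (this.mp hc)]
        · rw [if_neg hc, if_neg (fun h => hc (this.mpr h)), zero_mul]
      simp only [h3]
      rw [← Finset.sum_mul, ← Finset.sum_filter]
      congr 1
      have h4 : (Finset.univ.filter (fun c => c ∈ Finset.univ.image ν)) = Finset.univ.image ν := by
        ext c; simp
      rw [h4, Finset.sum_image (fun a _ b _ h => hν h)]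
      exact sum_pow_rank ν hν ε
    · rw [hFinj ν hν, mul_zero]
      refine Finset.sum_eq_zero fun c _ => ?_
      have : ¬ Function.Injective (fun i => ν i - c) := by
        intro h
        exact hν (fun a b hab => h (by simp [hab]))
      rw [hFinj _ this, ite_self]
  -- Step B
  have hB : ∑ ν : Fin r → Fin n, F ν = (r.factorial : ℂ) *
      (Matrix.of fun a b : Fin r => ∑ x ∈ Finset.range n, (y a * w b) ^ x).det :=
    sum_N_mul_N y w n
  -- Step C
  have hC := sum_eq_factorial_smul_sum_strictAnti (α := Fin n) (M := ℂ) r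
    (fun ν => if (0 : Fin n) ∈ Set.range ν then F ν else 0)
    (fun ν σ => by
      rw [hFsymm]
      exact if_congr (by rw [Set.range_comp, Equiv.range_eq_univ, Set.image_univ]) rfl rfl)
    (fun ν hν => by rw [hFinj ν hν, ite_self])
  have hC2 : ∑ ν ∈ (Finset.univ : Finset (Fin r → Fin n)).filter (fun ν => StrictAnti ν),
      (if (0 : Fin n) ∈ Set.range ν then F ν else 0) =
      ∑ ν ∈ (Finset.univ : Finset (Fin r → Fin n)).filter
        (fun ν => StrictAnti ν ∧ (0 : Fin n) ∈ Set.range ν), F ν := by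
    rw [← Finset.sum_filter, Finset.filter_filter]
  rw [hC2, nsmul_eq_mul] at hC
  have hC' : ∑ ν : Fin r → Fin n, (if (0 : Fin n) ∈ Set.range ν then F ν else 0) =
      (r.factorial : ℂ) * ∑ ν ∈ (Finset.univ : Finset (Fin r → Fin n)).filter
        (fun ν => StrictAnti ν ∧ (0 : Fin n) ∈ Set.range ν), F ν := hC
  rw [hC', hB] at hA
  have hn0 : (n : ℂ) ≠ 0 := by exact_mod_cast NeZero.ne n
  have hf0 : (r.factorial : ℂ) ≠ 0 := by exact_mod_cast Nat.factorial_ne_zero _
  have hfin : ((n : ℂ) * (r.factorial : ℂ)) * ∑ ν ∈ (Finset.univ : Finset (Fin r → Fin n)).filter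
        (fun ν => StrictAnti ν ∧ (0 : Fin n) ∈ Set.range ν), F ν = 0 := by
    rw [mul_assoc, hA]
    calc _ = (r.factorial : ℂ) * ((∑ j ∈ Finset.range r, ε ^ j) *
          (Matrix.of fun a b : Fin r => ∑ x ∈ Finset.range n, (y a * w b) ^ x).det) := by ring
      _ = 0 := by rw [hG, mul_zero]
  exact (mul_eq_zero.mp hfin).resolve_left (mul_ne_zero hn0 hf0)

end alcove

section ortho

variable {r : ℕ}

theorem N_smul {R : Type*} [CommRing R] (ω : R) (z : Fin r → R) (e : Fin r → ℕ) :
    N (fun j => ω * z j) e = ω ^ (∑ i, e i) * N z e := by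
  have h1 : (Matrix.of fun i j : Fin r => (ω * z j) ^ e i) =
      Matrix.of fun i j : Fin r => (ω ^ e i) * (Matrix.of fun i j : Fin r => z j ^ e i) i j := by
    ext i j
    simp only [Matrix.of_apply, mul_pow]
  unfold N
  rw [h1, Matrix.det_mul_column, Finset.prod_pow_eq_pow_sum]

theorem N_dual_exponent (n : ℕ) (z zc : Fin r → ℂ) (hzn : ∀ j, z j ^ n = 1)
    (hzc : ∀ j, z j * zc j = 1) (e : Fin r → ℕ) (he : ∀ i, e i < n) :
    N z (fun i => (n - 1 - e (Fin.rev i))) =
      ((Equiv.Perm.sign (Fin.revPerm : Equiv.Perm (Fin r)) : ℤ) : ℂ) * ((∏ j, zc j) * N zc e) := by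
  have h1 : (fun i : Fin r => (n - 1 - e (Fin.rev i))) =
      (fun i : Fin r => (n - 1 - e i)) ∘ (Fin.revPerm : Equiv.Perm (Fin r)) := by
    funext i; simp [Fin.revPerm_apply]
  rw [h1, N_comp_perm]
  congr 1
  rw [← N_mul_row]
  unfold N
  congr 1
  ext i j
  simp only [Matrix.of_apply]
  have hν : e i < n := he i
  have e1 : z j ^ (n - 1 - e i) * z j ^ (e i + 1) = 1 := by
    rw [← pow_add]
    have : n - 1 - e i + (e i + 1) = n := by omega
    rw [this, hzn]
  have e2 : z j ^ (e i + 1) * (zc j * zc j ^ e i) = 1 := by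
    rw [← pow_succ', ← mul_pow, hzc, one_pow]
  calc z j ^ (n - 1 - e i)
      = z j ^ (n - 1 - e i) * (z j ^ (e i + 1) * (zc j * zc j ^ e i)) := by
        rw [e2, mul_one]
    _ = (z j ^ (n - 1 - e i) * z j ^ (e i + 1)) * (zc j * zc j ^ e i) := by ring
    _ = zc j * zc j ^ e i := by rw [e1, one_mul]

open Classical in
/-- abstract form of the orthogonality relation -/
theorem orthogonality_abstract (k : ℕ) (hr : 1 ≤ r) [NeZero (r + k)] (z z' zc' : Fin r → ℂ) (ω : ℂ)
    (hzn : ∀ j, z j ^ (r + k) = 1) (hz'n : ∀ j, z' j ^ (r + k) = 1)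
    (hz'c : ∀ j, z' j * zc' j = 1)
    (hprod : ω ^ r * (∏ j, z j) * (∏ j, zc' j) = 1)
    (hG : (∑ j ∈ Finset.range r, (ω ^ (r + k)) ^ j) *
      (Matrix.of fun a b : Fin r => ∑ x ∈ Finset.range (r + k), (ω * z a * zc' b) ^ x).det = 0)
    (c : (Fin r → Fin (k + 1)) → ℂ) (C D D' : ℂ)
    (hc : ∀ μ : Fin r → Fin (k + 1), c μ = C * ω ^ (∑ i, ((μ i : ℕ) + (r - 1 - (i : ℕ))))) :
    ∑ μ ∈ (Finset.univ : Finset (Fin r → Fin (k + 1))).filter
        (fun μ : Fin r → Fin (k + 1) => Antitone μ ∧ ∀ i : Fin r, (i : ℕ) = r - 1 → (μ i : ℕ) = 0),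
      c μ * (N z (fun i => (μ i : ℕ) + (r - 1 - (i : ℕ))) / D) *
        (N z' (fun i => (k - (μ (Fin.rev i) : ℕ)) + (r - 1 - (i : ℕ))) / D') = 0 := by
  set n := r + k with hn
  set y : Fin r → ℂ := fun j => ω * z j with hy
  have hzc'n : ∀ j, zc' j ^ n = 1 := by
    intro j
    have h1 : (z' j * zc' j) ^ n = 1 := by rw [hz'c, one_pow]
    rwa [mul_pow, hz'n, one_mul] at h1
  have hyn : ∀ j, y j ^ n = ω ^ n := by
    intro j
    rw [hy]; simp only; rw [mul_pow, hzn, mul_one]
  have hprod' : (∏ j, y j) * (∏ j, zc' j) = 1 := by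
    rw [hy]
    simp only
    rw [Finset.prod_mul_distrib, Finset.prod_const, Finset.card_univ, Fintype.card_fin]
    exact hprod
  have hG' : (∑ j ∈ Finset.range r, (ω ^ n) ^ j) *
      (Matrix.of fun a b : Fin r => ∑ x ∈ Finset.range n, (y a * zc' b) ^ x).det = 0 := hG
  have hmain := sum_alcove_eq_zero (n := n) y zc' (ω ^ n) hyn hzc'n hprod' hG'
  -- reindex
  have hreindex : ∑ μ ∈ (Finset.univ : Finset (Fin r → Fin (k + 1))).filter
        (fun μ : Fin r → Fin (k + 1) => Antitone μ ∧ ∀ i : Fin r, (i : ℕ) = r - 1 → (μ i : ℕ) = 0),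
      c μ * (N z (fun i => (μ i : ℕ) + (r - 1 - (i : ℕ))) / D) *
        (N z' (fun i => (k - (μ (Fin.rev i) : ℕ)) + (r - 1 - (i : ℕ))) / D') =
      ∑ ν ∈ (Finset.univ : Finset (Fin r → Fin n)).filter
        (fun ν => StrictAnti ν ∧ (0 : Fin n) ∈ Set.range ν),
        (C * ((Equiv.Perm.sign (Fin.revPerm : Equiv.Perm (Fin r)) : ℤ) : ℂ) * (∏ j, zc' j) / (D * D')) *
          (N y (fun i => (ν i : ℕ)) * N zc' (fun i => (ν i : ℕ))) := by
    refine Finset.sum_bij
      (fun μ _ => (fun i => ⟨(μ i : ℕ) + (r - 1 - (i : ℕ)), by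
        have := (μ i).2; have := i.2; omega⟩ : Fin r → Fin n)) ?_ ?_ ?_ ?_
    · intro μ hμ
      rw [Finset.mem_filter] at hμ ⊢
      refine ⟨Finset.mem_univ _, ?_, ?_⟩
      · intro i j hij
        have h1 : μ j ≤ μ i := hμ.2.1 hij.le
        have h2 : (μ j : ℕ) ≤ (μ i : ℕ) := h1
        have h3 : (i : ℕ) < (j : ℕ) := hij
        rw [Fin.lt_def]
        simp only
        have := j.2
        omega
      · have hlast : r - 1 < r := by omega
        refine ⟨⟨r - 1, hlast⟩, ?_⟩
        apply Fin.ext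
        simp only
        rw [hμ.2.2 ⟨r - 1, hlast⟩ rfl]
        simp
    · intro μ _ μ' _ h
      funext i
      have := congrFun h i
      simp only [Fin.mk.injEq] at this
      exact Fin.ext (by omega)
    · intro ν hν
      rw [Finset.mem_filter] at hν
      have hν' := hν.2.1
      have hlast : r - 1 < r := by omega
      have hzero : (ν ⟨r - 1, hlast⟩ : ℕ) = 0 := by
        obtain ⟨i, hi⟩ := hν.2.2
        have h1 : ν ⟨r - 1, hlast⟩ ≤ ν i := hν'.antitone (by
          rw [Fin.le_def]; simp only; have := i.2; omega)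
        rw [hi] at h1
        have : (ν ⟨r - 1, hlast⟩ : ℕ) ≤ ((0 : Fin n) : ℕ) := h1
        simpa using this
      have hlow : ∀ i : Fin r, r - 1 - (i : ℕ) ≤ (ν i : ℕ) := by
        intro i
        have := strictAnti_add_le ν hν' i ⟨r - 1, hlast⟩ (by
          rw [Fin.le_def]; simp only; have := i.2; omega)
        simp only at this
        omega
      have hhigh : ∀ i : Fin r, (ν i : ℕ) - (r - 1 - (i : ℕ)) < k + 1 := by
        intro i
        have h0 : 0 < r := by omega
        have := strictAnti_add_le ν hν' ⟨0, h0⟩ i (by rw [Fin.le_def]; simp)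
        simp only at this
        have h2 := (ν ⟨0, h0⟩).2
        have := i.2
        omega
      refine ⟨fun i => ⟨(ν i : ℕ) - (r - 1 - (i : ℕ)), hhigh i⟩, ?_, ?_⟩
      · rw [Finset.mem_filter]
        refine ⟨Finset.mem_univ _, ?_, ?_⟩
        · intro i j hij
          rw [Fin.le_def]
          simp only
          have := strictAnti_add_le ν hν' i j hij
          have h1 := hlow i
          have h2 := hlow j
          have h3 : (i : ℕ) ≤ (j : ℕ) := hij
          have := j.2
          omega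
        · intro i hi
          have : i = ⟨r - 1, hlast⟩ := Fin.ext hi
          subst this
          simp only
          omega
      · funext i
        apply Fin.ext
        simp only
        have := hlow i
        omega
    · intro μ hμ
      simp only
      have hexp2 : (fun i : Fin r => (k - (μ (Fin.rev i) : ℕ)) + (r - 1 - (i : ℕ))) =
          fun i : Fin r => n - 1 - ((fun i : Fin r => (μ i : ℕ) + (r - 1 - (i : ℕ))) (Fin.rev i)) := by
        funext i
        have h1 := (μ (Fin.rev i)).2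
        have h2 : ((Fin.rev i : Fin r) : ℕ) = r - 1 - (i : ℕ) := by
          rw [Fin.val_rev]; have := i.2; omega
        simp only [h2]
        have := i.2
        omega
      rw [hexp2, N_dual_exponent n z' zc' hz'n hz'c (fun i : Fin r => (μ i : ℕ) + (r - 1 - (i : ℕ)))
        (fun i => by have := (μ i).2; have := i.2; omega), hc μ, hy, N_smul]
      ring
  rw [hreindex, ← Finset.mul_sum, hmain, mul_zero]

end ortho

section concrete

variable {r : ℕ}

/-- the integer argument: no permutation matches `v` with a "balanced cyclic shift" of `v'`. -/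
theorem exists_not_dvd_of_ne (n : ℕ) (hr : 1 ≤ r) (v v' : Fin r → ℕ) (hv : StrictAnti v)
    (hv' : StrictAnti v') (hvlt : ∀ i, v i < n) (hv'lt : ∀ i, v' i < n)
    (hne : ¬ ∃ a : ℤ, ∀ i, (v i : ℤ) - (v' i : ℤ) = a) (π : Equiv.Perm (Fin r)) :
    ∃ a, ¬ (((r * n : ℕ) : ℤ) ∣
      ((∑ j, (v' j : ℤ)) - (∑ j, (v j : ℤ))) + (r : ℤ) * (v a : ℤ) - (r : ℤ) * (v' (π a) : ℤ)) := by
  by_contra hcon
  push Not at hcon
  set s : ℤ := (∑ j, (v' j : ℤ)) - (∑ j, (v j : ℤ)) with hs
  choose m hm using hcon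
  have hr0 : (0 : ℤ) < r := by exact_mod_cast hr
  have hn0 : 0 < n := lt_of_le_of_lt (Nat.zero_le _) (hvlt ⟨0, by omega⟩)
  have hn0' : (0 : ℤ) < n := by exact_mod_cast hn0
  have hrn : (0 : ℤ) < ((r * n : ℕ) : ℤ) := by push_cast; positivity
  -- sum of m is zero
  have hsum : ∑ a, m a = 0 := by
    have h1 : ∑ a, (s + (r : ℤ) * (v a : ℤ) - (r : ℤ) * (v' (π a) : ℤ)) = 0 := by
      rw [Finset.sum_sub_distrib, Finset.sum_add_distrib, Finset.sum_const, Finset.card_univ,
        Fintype.card_fin, ← Finset.mul_sum, ← Finset.mul_sum,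
        Equiv.sum_comp π (fun a => (v' a : ℤ)), hs]
      simp only [nsmul_eq_mul]
      ring
    have h2 : ∑ a, (s + (r : ℤ) * (v a : ℤ) - (r : ℤ) * (v' (π a) : ℤ)) =
        ((r * n : ℕ) : ℤ) * ∑ a, m a := by
      rw [Finset.mul_sum]
      exact Finset.sum_congr rfl fun a _ => hm a
    rw [h1] at h2
    rcases mul_eq_zero.mp h2.symm with h | h
    · exact absurd h hrn.ne'
    · exact h
  have hbound : ∀ a, (v a : ℤ) ≤ n - 1 ∧ (v' a : ℤ) ≤ n - 1 ∧ 0 ≤ (v a : ℤ) ∧ 0 ≤ (v' a : ℤ) := by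
    intro a
    have h1 := hvlt a
    have h2 := hv'lt a
    refine ⟨by omega, by omega, by positivity, by positivity⟩
  have hmzero : ∀ a, m a = 0 := by
    by_contra hnz
    push Not at hnz
    have hpos : ∃ a, 0 < m a := by
      by_contra hno
      push Not at hno
      have := (Finset.sum_eq_zero_iff_of_nonpos (fun a _ => hno a)).mp hsum
      obtain ⟨a, ha⟩ := hnz
      exact ha (this a (Finset.mem_univ a))
    have hneg : ∃ b, m b < 0 := by
      by_contra hno
      push Not at hno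
      have := (Finset.sum_eq_zero_iff_of_nonneg (fun a _ => hno a)).mp hsum
      obtain ⟨a, ha⟩ := hnz
      exact ha (this a (Finset.mem_univ a))
    obtain ⟨a, ha⟩ := hpos
    obtain ⟨b, hb⟩ := hneg
    have h1 := hm a
    have h2 := hm b
    have h3 : ((r * n : ℕ) : ℤ) * m a ≥ ((r * n : ℕ) : ℤ) := le_mul_of_one_le_right hrn.le ha
    have h4 : ((r * n : ℕ) : ℤ) * m b ≤ -((r * n : ℕ) : ℤ) := by
      have : m b ≤ -1 := by omega
      calc ((r * n : ℕ) : ℤ) * m b ≤ ((r * n : ℕ) : ℤ) * (-1) :=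
            mul_le_mul_of_nonneg_left this hrn.le
        _ = -((r * n : ℕ) : ℤ) := by ring
    obtain ⟨ha1, _, _, ha4⟩ := hbound a
    obtain ⟨_, hb2, hb3, _⟩ := hbound b
    obtain ⟨_, _, _, hpa4⟩ := hbound (π a)
    obtain ⟨_, hpb2, _, _⟩ := hbound (π b)
    push_cast at h3 h4 h1 h2
    have e1 : s ≥ r := by nlinarith
    have e2 : s ≤ -r := by nlinarith
    omega
  -- all differences are equal
  have hdiff : ∀ a, (r : ℤ) * ((v a : ℤ) - (v' (π a) : ℤ)) = -s := by
    intro a
    have := hm a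
    rw [hmzero a, mul_zero] at this
    linarith
  have hconst : ∀ a b, (v a : ℤ) - (v' (π a) : ℤ) = (v b : ℤ) - (v' (π b) : ℤ) := by
    intro a b
    have := (hdiff a).trans (hdiff b).symm
    exact mul_left_cancel₀ hr0.ne' this
  -- π is strictly monotone, hence the identity
  have hπmono : StrictMono π := by
    intro a b hab
    have h1 : v b < v a := hv hab
    have h2 := hconst a b
    have h3 : v' (π b) < v' (π a) := by
      have : (v' (π b) : ℤ) < (v' (π a) : ℤ) := by
        have : (v b : ℤ) < (v a : ℤ) := by exact_mod_cast h1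
        linarith
      exact_mod_cast this
    exact (StrictAnti.lt_iff_gt hv').mp h3
  have hπid : (π : Fin r → Fin r) = id := by
    refine (hπmono.range_inj strictMono_id).mp ?_
    rw [Equiv.range_eq_univ, Set.range_id]
  apply hne
  refine ⟨(v ⟨0, by omega⟩ : ℤ) - (v' (π ⟨0, by omega⟩) : ℤ), fun i => ?_⟩
  have := hconst i ⟨0, by omega⟩
  have hi : π i = i := congrFun hπid i
  rw [hi] at this
  exact this

end concrete

section concrete2

variable {r : ℕ}

theorem hG_concrete (n : ℕ) (hr : 1 ≤ r) (ξ : ℂ) (hξ : IsPrimitiveRoot ξ (r * n))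
    (v v' : Fin r → ℕ) (hv : StrictAnti v)
    (hv' : StrictAnti v') (hvlt : ∀ i, v i < n) (hv'lt : ∀ i, v' i < n)
    (hne : ¬ ∃ a : ℤ, ∀ i, (v i : ℤ) - (v' i : ℤ) = a)
    (z zc' : Fin r → ℂ) (ω : ℂ) (hz : ∀ a, z a = ξ ^ (r * v a))
    (hzc' : ∀ b, zc' b * ξ ^ (r * v' b) = 1)
    (hω : ω = ξ ^ ((∑ j, (v' j : ℤ)) - (∑ j, (v j : ℤ)))) :
    (∑ j ∈ Finset.range r, (ω ^ n) ^ j) *
      (Matrix.of fun a b : Fin r => ∑ x ∈ Finset.range n, (ω * z a * zc' b) ^ x).det = 0 := by
  classical
  have hn0 : 0 < n := lt_of_le_of_lt (Nat.zero_le _) (hvlt ⟨0, by omega⟩)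
  have hrn0 : r * n ≠ 0 := by positivity
  have hξ0 : ξ ≠ 0 := hξ.ne_zero hrn0
  set s : ℤ := (∑ j, (v' j : ℤ)) - (∑ j, (v j : ℤ)) with hs
  have hu : ∀ a b, ω * z a * zc' b = ξ ^ (s + (r : ℤ) * (v a : ℤ) - (r : ℤ) * (v' b : ℤ)) := by
    intro a b
    have h1 : ξ ^ (s + (r : ℤ) * (v a : ℤ) - (r : ℤ) * (v' b : ℤ)) * ξ ^ (r * v' b) = ω * z a := by
      rw [← zpow_natCast ξ (r * v' b), ← zpow_add₀ hξ0, hω, hz, ← zpow_natCast ξ (r * v a),
        ← zpow_add₀ hξ0]
      congr 1
      push_cast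
      ring
    have h2 : (ω * z a * zc' b) * ξ ^ (r * v' b) = ω * z a := by
      rw [mul_assoc, hzc', mul_one]
    exact mul_right_cancel₀ (pow_ne_zero _ hξ0) (h2.trans h1.symm)
  have hξrn : ξ ^ ((r * n : ℕ) : ℤ) = 1 := by rw [zpow_natCast]; exact hξ.pow_eq_one
  have hε : ω ^ n = ξ ^ (s * n) := by
    rw [hω, zpow_mul, zpow_natCast]
  have hun : ∀ a b, (ω * z a * zc' b) ^ n = ω ^ n := by
    intro a b
    rw [hu, hε, ← zpow_natCast (ξ ^ _) n, ← zpow_mul]
    have : (s + (r : ℤ) * (v a : ℤ) - (r : ℤ) * (v' b : ℤ)) * (n : ℤ) =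
        s * n + ((r * n : ℕ) : ℤ) * ((v a : ℤ) - (v' b : ℤ)) := by push_cast; ring
    rw [this, zpow_add₀ hξ0, zpow_mul ξ ((r * n : ℕ) : ℤ), hξrn, one_zpow, mul_one]
  by_cases hε1 : ω ^ n = 1
  · -- determinant vanishes
    apply mul_eq_zero_of_right
    have hGab : ∀ a b, ∑ x ∈ Finset.range n, (ω * z a * zc' b) ^ x =
        if ω * z a * zc' b = 1 then (n : ℂ) else 0 := by
      intro a b
      split_ifs with h
      · rw [h]; simp
      · have h3 := mul_geom_sum (ω * z a * zc' b) n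
        rw [hun, hε1, sub_self] at h3
        rcases mul_eq_zero.mp h3 with h' | h'
        · exact absurd (sub_eq_zero.mp h') h
        · exact h'
    rw [← Matrix.det_transpose, Matrix.det_apply']
    refine Finset.sum_eq_zero fun π _ => ?_
    obtain ⟨a, ha⟩ := exists_not_dvd_of_ne n hr v v' hv hv' hvlt hv'lt hne π
    have : ∏ i, (Matrix.of fun a b : Fin r => ∑ x ∈ Finset.range n,
        (ω * z a * zc' b) ^ x).transpose (π i) i = 0 := by
      refine Finset.prod_eq_zero (Finset.mem_univ a) ?_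
      rw [Matrix.transpose_apply, Matrix.of_apply, hGab, if_neg]
      rw [hu]
      intro h1
      exact ha ((hξ.zpow_eq_one_iff_dvd _).mp h1)
    rw [this, mul_zero]
  · apply mul_eq_zero_of_left
    have hεr : (ω ^ n) ^ r = 1 := by
      rw [hε, ← zpow_natCast (ξ ^ _) r, ← zpow_mul]
      have : s * (n : ℤ) * (r : ℤ) = ((r * n : ℕ) : ℤ) * s := by push_cast; ring
      rw [this, zpow_mul, hξrn, one_zpow]
    have h3 := mul_geom_sum (ω ^ n) r
    rw [hεr, sub_self] at h3
    rcases mul_eq_zero.mp h3 with h' | h'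
    · exact absurd (sub_eq_zero.mp h') hε1
    · exact h'

end concrete2

end Groth.Agent.Lib.helper27.VerlindeLib
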