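import Mathlib
import Groth.Agent.Lib.helper27.Verlinde3

/-!
# Verlinde combinatorics IV (helper27): transposition, base permutation, `P = Δ * conj Δ`
-/

set_option autoImplicit false
set_option linter.unusedSectionVars false

namespace Groth.Agent.Lib.helper27.VerlindeLib

open Finset

section more

variable {r : ℕ}

theorem N_transpose_pow {R : Type*} [CommRing R] (ξ : R) (e f : Fin r → ℕ) :
    N (fun j => ξ ^ f j) e = N (fun i => ξ ^ e i) f := by
  unfold N
  rw [← Matrix.det_transpose]
  congr 1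
  ext i j
  simp only [Matrix.transpose_apply, Matrix.of_apply]
  rw [← pow_mul, ← pow_mul, mul_comm]

theorem N_comp_perm_base {R : Type*} [CommRing R] (w : Fin r → R) (σ : Equiv.Perm (Fin r))
    (e : Fin r → ℕ) :
    N (w ∘ σ) e = ((Equiv.Perm.sign σ : ℤ) : R) * N w e := by
  unfold N
  rw [← Matrix.det_permute']
  rfl

variable (n : ℕ) [NeZero n]

theorem ofReal_D_eq (v : Fin r → Fin n) (z zc : Fin r → ℂ)
    (hz : ∀ j, z j = zeta n ^ ((v j : Fin n) : ℕ)) (hzc : ∀ j, z j * zc j = 1) :
    ((D n v : ℝ) : ℂ) = N z (fun i : Fin r => r - 1 - (i : ℕ)) * ((∏ j, zc j ^ (r - 1)) *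
        (((Equiv.Perm.sign (Fin.revPerm : Equiv.Perm (Fin r)) : ℤ) : ℂ) *
          N z (fun i : Fin r => r - 1 - (i : ℕ)))) := by
  have hconj : ∀ j, (starRingEnd ℂ) (z j) = zc j := by
    intro j
    have h1 : z j * (starRingEnd ℂ) (z j) = 1 := by
      rw [hz, map_pow, ← mul_pow, zeta_mul_conj, one_pow]
    have hz0 : z j ≠ 0 := fun h => by rw [h, zero_mul] at h1; exact zero_ne_one h1
    exact mul_left_cancel₀ hz0 (h1.trans (hzc j).symm)
  have h1 : D n v = Complex.normSq (N z (fun i : Fin r => r - 1 - (i : ℕ))) := by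
    rw [← normSq_N_delta]
    congr 2
    funext j
    rw [hz]
  rw [h1, ← Complex.mul_conj, ← N_dual_delta z zc hzc]
  congr 1
  unfold N
  rw [RingHom.map_det]
  congr 1
  ext i j
  simp only [RingHom.mapMatrix_apply, Matrix.map_apply, Matrix.of_apply, map_pow, hconj]

theorem N_delta_ne_zero (z : Fin r → ℂ) (hz : Function.Injective z) :
    N z (fun i : Fin r => r - 1 - (i : ℕ)) ≠ 0 := by
  have h1 : N z (fun i : Fin r => (i : ℕ)) =
      ((Equiv.Perm.sign (Fin.revPerm : Equiv.Perm (Fin r)) : ℤ) : ℂ) *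
        N z (fun i : Fin r => r - 1 - (i : ℕ)) := by
    rw [← N_comp_perm]
    congr 1
    funext i
    simp only [Function.comp_apply, Fin.revPerm_apply, Fin.val_rev]
    have := i.2
    omega
  have h2 : N z (fun i : Fin r => (i : ℕ)) ≠ 0 := by
    unfold N
    rw [← Matrix.det_transpose]
    exact Matrix.det_vandermonde_ne_zero_iff.mpr hz
  intro h
  rw [h, mul_zero] at h1
  exact h2 h1

end more

end Groth.Agent.Lib.helper27.VerlindeLib
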